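import Cfsg.Agent.Lib.Helper33.Co2Chk

set_option autoImplicit false

namespace Cfsg.Agent.Lib.Helper33

open Cfsg

/-- the base minimal vector `4 e_i - 4 e_j` -/
noncomputable def lv0 : ↥leechLattice := lv (f384 co2B 0)

theorem co2_full : (∀ k < 197760, valV k = true → vec (decV k) ∈ leechLattice) ∧
    Enum L2 (fun k => lv (decV k)) 197760 valV ∧
    lv (f384 co2B 0) ∈ L2 ∧
    (∀ x ∈ L2, ∃ g : ↥Co0, g • x = lv (f384 co2B 0)) ∧
    (∀ j < 7, OrbCls ↥Co0 (fun a => {y | y ∈ L2 ∧ ldot a y = (dg co2Cc j : ℤ) - 10752}) (lv (f384 co2B 0))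
      (cntBelow (fun k => valV k && Nat.beq (rLab (get3 co2R 40 k)) j) 197760)) ∧
    (∀ y ∈ L2, ∃ j < 7, ldot (lv (f384 co2B 0)) y = (dg co2Cc j : ℤ) - 10752) :=
  full_forest co2G co2R co2Rts 3 7 co2B co2Fz co2Cc co2_gens co2_base co2_fix co2_roots
    co2_nodes co2_fz co2_fuse co2_b32 co2_rel

theorem decV_mem {k : ℕ} (hk : k < 197760) (hv : valV k = true) : vec (decV k) ∈ leechLattice :=
  co2_full.1 k hk hv

theorem enumL2 : Enum L2 (fun k => lv (decV k)) 197760 valV := co2_full.2.1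

theorem lv0_mem : lv0 ∈ L2 := co2_full.2.2.1

theorem to_lv0 {x : ↥leechLattice} (hx : x ∈ L2) : ∃ g : ↥Co0, g • x = lv0 := co2_full.2.2.2.1 x hx

theorem L2_ncard : L2.ncard = 196560 := by
  rw [enumL2.ncard, ← co2_cnt_all, cntChunks_eq]

theorem cls0 : OrbCls ↥Co0 (fun a => {y | y ∈ L2 ∧ ldot a y = 0}) lv0 93150 := by
  have h := co2_full.2.2.2.2.1 2 (by norm_num)
  rw [co2_cc.1, show (197760 : ℕ) = 412 * 480 by norm_num, ← cntChunks_eq, co2_cnt2] at h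
  have e : ((10752 : ℕ) : ℤ) - 10752 = 0 := by norm_num
  rw [e] at h
  exact h

theorem clsm8 : OrbCls ↥Co0 (fun a => {y | y ∈ L2 ∧ ldot a y = -8}) lv0 47104 := by
  have h := co2_full.2.2.2.2.1 3 (by norm_num)
  rw [co2_cc.2.1, show (197760 : ℕ) = 412 * 480 by norm_num, ← cntChunks_eq, co2_cnt3] at h
  have e : ((10744 : ℕ) : ℤ) - 10752 = -8 := by norm_num
  rw [e] at h
  exact h

theorem clsm16 : OrbCls ↥Co0 (fun a => {y | y ∈ L2 ∧ ldot a y = -16}) lv0 4600 := by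
  have h := co2_full.2.2.2.2.1 6 (by norm_num)
  rw [co2_cc.2.2, show (197760 : ℕ) = 412 * 480 by norm_num, ← cntChunks_eq, co2_cnt6] at h
  have e : ((10736 : ℕ) : ℤ) - 10752 = -16 := by norm_num
  rw [e] at h
  exact h

end Cfsg.Agent.Lib.Helper33
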