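import Cfsg.Agent.Lib.Helper9.Leech2

set_option autoImplicit false

namespace Cfsg.Agent.Lib.Helper33

open Cfsg Matrix

theorem sqNorm_eq_dot (x : GolayPt → ℤ) : sqNorm x = x ⬝ᵥ x := by
  unfold sqNorm dotProduct
  exact Finset.sum_congr rfl (fun i _ => by ring)

theorem dotInt_eq_dot (x y : GolayPt → ℤ) : dotInt x y = x ⬝ᵥ y := rfl

theorem sqNorm_add (x y : GolayPt → ℤ) : sqNorm (x + y) = sqNorm x + 2 * dotInt x y + sqNorm y := by
  unfold sqNorm dotInt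
  rw [Finset.mul_sum, ← Finset.sum_add_distrib, ← Finset.sum_add_distrib]
  exact Finset.sum_congr rfl (fun i _ => by simp only [Pi.add_apply]; ring)

theorem co0_smul_add (g : ↥Co0) (v w : ↥leechLattice) : g • (v + w) = g • v + g • w := g.2.1 v w

theorem co0_sqNorm (g : ↥Co0) (v : ↥leechLattice) :
    sqNorm ((g • v : ↥leechLattice) : GolayPt → ℤ) = sqNorm (v : GolayPt → ℤ) := g.2.2 v

theorem co0_dot (g : ↥Co0) (v w : ↥leechLattice) :
    dotInt ((g • v : ↥leechLattice) : GolayPt → ℤ) ((g • w : ↥leechLattice) : GolayPt → ℤ) =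
      dotInt (v : GolayPt → ℤ) (w : GolayPt → ℤ) := by
  have h1 := sqNorm_add ((g • v : ↥leechLattice) : GolayPt → ℤ) ((g • w : ↥leechLattice) : GolayPt → ℤ)
  have h2 := sqNorm_add (v : GolayPt → ℤ) (w : GolayPt → ℤ)
  have h3 := co0_sqNorm g (v + w)
  rw [co0_smul_add] at h3
  have e1 : ((g • v + g • w : ↥leechLattice) : GolayPt → ℤ) =
      ((g • v : ↥leechLattice) : GolayPt → ℤ) + ((g • w : ↥leechLattice) : GolayPt → ℤ) := rfl
  have e2 : ((v + w : ↥leechLattice) : GolayPt → ℤ) = (v : GolayPt → ℤ) + (w : GolayPt → ℤ) := rfl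
  rw [e1, e2, h1, h2, co0_sqNorm, co0_sqNorm] at h3
  linarith

theorem co0_smul_zero (g : ↥Co0) : g • (0 : ↥leechLattice) = 0 := by
  have h := co0_smul_add g 0 0
  rw [add_zero] at h
  exact left_eq_add.1 h

theorem co0_smul_neg (g : ↥Co0) (v : ↥leechLattice) : g • (-v) = -(g • v) := by
  have h := co0_smul_add g v (-v)
  rw [add_neg_cancel, co0_smul_zero] at h
  exact (neg_eq_of_add_eq_zero_right h.symm).symm

theorem co0_smul_sub (g : ↥Co0) (v w : ↥leechLattice) : g • (v - w) = g • v - g • w := by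
  rw [sub_eq_add_neg, co0_smul_add, co0_smul_neg, sub_eq_add_neg]

theorem smul8_inj {x y : GolayPt → ℤ} (h : (8 : ℤ) • x = (8 : ℤ) • y) : x = y := by
  funext i
  have := congrFun h i
  simp only [Pi.smul_apply, smul_eq_mul] at this
  omega

/-- the conditions under which an integral matrix `A` is 8 times an automorphism of the lattice -/
structure IsCoMat (A : Matrix GolayPt GolayPt ℤ) : Prop where
  orth : Aᵀ * A = (64 : ℤ) • (1 : Matrix GolayPt GolayPt ℤ)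
  orth' : A * Aᵀ = (64 : ℤ) • (1 : Matrix GolayPt GolayPt ℤ)
  maps : ∀ x ∈ leechLattice, ∃ y ∈ leechLattice, A *ᵥ x = (8 : ℤ) • y
  maps' : ∀ x ∈ leechLattice, ∃ y ∈ leechLattice, Aᵀ *ᵥ x = (8 : ℤ) • y

theorem IsCoMat.inj {A : Matrix GolayPt GolayPt ℤ} (h : IsCoMat A) {x y : GolayPt → ℤ}
    (hxy : A *ᵥ x = A *ᵥ y) : x = y := by
  have h1 : Aᵀ *ᵥ (A *ᵥ x) = Aᵀ *ᵥ (A *ᵥ y) := by rw [hxy]
  rw [mulVec_mulVec, mulVec_mulVec, h.orth, smul_mulVec, smul_mulVec, one_mulVec, one_mulVec] at h1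
  funext i
  have := congrFun h1 i
  simp only [Pi.smul_apply, smul_eq_mul] at this
  omega

theorem IsCoMat.sqNorm {A : Matrix GolayPt GolayPt ℤ} (h : IsCoMat A) (x : GolayPt → ℤ) :
    sqNorm (A *ᵥ x) = 64 * sqNorm x := by
  rw [sqNorm_eq_dot, sqNorm_eq_dot, dotProduct_mulVec, ← mulVec_transpose, mulVec_mulVec, h.orth,
    smul_mulVec, one_mulVec, smul_dotProduct, smul_eq_mul]

theorem IsCoMat.exists_co0 {A : Matrix GolayPt GolayPt ℤ} (h : IsCoMat A) :
    ∃ g : ↥Co0, ∀ v : ↥leechLattice,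
      A *ᵥ (v : GolayPt → ℤ) = (8 : ℤ) • ((g • v : ↥leechLattice) : GolayPt → ℤ) := by
  choose f hf hf' using h.maps
  choose f' hg hg' using h.maps'
  let F : ↥leechLattice → ↥leechLattice := fun v => ⟨f v.1 v.2, hf v.1 v.2⟩
  let F' : ↥leechLattice → ↥leechLattice := fun v => ⟨f' v.1 v.2, hg v.1 v.2⟩
  have hF : ∀ v : ↥leechLattice, A *ᵥ (v : GolayPt → ℤ) = (8 : ℤ) • ((F v : ↥leechLattice) : GolayPt → ℤ) :=
    fun v => hf' v.1 v.2
  have hF' : ∀ v : ↥leechLattice, Aᵀ *ᵥ (v : GolayPt → ℤ) = (8 : ℤ) • ((F' v : ↥leechLattice) : GolayPt → ℤ) :=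
    fun v => hg' v.1 v.2
  have l : Function.LeftInverse F' F := by
    intro v
    apply Subtype.ext
    apply smul8_inj
    apply smul8_inj
    rw [← hF', ← mulVec_smul, ← hF, mulVec_mulVec, h.orth, smul_mulVec, one_mulVec, smul_smul]
    norm_num
  have r : Function.RightInverse F' F := by
    intro v
    apply Subtype.ext
    apply smul8_inj
    apply smul8_inj
    rw [← hF, ← mulVec_smul, ← hF', mulVec_mulVec, h.orth', smul_mulVec, one_mulVec, smul_smul]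
    norm_num
  refine ⟨⟨⟨F, F', l, r⟩, ?_, ?_⟩, hF⟩
  · intro v w
    apply Subtype.ext
    apply smul8_inj
    show (8 : ℤ) • ((F (v + w) : ↥leechLattice) : GolayPt → ℤ) =
      (8 : ℤ) • (((F v : ↥leechLattice) : GolayPt → ℤ) + ((F w : ↥leechLattice) : GolayPt → ℤ))
    rw [smul_add, ← hF, ← hF, ← hF]
    exact mulVec_add _ _ _
  · intro v
    show Cfsg.sqNorm ((F v : ↥leechLattice) : GolayPt → ℤ) = _
    have h1 := h.sqNorm (v : GolayPt → ℤ)
    rw [hF] at h1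
    have h2 : Cfsg.sqNorm ((8 : ℤ) • ((F v : ↥leechLattice) : GolayPt → ℤ)) =
        64 * Cfsg.sqNorm ((F v : ↥leechLattice) : GolayPt → ℤ) := by
      unfold Cfsg.sqNorm
      rw [Finset.mul_sum]
      exact Finset.sum_congr rfl (fun i _ => by simp only [Pi.smul_apply, smul_eq_mul]; ring)
    rw [h2] at h1
    linarith

/-- an edge: if `A x = 8 y` with `y` in the lattice then `x` is in the lattice and `g x = y` -/
theorem IsCoMat.edge {A : Matrix GolayPt GolayPt ℤ} (h : IsCoMat A) {g : ↥Co0}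
    (hg : ∀ v : ↥leechLattice, A *ᵥ (v : GolayPt → ℤ) = (8 : ℤ) • ((g • v : ↥leechLattice) : GolayPt → ℤ))
    {x y : GolayPt → ℤ} (hy : y ∈ leechLattice) (hxy : A *ᵥ x = (8 : ℤ) • y) :
    ∃ hx : x ∈ leechLattice, g • (⟨x, hx⟩ : ↥leechLattice) = ⟨y, hy⟩ := by
  have h1 := hg (g⁻¹ • (⟨y, hy⟩ : ↥leechLattice))
  rw [smul_inv_smul] at h1
  have h2 : ((g⁻¹ • (⟨y, hy⟩ : ↥leechLattice) : ↥leechLattice) : GolayPt → ℤ) = x :=
    h.inj (h1.trans hxy.symm)
  have hx : x ∈ leechLattice := h2 ▸ (g⁻¹ • (⟨y, hy⟩ : ↥leechLattice)).2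
  refine ⟨hx, ?_⟩
  have h3 : (⟨x, hx⟩ : ↥leechLattice) = g⁻¹ • (⟨y, hy⟩ : ↥leechLattice) := Subtype.ext h2.symm
  rw [h3, smul_inv_smul]

theorem maps_of_gens (A : Matrix GolayPt GolayPt ℤ) (S : Set (GolayPt → ℤ))
    (hS : leechLattice ≤ AddSubgroup.closure S)
    (h : ∀ x ∈ S, ∃ y ∈ leechLattice, A *ᵥ x = (8 : ℤ) • y) :
    ∀ x ∈ leechLattice, ∃ y ∈ leechLattice, A *ᵥ x = (8 : ℤ) • y := by
  intro x hx
  have hx' := hS hx
  clear hx
  induction hx' using AddSubgroup.closure_induction with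
  | mem x hx => exact h x hx
  | zero => exact ⟨0, leechLattice.zero_mem, by simp⟩
  | add x y _ _ hx hy =>
    obtain ⟨a, ha, ha'⟩ := hx
    obtain ⟨b, hb, hb'⟩ := hy
    exact ⟨a + b, leechLattice.add_mem ha hb, by rw [mulVec_add, ha', hb', smul_add]⟩
  | neg x _ hx =>
    obtain ⟨a, ha, ha'⟩ := hx
    exact ⟨-a, leechLattice.neg_mem ha, by rw [mulVec_neg, ha', smul_neg]⟩

end Cfsg.Agent.Lib.Helper33
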