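import Cfsg.Agent.Lib.Helper33.GM22a
import Cfsg.Agent.Lib.Helper33.C100

set_option autoImplicit false

namespace Cfsg.Agent.Lib.Helper33

open Cfsg

noncomputable def c77B : ℕ := 0x90009000900070007000900090007000900070007000700090009000900090009000900070007000700070007000b0009000700070009000b00070007000b00070009000900070007000900070007000700070007000900090009000b000700080008000800080006000a00080006000800080006000800080006000800080008000800080006000600080006000c
noncomputable def c77Cc : ℕ := 0x2a1029e82a18
noncomputable def c77Rts : ℕ := 0x0
noncomputable def c77Mem_0 : ℕ := 0x630006200061000600005f0005e0005d0005c0005b0005a000590005800057000560005500054000530005200051000500004f0004e0004d0004c0004b00047000460004500044000430004200041000400003f0003e0003d0003c0003b0003a00039000380003700035000300002f0002c0002b0002a000290002700026000250002200021000200001f0001d0001b0001a000190001800014000130001200011000100000f0000d0000b0000a00009000060000500004000030000200001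
noncomputable def c77Mem : ℕ := c77Mem_0
noncomputable def c77R_0 : ℕ := 0x71000370004100044000230002c00020000250005300040000630003c000610000f000510000d000310003a000600002a000710001b000400003600040000380007000029000730004300031000030005000040000700004300021000250002300002000330003a000610001a00033000030005300008000410003d000300000c000400003300043000090004100001000330000c0005100034000600003c0001000000000630002a000500002700063000450007000047000430003d00031000390001300000000730003700030000390004300044000530000e000530004b0006100010000500001600050000130007300011000610000500053000410006100045000530003200063000100004000023000600001e000510002200043000120003000049000600000700051000270005100030000410002f0004100036000200002c00061000480005000032000300004a000400000900050000410007000004000530003400063000070002100002000110000000033000490000000000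
noncomputable def c77R : ℕ := c77R_0
noncomputable def c77Nd (t : ℕ) : ℕ := c100Nd (get3 c77Mem 20 t)

set_option maxRecDepth 1000000 in
theorem c77_pre : prefixOK c100B c100Cc 2 c77B c77Cc 3 = true := by decide +kernel
set_option maxRecDepth 1000000 in
theorem c77_base : baseOK c77B 3 = true := by decide +kernel
set_option maxRecDepth 1000000 in
theorem c77_fix : fixOK gM22a (2 * 2) c77B 3 = true := by decide +kernel
set_option maxRecDepth 1000000 in
theorem c77_rt : Nat.blt (fld20 c77Rts 0) 77 = true := by decide +kernel
set_option maxRecDepth 1000000 in
theorem c77_cnt' : cntChunks (fun k => (fun _ => true) k && condOK c77B c77Cc 3 (c100Nd k)) 100 1 = 77 := by decide +kernel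
theorem c77_cnt : cntBelow (fun k => (fun _ => true) k && condOK c77B c77Cc 3 (c100Nd k)) 100 = 77 := by
  rw [show (100 : ℕ) = 100 * 1 by norm_num, ← cntChunks_eq]
  exact c77_cnt'
set_option maxRecDepth 1000000 in
theorem c77_mem : allBelow (memOK c100Nd (fun _ => true) 100 c77B c77Cc 3 c77Mem 77) 77 = true := by decide +kernel
set_option maxRecDepth 1000000 in
theorem c77_nodes : allBelow (cNode c77Nd (fun _ => true) gM22a c77R c77Rts (2 * 2) 1 77) 77 = true := by decide +kernel

theorem c77_enum : LEnum (Cl c77B c77Cc 3) c77Nd 77 (fun _ => true) :=
  c100_enum.cls c77B c77Cc 3 c77Mem 77 c77_pre c77_base c77_cnt c77_mem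

theorem c77_tree : ∀ t < 77, ∃ g ∈ fixSub c77B 3, g • lv (c77Nd t) = lv (c77Nd (fld20 c77Rts 0)) :=
  c77_enum.tree gM22a c77R c77Rts 2 c77B 3 gM22a_ok c77_base c77_fix c77_rt c77_nodes

theorem c77_b0 : f384 c77B 0 = bU0 := by decide +kernel
theorem c77_b1 : f384 c77B 1 = bWH := by decide +kernel
theorem c77_b2 : f384 c77B 2 = bXH := by decide +kernel
theorem c77_c0 : (dg c77Cc 0 : ℤ) - 10752 = 24 := by
  have : dg c77Cc 0 = 10776 := by decide +kernel
  rw [this]; norm_num
theorem c77_c1 : (dg c77Cc 1 : ℤ) - 10752 = -24 := by
  have : dg c77Cc 1 = 10728 := by decide +kernel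
  rw [this]; norm_num
theorem c77_c2 : (dg c77Cc 2 : ℤ) - 10752 = 16 := by
  have : dg c77Cc 2 = 10768 := by decide +kernel
  rw [this]; norm_num

theorem c77_cls : OrbCls ↥Co0 (C3 (24) (-24) (16)) ((lv bU0, lv bWH), lv bXH) 77 :=
  mkCls3 c77_enum c77_b0 c77_b1 c77_b2 c77_c0 c77_c1 c77_c2 _ c77_tree

end Cfsg.Agent.Lib.Helper33
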