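import Cfsg.Agent.Lib.Helper33.Co2Data

set_option autoImplicit false

namespace Cfsg.Agent.Lib.Helper33

set_option maxRecDepth 1000000 in
theorem co2_chunk_8 : co2Chunk 8 = true := by decide +kernel

set_option maxRecDepth 1000000 in
theorem co2_chunk_9 : co2Chunk 9 = true := by decide +kernel

set_option maxRecDepth 1000000 in
theorem co2_chunk_10 : co2Chunk 10 = true := by decide +kernel

set_option maxRecDepth 1000000 in
theorem co2_chunk_11 : co2Chunk 11 = true := by decide +kernel


end Cfsg.Agent.Lib.Helper33
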