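import Cfsg.Agent.Lib.Helper33.CoCount
import Cfsg.Agent.Lib.Helper33.Co2N0
import Cfsg.Agent.Lib.Helper33.Co2N1
import Cfsg.Agent.Lib.Helper33.Co2N2
import Cfsg.Agent.Lib.Helper33.Co2N3
import Cfsg.Agent.Lib.Helper33.Co2N4
import Cfsg.Agent.Lib.Helper33.Co2N5

set_option autoImplicit false

namespace Cfsg.Agent.Lib.Helper33

open Cfsg

set_option maxRecDepth 1000000 in
theorem co2_gens : gensOK co2G 3 = true := by decide +kernel
set_option maxRecDepth 1000000 in
theorem co2_base : baseOK co2B 1 = true := by decide +kernel
set_option maxRecDepth 1000000 in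
theorem co2_fix : fixOK co2G (2 * 3) co2B 1 = true := by decide +kernel
set_option maxRecDepth 1000000 in
theorem co2_roots : cRootsOK co2Rts 7 = true := by decide +kernel
set_option maxRecDepth 1000000 in
theorem co2_fz : gensOK co2Fz 7 = true := by decide +kernel
set_option maxRecDepth 1000000 in
theorem co2_fuse : cFuseOK co2Fz co2Rts (f384 co2B 0) 7 = true := by decide +kernel
set_option maxRecDepth 1000000 in
theorem co2_b32 : Nat.beq (dotC (f384 co2B 0) (f384 co2B 0)) 10784 = true := by decide +kernel
set_option maxRecDepth 1000000 in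
theorem co2_rel : cRelOK co2Rts (f384 co2B 0) co2Cc 7 = true := by decide +kernel

theorem co2_nodes : ∀ t < 197760, cNode decV valV co2G co2R co2Rts (2 * 3) 7 197760 t = true := by
  have h : ∀ i < 24, co2Chunk i = true := by
    intro i hi
    interval_cases i
    · exact co2_chunk_0
    · exact co2_chunk_1
    · exact co2_chunk_2
    · exact co2_chunk_3
    · exact co2_chunk_4
    · exact co2_chunk_5
    · exact co2_chunk_6
    · exact co2_chunk_7
    · exact co2_chunk_8
    · exact co2_chunk_9
    · exact co2_chunk_10
    · exact co2_chunk_11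
    · exact co2_chunk_12
    · exact co2_chunk_13
    · exact co2_chunk_14
    · exact co2_chunk_15
    · exact co2_chunk_16
    · exact co2_chunk_17
    · exact co2_chunk_18
    · exact co2_chunk_19
    · exact co2_chunk_20
    · exact co2_chunk_21
    · exact co2_chunk_22
    · exact co2_chunk_23
  exact chunks (f := cNode decV valV co2G co2R co2Rts (2 * 3) 7 197760) (c := 24) (s := 8240) h

set_option maxRecDepth 1000000 in
theorem co2_cnt_all : cntChunks valV 412 480 = 196560 := by decide +kernel
set_option maxRecDepth 1000000 in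
theorem co2_cnt2 : cntChunks (fun k => valV k && Nat.beq (rLab (get3 co2R 40 k)) 2) 412 480 = 93150 := by
  decide +kernel
set_option maxRecDepth 1000000 in
theorem co2_cnt3 : cntChunks (fun k => valV k && Nat.beq (rLab (get3 co2R 40 k)) 3) 412 480 = 47104 := by
  decide +kernel
set_option maxRecDepth 1000000 in
theorem co2_cnt6 : cntChunks (fun k => valV k && Nat.beq (rLab (get3 co2R 40 k)) 6) 412 480 = 4600 := by
  decide +kernel

theorem co2_cc : dg co2Cc 2 = 10752 ∧ dg co2Cc 3 = 10744 ∧ dg co2Cc 6 = 10736 := by decide +kernel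

end Cfsg.Agent.Lib.Helper33
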