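import Cfsg.Agent.Lib.Helper33.CoBase

set_option autoImplicit false

namespace Cfsg.Agent.Lib.Helper33

open Cfsg

/-- test for a packed constant -/
noncomputable def cstOK (b : ℕ) : Bool := vecOK b && inLeech b

theorem cst_small {b : ℕ} (h : cstOK b = true) : Small b := by
  rw [cstOK, Bool.and_eq_true] at h
  exact vecOK_spec h.1

theorem cst_mem {b : ℕ} (h : cstOK b = true) : vec b ∈ leechLattice := by
  rw [cstOK, Bool.and_eq_true] at h
  exact inLeech_spec h.2

theorem ldot_cst {a b : ℕ} (ha : cstOK a = true) (hb : cstOK b = true) (c : ℕ)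
    (h : Nat.beq (dotC a b) c = true) : ldot (lv a) (lv b) = (c : ℤ) - 10752 := by
  rw [ldot_lv (cst_small ha) (cst_small hb) (cst_mem ha) (cst_mem hb), Nat.eq_of_beq_eq_true h]

theorem ldot_self (a : ↥leechLattice) : ldot a a = sqNorm (a : GolayPt → ℤ) := (sqNorm_eq_dotInt _).symm

theorem mem_L2_iff (a : ↥leechLattice) : a ∈ L2 ↔ ldot a a = 32 := by rw [ldot_self]; rfl

theorem ldot_add_right (a b c : ↥leechLattice) : ldot a (b + c) = ldot a b + ldot a c := by
  unfold ldot dotInt
  rw [← Finset.sum_add_distrib]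
  exact Finset.sum_congr rfl (fun i _ => by
    show (a : GolayPt → ℤ) i * ((b : GolayPt → ℤ) i + (c : GolayPt → ℤ) i) = _
    ring)

theorem ldot_neg_right (a b : ↥leechLattice) : ldot a (-b) = -ldot a b := by
  unfold ldot dotInt
  rw [← Finset.sum_neg_distrib]
  exact Finset.sum_congr rfl (fun i _ => by
    show (a : GolayPt → ℤ) i * (-(b : GolayPt → ℤ) i) = _
    ring)

theorem ldot_sub_right (a b c : ↥leechLattice) : ldot a (b - c) = ldot a b - ldot a c := by
  rw [sub_eq_add_neg, ldot_add_right, ldot_neg_right, sub_eq_add_neg]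

theorem ldot_add_left (a b c : ↥leechLattice) : ldot (a + b) c = ldot a c + ldot b c := by
  rw [ldot_comm, ldot_add_right, ldot_comm c a, ldot_comm c b]

theorem ldot_neg_left (a b : ↥leechLattice) : ldot (-a) b = -ldot a b := by
  rw [ldot_comm, ldot_neg_right, ldot_comm]

theorem ldot_sub_left (a b c : ↥leechLattice) : ldot (a - b) c = ldot a c - ldot b c := by
  rw [ldot_comm, ldot_sub_right, ldot_comm c a, ldot_comm c b]

theorem eq_zero_of_ldot_self {a : ↥leechLattice} (h : ldot a a = 0) : a = 0 := by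
  apply Subtype.ext
  funext i
  have h1 : ∑ i, (a : GolayPt → ℤ) i * (a : GolayPt → ℤ) i = 0 := h
  have := (Finset.sum_eq_zero_iff_of_nonneg (fun i _ => mul_self_nonneg ((a : GolayPt → ℤ) i))).1 h1 i
    (Finset.mem_univ i)
  exact mul_self_eq_zero.1 this

/-- two minimal vectors with inner product 32 are equal -/
theorem eq_of_ldot_32 {a b : ↥leechLattice} (ha : a ∈ L2) (hb : b ∈ L2) (h : ldot a b = 32) : b = a := by
  rw [mem_L2_iff] at ha hb
  have : ldot (b - a) (b - a) = 0 := by
    rw [ldot_sub_left, ldot_sub_right, ldot_sub_right, hb, ha, ldot_comm b a, h]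
    norm_num
  exact sub_eq_zero.1 (eq_zero_of_ldot_self this)

theorem sqNorm_coe_sub (a b : ↥leechLattice) :
    sqNorm ((a : GolayPt → ℤ) - (b : GolayPt → ℤ)) = ldot a a - 2 * ldot a b + ldot b b := by
  have : sqNorm ((a : GolayPt → ℤ) - (b : GolayPt → ℤ)) = ldot (a - b) (a - b) := by
    rw [ldot_self]; rfl
  rw [this, ldot_sub_left, ldot_sub_right, ldot_sub_right, ldot_comm b a]
  ring

theorem stab_prod {A B : Type*} [MulAction ↥Co0 A] [MulAction ↥Co0 B] (a : A) (b : B) :
    MulAction.stabilizer ↥Co0 a ⊓ MulAction.stabilizer ↥Co0 b = MulAction.stabilizer ↥Co0 (a, b) := by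
  ext g
  simp [Subgroup.mem_inf, MulAction.mem_stabilizer_iff, Prod.ext_iff]

/-- if the sizes of the fibres over `vals` add up to the size of `S`, all the values lie in `vals` -/
theorem fiber_cover {X : Type*} (S : Set X) (hS : S.Finite) (f : X → ℤ) (vals : Finset ℤ)
    (h : ∑ τ ∈ vals, {y | y ∈ S ∧ f y = τ}.ncard = S.ncard) : ∀ y ∈ S, f y ∈ vals := by
  classical
  let s := hS.toFinset
  have hs : ∀ y, y ∈ s ↔ y ∈ S := fun y => hS.mem_toFinset
  have h1 : ∀ τ, {y | y ∈ S ∧ f y = τ}.ncard = (s.filter (fun y => f y = τ)).card := by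
    intro τ
    rw [← Set.ncard_coe_finset]
    congr 1
    ext y
    simp [hs]
  have h2 : S.ncard = s.card := by
    rw [← Set.ncard_coe_finset]
    congr 1
    ext y
    simp [hs]
  have h3 : (s.filter (fun y => f y ∈ vals)).card = ∑ τ ∈ vals, (s.filter (fun y => f y = τ)).card := by
    have hmaps : ∀ y ∈ s.filter (fun y => f y ∈ vals), f y ∈ vals := fun y hy => (Finset.mem_filter.1 hy).2
    rw [Finset.card_eq_sum_card_fiberwise hmaps]
    apply Finset.sum_congr rfl
    intro τ hτ
    congr 1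
    ext y
    simp only [Finset.mem_filter]
    constructor
    · rintro ⟨⟨a, _⟩, c⟩; exact ⟨a, c⟩
    · rintro ⟨a, c⟩; exact ⟨⟨a, c ▸ hτ⟩, c⟩
  have h4 : s.filter (fun y => f y ∈ vals) = s := by
    apply Finset.eq_of_subset_of_card_le (Finset.filter_subset _ _)
    rw [h3, ← h2, ← h]
    exact le_of_eq (Finset.sum_congr rfl (fun τ _ => h1 τ))
  intro y hy
  have : y ∈ s.filter (fun y => f y ∈ vals) := by rw [h4]; exact (hs y).2 hy
  exact (Finset.mem_filter.1 this).2

/-- the fibre of the inner product over 32 -/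
theorem ncard_fiber32 {S : Set ↥leechLattice} {x : ↥leechLattice} (hx : x ∈ S) (hS : S ⊆ L2) :
    {y | y ∈ S ∧ ldot x y = 32}.ncard = 1 := by
  have : {y | y ∈ S ∧ ldot x y = 32} = {x} := by
    ext y
    constructor
    · rintro ⟨h1, h2⟩
      exact eq_of_ldot_32 (hS hx) (hS h1) h2
    · rintro rfl
      exact ⟨hx, (mem_L2_iff _).1 (hS hx)⟩
  rw [this, Set.ncard_singleton]

end Cfsg.Agent.Lib.Helper33
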