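import Cfsg.Agent.Lib.Helper33.CoCount

set_option autoImplicit false

namespace Cfsg.Agent.Lib.Helper33

open Cfsg

/-- an enumeration of a set of lattice vectors by packed vectors -/
structure LEnum (Ω : Set ↥leechLattice) (nd : ℕ → ℕ) (n : ℕ) (val : ℕ → Bool) : Prop where
  enum : Enum Ω (fun t => lv (nd t)) n val
  small : ∀ t < n, val t = true → Small (nd t)
  memL : ∀ t < n, val t = true → vec (nd t) ∈ leechLattice

/-- the inner products of the packed vector `a` with the `r` vectors of `B` are those coded by `cc` -/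
noncomputable def condOK (B cc r a : ℕ) : Bool :=
  allBelow (fun j => Nat.beq (dotC a (f384 B j)) (dg cc j)) r

/-- the inner products of `y` with the `r` vectors of `B` are those coded by `cc` -/
def Cond (B cc r : ℕ) (y : ↥leechLattice) : Prop :=
  ∀ j < r, ldot (lv (f384 B j)) y = (dg cc j : ℤ) - 10752

/-- the minimal vectors with given inner products with the vectors of `B` -/
def Cl (B cc r : ℕ) : Set ↥leechLattice := {y | y ∈ L2 ∧ Cond B cc r y}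

theorem ldot_comm (a b : ↥leechLattice) : ldot a b = ldot b a := by
  unfold ldot dotInt
  exact Finset.sum_congr rfl (fun i _ => mul_comm _ _)

theorem condOK_iff {B cc r a : ℕ} (hB : baseOK B r = true) (ha : Small a) (ha' : vec a ∈ leechLattice) :
    condOK B cc r a = true ↔ Cond B cc r (lv a) := by
  rw [condOK, allBelow_iff]
  constructor
  · intro h j hj
    obtain ⟨s, l⟩ := baseOK_spec hB j hj
    rw [ldot_comm, ldot_lv ha s ha' l, Nat.eq_of_beq_eq_true (h j hj)]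
  · intro h j hj
    obtain ⟨s, l⟩ := baseOK_spec hB j hj
    have := h j hj
    rw [ldot_comm, ldot_lv ha s ha' l] at this
    have e : dotC a (f384 B j) = dg cc j := by omega
    rw [e]; exact Nat.beq_refl _

/-- `(B', cc', r')` is an initial part of `(B, cc, r)` -/
noncomputable def prefixOK (B' cc' r' B cc r : ℕ) : Bool :=
  Nat.ble r' r && allBelow (fun j => Nat.beq (f384 B' j) (f384 B j) && Nat.beq (dg cc' j) (dg cc j)) r'

theorem cond_of_prefix {B' cc' r' B cc r : ℕ} (h : prefixOK B' cc' r' B cc r = true) {y : ↥leechLattice}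
    (hy : Cond B cc r y) : Cond B' cc' r' y := by
  rw [prefixOK, Bool.and_eq_true, allBelow_iff] at h
  intro j hj
  have h1 := h.2 j hj
  rw [Bool.and_eq_true] at h1
  rw [Nat.eq_of_beq_eq_true h1.1, Nat.eq_of_beq_eq_true h1.2]
  exact hy j (lt_of_lt_of_le hj (Nat.le_of_ble_eq_true h.1))

/-- check of entry `t` of the list of the members of a class -/
noncomputable def memOK (nd : ℕ → ℕ) (val : ℕ → Bool) (n B cc r MEM m t : ℕ) : Bool :=
  force (get3 MEM 20 t) (fun k => Nat.blt k n && (val k && (condOK B cc r (nd k) &&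
    (Nat.ble m (Nat.succ t) || Nat.blt k (get3 MEM 20 (Nat.succ t))))))

theorem LEnum.cls {B' cc' r' : ℕ} {nd : ℕ → ℕ} {n : ℕ} {val : ℕ → Bool}
    (E : LEnum (Cl B' cc' r') nd n val) (B cc r MEM m : ℕ)
    (hpre : prefixOK B' cc' r' B cc r = true) (hB : baseOK B r = true)
    (hcount : cntBelow (fun k => val k && condOK B cc r (nd k)) n = m)
    (hmem : allBelow (memOK nd val n B cc r MEM m) m = true) :
    LEnum (Cl B cc r) (fun t => nd (get3 MEM 20 t)) m (fun _ => true) := by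
  rw [allBelow_iff] at hmem
  have hm : ∀ t < m, get3 MEM 20 t < n ∧ val (get3 MEM 20 t) = true ∧
      condOK B cc r (nd (get3 MEM 20 t)) = true ∧ (t + 1 < m → get3 MEM 20 t < get3 MEM 20 (t + 1)) := by
    intro t ht
    have := hmem t ht
    simp only [memOK, force_eq, Bool.and_eq_true, Bool.or_eq_true] at this
    refine ⟨blt_iff.1 this.1, this.2.1, this.2.2.1, fun h => ?_⟩
    rcases this.2.2.2 with h1 | h1
    · have := Nat.le_of_ble_eq_true h1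
      have h2 : m ≤ t + 1 := this
      omega
    · exact blt_iff.1 h1
  have E1 := E.enum.sub (fun y => Cond B cc r y) (fun k => condOK B cc r (nd k))
    (fun k hk hv => condOK_iff hB (E.small k hk hv) (E.memL k hk hv))
  have E2 := E1.reindex (fun t => get3 MEM 20 t) m
    (fun t ht => ⟨(hm t ht).1, by rw [Bool.and_eq_true]; exact ⟨(hm t ht).2.1, (hm t ht).2.2.1⟩⟩)
    (fun t ht => (hm t (by omega)).2.2.2 ht) hcount
  refine ⟨E2.congr_set ?_, fun t ht _ => E.small _ (hm t ht).1 (hm t ht).2.1,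
    fun t ht _ => E.memL _ (hm t ht).1 (hm t ht).2.1⟩
  ext y
  constructor
  · rintro ⟨h1, h2⟩
    exact ⟨h1.1, h2⟩
  · rintro ⟨h1, h2⟩
    exact ⟨⟨h1, cond_of_prefix hpre h2⟩, h2⟩

/-- the subgroup fixing the vectors of `B` -/
def fixSub (B r : ℕ) : Subgroup ↥Co0 where
  carrier := {g | ∀ j < r, g • lv (f384 B j) = lv (f384 B j)}
  mul_mem' := by
    intro a b ha hb j hj
    rw [mul_smul, hb j hj, ha j hj]
  one_mem' := fun j _ => one_smul _ _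
  inv_mem' := by
    intro a ha j hj
    rw [inv_smul_eq_iff, ha j hj]

theorem LEnum.tree {Ω : Set ↥leechLattice} {nd : ℕ → ℕ} {m : ℕ} (E : LEnum Ω nd m (fun _ => true))
    (G R rts np B r : ℕ) (hG : gensOK G np = true) (hB : baseOK B r = true)
    (hfix : fixOK G (2 * np) B r = true) (hrt : Nat.blt (fld20 rts 0) m = true)
    (hnode : allBelow (cNode nd (fun _ => true) G R rts (2 * np) 1 m) m = true) :
    ∀ t < m, ∃ g ∈ fixSub B r, g • lv (nd t) = lv (nd (fld20 rts 0)) := by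
  have hF := co_forest nd (fun _ => true) G R rts np 1 m (fixSub B r)
    (fun t ht hv => E.small t ht hv) hG (fun i hi j hj => fixOK_spec hG hB hfix i hi j hj)
    (fun j hj => by
      have : j = 0 := by omega
      subst this
      exact E.memL _ (blt_iff.1 hrt) rfl) ((allBelow_iff _ _).1 hnode)
  intro t ht
  obtain ⟨h1, _, g, hg, e⟩ := hF t ht rfl
  have h0 : rLab (get3 R 40 t) = 0 := by omega
  rw [h0] at e
  exact ⟨g, hg, e⟩

/-- classes with respect to one, two or three vectors -/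
def C1 (τ : ℤ) : ↥leechLattice → Set ↥leechLattice := fun a => {y | y ∈ L2 ∧ ldot a y = τ}
def C2 (τ₁ τ₂ : ℤ) : ↥leechLattice × ↥leechLattice → Set ↥leechLattice :=
  fun a => {y | y ∈ L2 ∧ ldot a.1 y = τ₁ ∧ ldot a.2 y = τ₂}
def C3 (τ₁ τ₂ τ₃ : ℤ) : (↥leechLattice × ↥leechLattice) × ↥leechLattice → Set ↥leechLattice :=
  fun a => {y | y ∈ L2 ∧ ldot a.1.1 y = τ₁ ∧ ldot a.1.2 y = τ₂ ∧ ldot a.2 y = τ₃}

theorem C1_equi (τ : ℤ) (g : ↥Co0) (a : ↥leechLattice) (y : ↥leechLattice) (h : y ∈ C1 τ a) :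
    g • y ∈ C1 τ (g • a) := ⟨L2_smul g y h.1, by rw [ldot_smul]; exact h.2⟩

theorem C2_equi (τ₁ τ₂ : ℤ) (g : ↥Co0) (a : ↥leechLattice × ↥leechLattice) (y : ↥leechLattice)
    (h : y ∈ C2 τ₁ τ₂ a) : g • y ∈ C2 τ₁ τ₂ (g • a) :=
  ⟨L2_smul g y h.1, by rw [Prod.smul_fst, ldot_smul]; exact h.2.1, by rw [Prod.smul_snd, ldot_smul]; exact h.2.2⟩

theorem C3_equi (τ₁ τ₂ τ₃ : ℤ) (g : ↥Co0) (a : (↥leechLattice × ↥leechLattice) × ↥leechLattice)
    (y : ↥leechLattice) (h : y ∈ C3 τ₁ τ₂ τ₃ a) : g • y ∈ C3 τ₁ τ₂ τ₃ (g • a) :=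
  ⟨L2_smul g y h.1, by rw [Prod.smul_fst, Prod.smul_fst, ldot_smul]; exact h.2.1,
    by rw [Prod.smul_fst, Prod.smul_snd, ldot_smul]; exact h.2.2.1,
    by rw [Prod.smul_snd, ldot_smul]; exact h.2.2.2⟩

theorem cl_one {B cc : ℕ} {b₀ : ℕ} {τ : ℤ} (hb : f384 B 0 = b₀) (h0 : (dg cc 0 : ℤ) - 10752 = τ) :
    Cl B cc 1 = C1 τ (lv b₀) := by
  subst hb
  ext y
  constructor
  · rintro ⟨h1, h2⟩
    exact ⟨h1, by rw [h2 0 (by norm_num), h0]⟩
  · rintro ⟨h1, h2⟩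
    refine ⟨h1, fun j hj => ?_⟩
    have : j = 0 := by omega
    subst this
    rw [h0]; exact h2

theorem cl_two {B cc : ℕ} {b₀ b₁ : ℕ} {τ₀ τ₁ : ℤ} (hb0 : f384 B 0 = b₀) (hb1 : f384 B 1 = b₁)
    (h0 : (dg cc 0 : ℤ) - 10752 = τ₀) (h1 : (dg cc 1 : ℤ) - 10752 = τ₁) :
    Cl B cc 2 = C2 τ₀ τ₁ (lv b₀, lv b₁) := by
  subst hb0 hb1
  ext y
  constructor
  · rintro ⟨h, h2⟩
    exact ⟨h, by rw [← h0]; exact h2 0 (by norm_num), by rw [← h1]; exact h2 1 (by norm_num)⟩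
  · rintro ⟨h, h2, h3⟩
    refine ⟨h, fun j hj => ?_⟩
    have : j = 0 ∨ j = 1 := by omega
    rcases this with rfl | rfl
    · rw [h0]; exact h2
    · rw [h1]; exact h3

theorem cl_three {B cc : ℕ} {b₀ b₁ b₂ : ℕ} {τ₀ τ₁ τ₂ : ℤ} (hb0 : f384 B 0 = b₀) (hb1 : f384 B 1 = b₁)
    (hb2 : f384 B 2 = b₂)
    (h0 : (dg cc 0 : ℤ) - 10752 = τ₀) (h1 : (dg cc 1 : ℤ) - 10752 = τ₁) (h2 : (dg cc 2 : ℤ) - 10752 = τ₂) :
    Cl B cc 3 = C3 τ₀ τ₁ τ₂ ((lv b₀, lv b₁), lv b₂) := by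
  subst hb0 hb1 hb2
  ext y
  constructor
  · rintro ⟨h, h'⟩
    exact ⟨h, by rw [← h0]; exact h' 0 (by norm_num), by rw [← h1]; exact h' 1 (by norm_num),
      by rw [← h2]; exact h' 2 (by norm_num)⟩
  · rintro ⟨h, h3, h4, h5⟩
    refine ⟨h, fun j hj => ?_⟩
    have : j = 0 ∨ j = 1 ∨ j = 2 := by omega
    rcases this with rfl | rfl | rfl
    · rw [h0]; exact h3
    · rw [h1]; exact h4
    · rw [h2]; exact h5

theorem mkCls1 {B cc : ℕ} {nd : ℕ → ℕ} {m : ℕ} (E : LEnum (Cl B cc 1) nd m (fun _ => true)) {b₀ : ℕ} {τ : ℤ}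
    (hb : f384 B 0 = b₀) (h0 : (dg cc 0 : ℤ) - 10752 = τ) (root : ℕ)
    (tree : ∀ t < m, ∃ g ∈ fixSub B 1, g • lv (nd t) = lv (nd root)) :
    OrbCls ↥Co0 (C1 τ) (lv b₀) m := by
  refine OrbCls.ofTree (C1 τ) (lv b₀) (fun t => lv (nd t)) m root (C1_equi τ)
    (E.enum.congr_set (cl_one hb h0)) ?_
  intro t ht
  obtain ⟨g, hg, e⟩ := tree t ht
  exact ⟨g, by rw [← hb]; exact hg 0 (by norm_num), e⟩

theorem mkCls2 {B cc : ℕ} {nd : ℕ → ℕ} {m : ℕ} (E : LEnum (Cl B cc 2) nd m (fun _ => true)) {b₀ b₁ : ℕ}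
    {τ₀ τ₁ : ℤ} (hb0 : f384 B 0 = b₀) (hb1 : f384 B 1 = b₁)
    (h0 : (dg cc 0 : ℤ) - 10752 = τ₀) (h1 : (dg cc 1 : ℤ) - 10752 = τ₁) (root : ℕ)
    (tree : ∀ t < m, ∃ g ∈ fixSub B 2, g • lv (nd t) = lv (nd root)) :
    OrbCls ↥Co0 (C2 τ₀ τ₁) (lv b₀, lv b₁) m := by
  refine OrbCls.ofTree (C2 τ₀ τ₁) (lv b₀, lv b₁) (fun t => lv (nd t)) m root (C2_equi τ₀ τ₁)
    (E.enum.congr_set (cl_two hb0 hb1 h0 h1)) ?_
  intro t ht
  obtain ⟨g, hg, e⟩ := tree t ht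
  refine ⟨g, ?_, e⟩
  rw [Prod.smul_mk, ← hb0, ← hb1, hg 0 (by norm_num), hg 1 (by norm_num)]

theorem mkCls3 {B cc : ℕ} {nd : ℕ → ℕ} {m : ℕ} (E : LEnum (Cl B cc 3) nd m (fun _ => true)) {b₀ b₁ b₂ : ℕ}
    {τ₀ τ₁ τ₂ : ℤ} (hb0 : f384 B 0 = b₀) (hb1 : f384 B 1 = b₁) (hb2 : f384 B 2 = b₂)
    (h0 : (dg cc 0 : ℤ) - 10752 = τ₀) (h1 : (dg cc 1 : ℤ) - 10752 = τ₁) (h2 : (dg cc 2 : ℤ) - 10752 = τ₂)
    (root : ℕ) (tree : ∀ t < m, ∃ g ∈ fixSub B 3, g • lv (nd t) = lv (nd root)) :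
    OrbCls ↥Co0 (C3 τ₀ τ₁ τ₂) ((lv b₀, lv b₁), lv b₂) m := by
  refine OrbCls.ofTree (C3 τ₀ τ₁ τ₂) ((lv b₀, lv b₁), lv b₂) (fun t => lv (nd t)) m root (C3_equi τ₀ τ₁ τ₂)
    (E.enum.congr_set (cl_three hb0 hb1 hb2 h0 h1 h2)) ?_
  intro t ht
  obtain ⟨g, hg, e⟩ := tree t ht
  refine ⟨g, ?_, e⟩
  rw [Prod.smul_mk, Prod.smul_mk, ← hb0, ← hb1, ← hb2, hg 0 (by norm_num), hg 1 (by norm_num), hg 2 (by norm_num)]

/-- a count over all the indices, in eight parts -/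
theorem cnt_parts (f : ℕ → Bool) (c : ℕ → ℕ)
    (h : ∀ i < 8, cntChunks (fun t => f (Nat.add (Nat.mul 24720 i) t)) 412 60 = c i) :
    cntBelow f 197760 = c 0 + c 1 + c 2 + c 3 + c 4 + c 5 + c 6 + c 7 := by
  have e : (197760 : ℕ) = 24720 * 8 := by norm_num
  rw [e, ← cntChunks_eq, cntChunks, sumBelow_eq]
  have h' : ∀ i ∈ Finset.range 8, cntBelow (fun t => f (Nat.add (Nat.mul 24720 i) t)) 24720 = c i := by
    intro i hi
    rw [← h i (Finset.mem_range.1 hi), cntChunks_eq]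
  rw [Finset.sum_congr rfl h']
  simp [Finset.sum_range_succ]

end Cfsg.Agent.Lib.Helper33
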