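import Cfsg.Agent.Lib.Helper33.LeechMin
import Cfsg.Agent.Lib.Helper33.CoMat
import Cfsg.Agent.Lib.Helper33.OctData

set_option autoImplicit false

namespace Cfsg.Agent.Lib.Helper33

open Cfsg Cfsg.Agent.Lib.Helper9

/-- the vector `a e_i + b e_j` -/
def pairVec (i j : GolayPt) (a b : ℤ) : GolayPt → ℤ :=
  fun k => (if k = i then a else 0) + (if k = j then b else 0)

theorem dot_pairVec (x : GolayPt → ℤ) (i j : GolayPt) (a b : ℤ) :
    dotInt x (pairVec i j a b) = x i * a + x j * b := by
  unfold dotInt pairVec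
  simp [mul_add, Finset.sum_add_distrib]

theorem sqNorm_pairVec {i j : GolayPt} (hij : i ≠ j) (a b : ℤ) :
    sqNorm (pairVec i j a b) = a ^ 2 + b ^ 2 := by
  have h : sqNorm (pairVec i j a b) = dotInt (pairVec i j a b) (pairVec i j a b) := by
    unfold sqNorm dotInt
    exact Finset.sum_congr rfl (fun i _ => by ring)
  rw [h, dot_pairVec]
  simp only [pairVec, if_true, if_neg hij, if_neg hij.symm]
  ring

theorem pairVec_mem {i j : GolayPt} {a b : ℤ} (ha : a = 4 ∨ a = -4) (hb : b = 4 ∨ b = -4) :
    pairVec i j a b ∈ leechLattice := by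
  rw [mem_leechLattice_iff_mem_leechSet, mem_leechSet_iff']
  refine ⟨0, pairVec i j (a / 2) (b / 2), Or.inl rfl, ?_, ?_, ?_⟩
  · intro k
    unfold pairVec
    split_ifs <;> omega
  · have : ∑ k, pairVec i j (a / 2) (b / 2) k = a / 2 + b / 2 := by
      unfold pairVec
      simp [Finset.sum_add_distrib]
    rw [this]
    omega
  · have : red2 (pairVec i j (a / 2) (b / 2)) = 0 := by
      funext k
      by_contra hk
      have h1 : red2 (pairVec i j (a / 2) (b / 2)) k ≠ 0 := hk
      rw [red2_ne_zero_iff] at h1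
      unfold pairVec at h1
      split_ifs at h1 <;> omega
    rw [this]
    exact golayCode.zero_mem

theorem exists_sign (t : ℤ) : ∃ a : ℤ, (a = 4 ∨ a = -4) ∧ t * a = 4 * |t| := by
  rcases le_total 0 t with h | h
  · exact ⟨4, Or.inl rfl, by rw [abs_of_nonneg h]; ring⟩
  · exact ⟨-4, Or.inr rfl, by rw [abs_of_nonpos h]; ring⟩

theorem pair_dec {x : GolayPt → ℤ} {i j : GolayPt} (hij : i ≠ j) (h : |x i| + |x j| = 6) :
    ∃ v ∈ leechLattice, sqNorm v = 32 ∧ dotInt x v = 24 := by
  obtain ⟨a, ha, ha'⟩ := exists_sign (x i)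
  obtain ⟨b, hb, hb'⟩ := exists_sign (x j)
  refine ⟨pairVec i j a b, pairVec_mem ha hb, ?_, ?_⟩
  · rw [sqNorm_pairVec hij]
    rcases ha with rfl | rfl <;> rcases hb with rfl | rfl <;> norm_num
  · rw [dot_pairVec, ha', hb']
    omega

theorem abs_of_sq {t n : ℤ} (hn : 0 ≤ n) (h : t ^ 2 = n ^ 2) : |t| = n := by
  rw [← abs_of_nonneg hn]
  exact (sq_eq_sq_iff_abs_eq_abs t n).1 h

theorem sum_sq_mod2 (y : GolayPt → ℤ) : (∑ i, y i ^ 2) % 2 = (∑ i, y i) % 2 := by
  rw [Finset.sum_int_mod, Finset.sum_int_mod (f := y)]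
  congr 1
  apply Finset.sum_congr rfl
  intro i _
  rcases Int.emod_two_eq_zero_or_one (y i) with h | h
  · rw [pow_two, Int.mul_emod, h]; rfl
  · rw [pow_two, Int.mul_emod, h]; rfl

/-- every dodecad meets some octad in six points -/
noncomputable def dodOct (y : ℕ) : Bool :=
  !(Nat.beq (popc (enc y)) 12) ||
  !(allBelow (fun o => !(Nat.beq (popc (Nat.land (enc y) (fld24 octTab o))) 6 &&
      (isCode (fld24 octTab o) && Nat.beq (popc (fld24 octTab o)) 8))) 759)

set_option maxRecDepth 1000000 in
theorem dodOct_all : allBelow dodOct 4096 = true := by decide +kernel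

theorem exists_octad_six {c : Finset GolayPt} (hc : c ∈ supports (golayCode : Set (GolayPt → ZMod 2)))
    (h12 : c.card = 12) : ∃ O ∈ octads, (c ∩ O).card = 6 := by
  obtain ⟨y, hy, rfl⟩ := (mem_supports_iff c).1 hc
  have h1 := (allBelow_iff _ _).1 dodOct_all y hy
  rw [card_unmask (enc_lt hy)] at h12
  rw [dodOct, h12] at h1
  have h2 : ¬ (∀ o < 759, (!(Nat.beq (popc (Nat.land (enc y) (fld24 octTab o))) 6 &&
      (isCode (fld24 octTab o) && Nat.beq (popc (fld24 octTab o)) 8))) = true) := by
    intro h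
    rw [(allBelow_iff _ _).2 h] at h1
    exact absurd h1 (by decide)
  push Not at h2
  obtain ⟨o, _, h3⟩ := h2
  have h3' : (Nat.beq (popc (Nat.land (enc y) (fld24 octTab o))) 6 &&
      (isCode (fld24 octTab o) && Nat.beq (popc (fld24 octTab o)) 8)) = true := by
    revert h3
    generalize (Nat.beq (popc (Nat.land (enc y) (fld24 octTab o))) 6 &&
      (isCode (fld24 octTab o) && Nat.beq (popc (fld24 octTab o)) 8)) = bb
    cases bb <;> simp
  clear h3
  have h3 := h3'
  rw [Bool.and_eq_true, Bool.and_eq_true] at h3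
  refine ⟨unmask (fld24 octTab o), (unmask_mem_octads_iff (fld24_lt _ _)).2
    ⟨h3.2.1, Nat.eq_of_beq_eq_true h3.2.2⟩, ?_⟩
  rw [← unmask_and, card_unmask (lt_of_le_of_lt Nat.and_le_right (fld24_lt _ _))]
  exact Nat.eq_of_beq_eq_true h3.1

/-- the case of the vectors of shape `(±2)^12` -/
theorem dod_dec {x z : GolayPt → ℤ} {c : Finset GolayPt}
    (hc : c ∈ supports (golayCode : Set (GolayPt → ZMod 2))) (h12 : c.card = 12)
    (hx : ∀ i, x i = 2 * z i) (h1 : ∀ i ∈ c, z i = 1 ∨ z i = -1) (h0 : ∀ i, i ∉ c → z i = 0) :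
    ∃ v ∈ leechLattice, sqNorm v = 32 ∧ dotInt x v = 24 := by
  obtain ⟨O, hO, h6⟩ := exists_octad_six hc h12
  obtain ⟨p, hpO, hpc⟩ : ∃ p ∈ O, p ∉ c := by
    by_contra hcon
    push Not at hcon
    have : c ∩ O = O := Finset.inter_eq_right.2 hcon
    rw [this, hO.2] at h6
    omega
  -- the vector without the sign at `p`
  let w : GolayPt → ℤ := fun i => if i ∈ O then (if i ∈ c then z i else 1) else 0
  have hw1 : ∀ i ∈ O, w i = 1 ∨ w i = -1 := by
    intro i hi
    simp only [w, if_pos hi]
    by_cases hic : i ∈ c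
    · rw [if_pos hic]; exact h1 i hic
    · rw [if_neg hic]; exact Or.inl rfl
  have hw0 : ∀ i, i ∉ O → w i = 0 := fun i hi => by simp only [w, if_neg hi]
  have hwp : w p = 1 := by simp only [w, if_pos hpO, if_neg hpc]
  have hsq : ∀ i, w i ^ 2 = if i ∈ O then 1 else 0 := by
    intro i
    by_cases hi : i ∈ O
    · rw [if_pos hi]; rcases hw1 i hi with h | h <;> rw [h] <;> norm_num
    · rw [if_neg hi, hw0 i hi]; norm_num
  have hsum2 : ∑ i, w i ^ 2 = 8 := by
    rw [Finset.sum_congr rfl (fun i _ => hsq i), Finset.sum_ite_mem, Finset.univ_inter, Finset.sum_const, hO.2]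
    norm_num
  have hpar : (∑ i, w i) % 2 = 0 := by rw [← sum_sq_mod2, hsum2]; norm_num
  -- choice of the sign
  obtain ⟨d, hd, hd4⟩ : ∃ d : ℤ, (d = 0 ∨ d = -2) ∧ (∑ i, w i + d) % 4 = 0 := by
    rcases (by omega : (∑ i, w i) % 4 = 0 ∨ (∑ i, w i) % 4 = 2) with h | h
    · exact ⟨0, Or.inl rfl, by omega⟩
    · exact ⟨-2, Or.inr rfl, by omega⟩
  let u : GolayPt → ℤ := fun i => w i + (if i = p then d else 0)
  have hu1 : ∀ i ∈ O, u i = 1 ∨ u i = -1 := by
    intro i hi
    simp only [u]
    by_cases hip : i = p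
    · rw [if_pos hip, hip, hwp]; omega
    · rw [if_neg hip, add_zero]; exact hw1 i hi
  have hu0 : ∀ i, i ∉ O → u i = 0 := by
    intro i hi
    have hip : i ≠ p := fun h => hi (h ▸ hpO)
    simp only [u, if_neg hip, add_zero]
    exact hw0 i hi
  have huc : ∀ i ∈ c, u i = w i := by
    intro i hi
    have hip : i ≠ p := fun h => hpc (h ▸ hi)
    simp only [u, if_neg hip, add_zero]
  have husum : ∑ i, u i = ∑ i, w i + d := by
    simp only [u]
    rw [Finset.sum_add_distrib]
    simp
  have husq : ∀ i, u i ^ 2 = if i ∈ O then 1 else 0 := by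
    intro i
    by_cases hi : i ∈ O
    · rw [if_pos hi]; rcases hu1 i hi with h | h <;> rw [h] <;> norm_num
    · rw [if_neg hi, hu0 i hi]; norm_num
  refine ⟨fun i => 2 * u i, ?_, ?_, ?_⟩
  · rw [mem_leechLattice_iff_mem_leechSet, mem_leechSet_iff']
    refine ⟨0, u, Or.inl rfl, fun i => by ring, by rw [husum]; omega, ?_⟩
    obtain ⟨wd, hwd, hwO⟩ := hO.1
    have : red2 u = wd := by
      funext i
      by_cases hi : i ∈ O
      · have a1 : red2 u i ≠ 0 := by
          rw [red2_ne_zero_iff]
          rcases hu1 i hi with h | h <;> rw [h] <;> norm_num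
        have a2 : wd i ≠ 0 := by
          rw [← hwO, support₂, Finset.mem_filter] at hi
          exact hi.2
        generalize red2 u i = s at a1
        generalize wd i = t at a2
        revert s t; decide
      · have a1 : red2 u i = 0 := by
          by_contra h
          have h' := (red2_ne_zero_iff u i).1 h
          rw [hu0 i hi] at h'
          omega
        have a2 : wd i = 0 := by
          by_contra h
          apply hi
          rw [← hwO, support₂, Finset.mem_filter]
          exact ⟨Finset.mem_univ i, h⟩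
        rw [a1, a2]
    rw [this]
    exact hwd
  · unfold sqNorm
    have : ∀ i ∈ Finset.univ, (2 * u i) ^ 2 = 4 * (if i ∈ O then (1 : ℤ) else 0) := by
      intro i _
      rw [← husq i]; ring
    rw [Finset.sum_congr rfl this, ← Finset.mul_sum, Finset.sum_ite_mem, Finset.univ_inter, Finset.sum_const, hO.2]
    norm_num
  · unfold dotInt
    have : ∀ i ∈ Finset.univ, x i * (2 * u i) = 4 * (if i ∈ c ∩ O then (1 : ℤ) else 0) := by
      intro i _
      rw [hx i]
      by_cases hic : i ∈ c
      · by_cases hiO : i ∈ O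
        · rw [if_pos (Finset.mem_inter.2 ⟨hic, hiO⟩), huc i hic]
          simp only [w, if_pos hiO, if_pos hic]
          rcases h1 i hic with h | h <;> rw [h] <;> norm_num
        · rw [if_neg (fun h => hiO (Finset.mem_inter.1 h).2), hu0 i hiO]
          ring
      · rw [if_neg (fun h => hic (Finset.mem_inter.1 h).1), h0 i hic]
        ring
    rw [Finset.sum_congr rfl this, ← Finset.mul_sum, Finset.sum_ite_mem, Finset.univ_inter, Finset.sum_const, h6]
    norm_num

theorem exists_ne_zero_of_sum {s : Finset GolayPt} {u : GolayPt → ℤ} (h : ∑ i ∈ s, u i ≠ 0) :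
    ∃ i ∈ s, u i ≠ 0 := by
  by_contra hc
  push Not at hc
  exact h (Finset.sum_eq_zero hc)

/-- every vector of norm 48 has inner product 24 with some minimal vector -/
theorem dec48 {x : GolayPt → ℤ} (hx : x ∈ leechLattice) (hn : sqNorm x = 48) :
    ∃ v ∈ leechLattice, sqNorm v = 32 ∧ dotInt x v = 24 := by
  rw [mem_leechLattice_iff_mem_leechSet, mem_leechSet_iff'] at hx
  obtain ⟨e, z, he, h1, h2, h3⟩ := hx
  have hc : support₂ (red2 z) ∈ supports (golayCode : Set (GolayPt → ZMod 2)) := ⟨red2 z, h3, rfl⟩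
  rcases he with rfl | rfl
  · -- even vectors
    have hx2 : ∀ i, x i = 2 * z i := fun i => by rw [h1 i]; ring
    have hz : ∑ i, z i ^ 2 = 12 := by
      have : sqNorm x = 4 * ∑ i, z i ^ 2 := by
        unfold sqNorm
        rw [Finset.mul_sum]
        exact Finset.sum_congr rfl (fun i _ => by rw [hx2 i]; ring)
      omega
    have hle := card_support_le_sum_sq z
    rw [hz] at hle
    have hle' : (support₂ (red2 z)).card ≤ 12 := by exact_mod_cast hle
    have hterm : ∀ i, 0 ≤ z i ^ 2 - (if i ∈ support₂ (red2 z) then 1 else 0) := by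
      intro i
      by_cases hi : i ∈ support₂ (red2 z)
      · rw [if_pos hi]
        rw [mem_support_red2] at hi
        have : z i ≠ 0 := by intro h0; rw [h0] at hi; omega
        have : 0 < z i ^ 2 := by positivity
        omega
      · rw [if_neg hi]
        have : 0 ≤ z i ^ 2 := by positivity
        omega
    have hsumt : ∑ i, (z i ^ 2 - (if i ∈ support₂ (red2 z) then (1 : ℤ) else 0)) =
        12 - ((support₂ (red2 z)).card : ℤ) := by
      rw [Finset.sum_sub_distrib, hz, Finset.sum_ite_mem, Finset.univ_inter, Finset.sum_const]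
      simp
    rcases card_of_mem_supports hc with h | h | h | h | h
    · -- all z even: impossible
      exfalso
      have hev : ∀ i, z i % 2 = 0 := by
        intro i
        have : i ∉ support₂ (red2 z) := by rw [Finset.card_eq_zero.1 h]; simp
        rw [mem_support_red2] at this
        omega
      have hy : ∑ i, (z i / 2) ^ 2 = 3 := by
        have : ∑ i, z i ^ 2 = 4 * ∑ i, (z i / 2) ^ 2 := by
          rw [Finset.mul_sum]
          apply Finset.sum_congr rfl
          intro i _
          have := hev i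
          obtain ⟨q, hq⟩ : ∃ q, z i = 2 * q := ⟨z i / 2, by omega⟩
          rw [hq]
          have : 2 * q / 2 = q := by omega
          rw [this]; ring
        omega
      have hs : ∑ i, z i = 2 * ∑ i, (z i / 2) := by
        rw [Finset.mul_sum]
        exact Finset.sum_congr rfl (fun i _ => by have := hev i; omega)
      have hp := sum_sq_mod2 (fun i => z i / 2)
      simp only [hy] at hp
      omega
    · -- an octad and one further coordinate
      rw [h] at hsumt
      have hle4 : ∀ i, z i ^ 2 - (if i ∈ support₂ (red2 z) then (1 : ℤ) else 0) ≤ 4 := by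
        intro i
        have := Finset.single_le_sum (fun i _ => hterm i) (Finset.mem_univ i)
        rw [hsumt] at this
        have e : (12 : ℤ) - ((8 : ℕ) : ℤ) = 4 := by norm_num
        rw [e] at this
        exact this
      obtain ⟨i₁, _, hi₁⟩ := exists_ne_zero_of_sum (s := Finset.univ)
        (u := fun i => z i ^ 2 - (if i ∈ support₂ (red2 z) then (1 : ℤ) else 0)) (by rw [hsumt]; norm_num)
      have hoct : ∀ i ∈ support₂ (red2 z), z i ^ 2 = 1 := by
        intro i hi
        have h5 := hle4 i
        rw [if_pos hi] at h5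
        rw [mem_support_red2] at hi
        have h6 : -3 < z i := by nlinarith
        have h7 : z i < 3 := by nlinarith
        have : z i = 1 ∨ z i = -1 := by omega
        rcases this with h | h <;> rw [h] <;> norm_num
      have hi₁c : i₁ ∉ support₂ (red2 z) := by
        intro hi
        apply hi₁
        show z i₁ ^ 2 - (if i₁ ∈ support₂ (red2 z) then (1 : ℤ) else 0) = 0
        rw [if_pos hi, hoct i₁ hi]; norm_num
      have hz1 : z i₁ ^ 2 = 2 ^ 2 := by
        have h5 := hle4 i₁
        have h8 : z i₁ ^ 2 - (if i₁ ∈ support₂ (red2 z) then (1 : ℤ) else 0) ≠ 0 := hi₁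
        rw [if_neg hi₁c] at h5 h8
        rw [mem_support_red2] at hi₁c
        have h6 : -3 < z i₁ := by nlinarith
        have h7 : z i₁ < 3 := by nlinarith
        have h9 : z i₁ ≠ 0 := by intro h0; rw [h0] at h8; norm_num at h8
        have : z i₁ = 2 ∨ z i₁ = -2 := by omega
        rcases this with h | h <;> rw [h] <;> norm_num
      obtain ⟨j, hj⟩ : (support₂ (red2 z)).Nonempty := by
        rw [← Finset.card_pos, h]; norm_num
      have hne : i₁ ≠ j := fun hh => hi₁c (hh ▸ hj)
      apply pair_dec hne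
      have a1 : |z i₁| = 2 := abs_of_sq (by norm_num) hz1
      have a2 : |z j| = 1 := abs_of_sq (n := 1) (by norm_num) (by rw [hoct j hj]; norm_num)
      rw [hx2 i₁, hx2 j, abs_mul, abs_mul, a1, a2]
      norm_num
    · -- a dodecad
      rw [h] at hsumt
      have hall := (Finset.sum_eq_zero_iff_of_nonneg (fun i _ => hterm i)).1 (by rw [hsumt]; norm_num)
      refine dod_dec hc h hx2 ?_ ?_
      · intro i hi
        have := hall i (Finset.mem_univ i)
        rw [if_pos hi] at this
        have h5 : (z i - 1) * (z i + 1) = 0 := by ring_nf; ring_nf at this; omega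
        rcases mul_eq_zero.1 h5 with h6 | h6
        · left; omega
        · right; omega
      · intro i hi
        have := hall i (Finset.mem_univ i)
        rw [if_neg hi, sub_zero, pow_eq_zero_iff (by norm_num)] at this
        exact this
    · omega
    · omega
  · -- odd vectors
    have hu : ∀ i, x i ^ 2 - 1 = 0 ∨ x i ^ 2 - 1 = 8 ∨ 24 ≤ x i ^ 2 - 1 := by
      intro i
      rw [h1 i]
      have e : (1 + 2 * z i) ^ 2 - 1 = 4 * (z i * (z i + 1)) := by ring
      rw [e]
      rcases (by omega : z i = 0 ∨ z i = -1 ∨ z i = 1 ∨ z i = -2 ∨ 2 ≤ z i ∨ z i ≤ -3) with h | h | h | h | h | h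
      · left; rw [h]; norm_num
      · left; rw [h]; norm_num
      · right; left; rw [h]; norm_num
      · right; left; rw [h]; norm_num
      · right; right; nlinarith
      · right; right; nlinarith
    have hnn : ∀ i, 0 ≤ x i ^ 2 - 1 := fun i => by rcases hu i with h | h | h <;> omega
    have hsum : ∑ i, (x i ^ 2 - 1) = 24 := by
      rw [Finset.sum_sub_distrib]
      have : ∑ i, x i ^ 2 = 48 := hn
      rw [this, Finset.sum_const, Finset.card_univ, card_golayPt]
      norm_num
    obtain ⟨i, _, hi⟩ := exists_ne_zero_of_sum (s := Finset.univ) (u := fun i => x i ^ 2 - 1)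
      (by rw [hsum]; norm_num)
    have hs1 : (x i ^ 2 - 1) + ∑ j ∈ Finset.univ.erase i, (x j ^ 2 - 1) = 24 := by
      rw [Finset.add_sum_erase _ (fun j => x j ^ 2 - 1) (Finset.mem_univ i)]; exact hsum
    have hr0 : 0 ≤ ∑ j ∈ Finset.univ.erase i, (x j ^ 2 - 1) := Finset.sum_nonneg (fun j _ => hnn j)
    rcases hu i with h | h | h
    · exact absurd h hi
    · -- a coordinate ±3
      obtain ⟨j, hj, hj0⟩ := exists_ne_zero_of_sum (s := Finset.univ.erase i) (u := fun i => x i ^ 2 - 1)
        (by omega)
      have hs3 : (x j ^ 2 - 1) + ∑ k ∈ (Finset.univ.erase i).erase j, (x k ^ 2 - 1) = 16 := by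
        rw [Finset.add_sum_erase _ (fun j => x j ^ 2 - 1) hj]; omega
      have hr1 : 0 ≤ ∑ k ∈ (Finset.univ.erase i).erase j, (x k ^ 2 - 1) := Finset.sum_nonneg (fun j _ => hnn j)
      have hj8 : x j ^ 2 - 1 = 8 := by
        rcases hu j with h' | h' | h'
        · exact absurd h' hj0
        · exact h'
        · omega
      apply pair_dec (Finset.mem_erase.1 hj).1.symm
      rw [abs_of_sq (n := 3) (by norm_num) (by omega), abs_of_sq (n := 3) (by norm_num) (by omega)]
      norm_num
    · -- a coordinate ±5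
      have h24 : x i ^ 2 - 1 = 24 := by omega
      have hs4 : ∑ j ∈ Finset.univ.erase i, (x j ^ 2 - 1) = 0 := by omega
      obtain ⟨j, hj⟩ := exists_ne i
      have := (Finset.sum_eq_zero_iff_of_nonneg (fun j _ => hnn j)).1 hs4 j
        (Finset.mem_erase.2 ⟨hj, Finset.mem_univ j⟩)
      apply pair_dec hj.symm
      rw [abs_of_sq (n := 5) (by norm_num) (by omega), abs_of_sq (n := 1) (by norm_num) (by omega)]
      norm_num

end Cfsg.Agent.Lib.Helper33
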