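import Cfsg.Agent.Lib.Helper33.Co2Main
import Cfsg.Agent.Lib.Helper33.Dec48
import Cfsg.Agent.Lib.Helper33.CoCls

set_option autoImplicit false

namespace Cfsg.Agent.Lib.Helper33

open Cfsg

def bA0 : ℕ := 0x80008000800080008000800080008000800080008000800080008000800080008000800080008000800080004000c
def bW0 : ℕ := 0x80008000800080006000a0008000600080008000600080008000600080008000800080008000600060008000a0008
def bU0 : ℕ := 0x80008000800080006000a00080006000800080006000800080006000800080008000800080006000600080006000c
def bY0 : ℕ := 0x700090009000700070007000900070009000700090009000900090009000900090009000900090009000700070005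
def bWH : ℕ := 0x9000700070009000b00070007000b00070009000900070007000900070007000700070007000900090009000b0007
def bX275 : ℕ := 0x90007000700070007000900070007000700090007000900090009000900090009000900090007000700090007000b
def bXH : ℕ := 0x90009000900070007000900090007000900070007000700090009000900090009000900070007000700070007000b
def bX2025 : ℕ := 0x900070007000700070009000900070009000700070007000900070009000700090009000900070007000500090009

theorem lenumL2 : LEnum (Cl 0 0 0) decV 197760 valV := by
  refine ⟨enumL2.congr_set ?_, fun t ht hv => decV_small ht hv, fun t ht hv => decV_mem ht hv⟩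
  ext y
  exact ⟨fun h => ⟨h, fun j hj => absurd hj (Nat.not_lt_zero j)⟩, fun h => h.1⟩

theorem lv0_eq : lv0 = lv bA0 := by
  have : f384 co2B 0 = bA0 := by decide +kernel
  rw [lv0, this]

end Cfsg.Agent.Lib.Helper33
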