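import Cfsg.Agent.Lib.Helper33.CoAux
import Cfsg.Agent.Lib.Helper33.C275
import Cfsg.Agent.Lib.Helper33.C100
import Cfsg.Agent.Lib.Helper33.C11178
import Cfsg.Agent.Lib.Helper33.C2025

set_option autoImplicit false

namespace Cfsg.Agent.Lib.Helper33

open Cfsg

theorem bA0_ok : cstOK bA0 = true := by decide +kernel
theorem bW0_ok : cstOK bW0 = true := by decide +kernel
theorem bU0_ok : cstOK bU0 = true := by decide +kernel
theorem bY0_ok : cstOK bY0 = true := by decide +kernel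
theorem bWH_ok : cstOK bWH = true := by decide +kernel
theorem bX275_ok : cstOK bX275 = true := by decide +kernel
theorem bXH_ok : cstOK bXH = true := by decide +kernel
theorem bX2025_ok : cstOK bX2025 = true := by decide +kernel

theorem mem_L2_cst {y : ℕ} (hy : cstOK y = true) (hn : Nat.beq (dotC y y) 10784 = true) : lv y ∈ L2 := by
  rw [mem_L2_iff, ldot_cst hy hy _ hn]; norm_num

theorem bU0_eq : lv bA0 + lv bW0 = lv bU0 := by
  apply Subtype.ext
  show ((lv bA0 : ↥leechLattice) : GolayPt → ℤ) + ((lv bW0 : ↥leechLattice) : GolayPt → ℤ) = _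
  rw [lv_coe (cst_mem bA0_ok), lv_coe (cst_mem bW0_ok), lv_coe (cst_mem bU0_ok)]
  funext p
  exact (by decide +kernel : ∀ p, vec bA0 p + vec bW0 p = vec bU0 p) p

theorem bWH_eq : -lv bY0 - lv bU0 = lv bWH := by
  apply Subtype.ext
  show -((lv bY0 : ↥leechLattice) : GolayPt → ℤ) - ((lv bU0 : ↥leechLattice) : GolayPt → ℤ) = _
  rw [lv_coe (cst_mem bY0_ok), lv_coe (cst_mem bU0_ok), lv_coe (cst_mem bWH_ok)]
  funext p
  exact (by decide +kernel : ∀ p, -vec bY0 p - vec bU0 p = vec bWH p) p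

theorem bW0_mem : lv bW0 ∈ C1 (-8) (lv bA0) :=
  ⟨mem_L2_cst bW0_ok (by decide +kernel), by
    rw [ldot_cst bA0_ok bW0_ok 10744 (by decide +kernel)]; norm_num⟩

theorem bA0_mem : lv bA0 ∈ C1 24 (lv bU0) :=
  ⟨mem_L2_cst bA0_ok (by decide +kernel), by
    rw [ldot_cst bU0_ok bA0_ok 10776 (by decide +kernel)]; norm_num⟩

theorem bY0_mem : lv bY0 ∈ C1 (-16) (lv bU0) :=
  ⟨mem_L2_cst bY0_ok (by decide +kernel), by
    rw [ldot_cst bU0_ok bY0_ok 10736 (by decide +kernel)]; norm_num⟩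

theorem bX275_mem : lv bX275 ∈ C2 24 16 (lv bU0, lv bA0) :=
  ⟨mem_L2_cst bX275_ok (by decide +kernel), by
    show ldot (lv bU0) (lv bX275) = 24
    rw [ldot_cst bU0_ok bX275_ok 10776 (by decide +kernel)]; norm_num, by
    show ldot (lv bA0) (lv bX275) = 16
    rw [ldot_cst bA0_ok bX275_ok 10768 (by decide +kernel)]; norm_num⟩

theorem bXH_mem : lv bXH ∈ C2 24 (-24) (lv bU0, lv bWH) :=
  ⟨mem_L2_cst bXH_ok (by decide +kernel), by
    show ldot (lv bU0) (lv bXH) = 24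
    rw [ldot_cst bU0_ok bXH_ok 10776 (by decide +kernel)]; norm_num, by
    show ldot (lv bWH) (lv bXH) = -24
    rw [ldot_cst bWH_ok bXH_ok 10728 (by decide +kernel)]; norm_num⟩

theorem bX2025_mem : lv bX2025 ∈ C2 0 16 (lv bA0, lv bW0) :=
  ⟨mem_L2_cst bX2025_ok (by decide +kernel), by
    show ldot (lv bA0) (lv bX2025) = 0
    rw [ldot_cst bA0_ok bX2025_ok 10752 (by decide +kernel)]; norm_num, by
    show ldot (lv bW0) (lv bX2025) = 16
    rw [ldot_cst bW0_ok bX2025_ok 10768 (by decide +kernel)]; norm_num⟩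

theorem to_la0 {x : ↥leechLattice} (hx : x ∈ L2) : ∃ g : ↥Co0, g • x = lv bA0 := by
  rw [← lv0_eq]; exact to_lv0 hx

theorem clsm8' : OrbCls ↥Co0 (C1 (-8)) (lv bA0) 47104 := by
  rw [← lv0_eq]; exact clsm8

/-- pairs of minimal vectors with inner product `-8` -/
theorem to_vw8 {v w : ↥leechLattice} (hv : v ∈ L2) (hw : w ∈ C1 (-8) v) :
    ∃ g : ↥Co0, g • (v, w) = (lv bA0, lv bW0) := clsm8'.ext (to_la0 hv) hw bW0_mem

/-- vectors of norm 48 -/
theorem to_lu0 {u : ↥leechLattice} (hu : ldot u u = 48) : ∃ g : ↥Co0, g • u = lv bU0 := by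
  obtain ⟨v, hvL, hv32, hd⟩ := dec48 u.2 (by rw [← ldot_self]; exact hu)
  have hd' : ldot u ⟨v, hvL⟩ = 24 := hd
  have hv2 : (⟨v, hvL⟩ : ↥leechLattice) ∈ L2 := hv32
  have hvv := (mem_L2_iff _).1 hv2
  have hw : u - ⟨v, hvL⟩ ∈ C1 (-8) (⟨v, hvL⟩ : ↥leechLattice) := by
    refine ⟨?_, ?_⟩
    · rw [mem_L2_iff, ldot_sub_left, ldot_sub_right, ldot_sub_right, hu, hd', hvv, ldot_comm _ u, hd']
      norm_num
    · show ldot _ _ = -8
      rw [ldot_sub_right, hvv, ldot_comm _ u, hd']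
      norm_num
  obtain ⟨g, hg⟩ := to_vw8 hv2 hw
  rw [Prod.smul_mk, Prod.mk.injEq] at hg
  refine ⟨g, ?_⟩
  have : u = ⟨v, hvL⟩ + (u - ⟨v, hvL⟩) := by abel
  rw [this, co0_smul_add, hg.1, hg.2, bU0_eq]

theorem to_uv {u v : ↥leechLattice} (hu : ldot u u = 48) (hv : v ∈ C1 24 u) :
    ∃ g : ↥Co0, g • (u, v) = (lv bU0, lv bA0) := c552_cls.ext (to_lu0 hu) hv bA0_mem

theorem to_uvx {u v x : ↥leechLattice} (hu : ldot u u = 48) (hv : v ∈ C1 24 u) (hx : x ∈ C2 24 16 (u, v)) :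
    ∃ g : ↥Co0, g • ((u, v), x) = ((lv bU0, lv bA0), lv bX275) := c275_cls.ext (to_uv hu hv) hx bX275_mem

theorem to_uy {u y : ↥leechLattice} (hu : ldot u u = 48) (hy : y ∈ C1 (-16) u) :
    ∃ g : ↥Co0, g • (u, y) = (lv bU0, lv bY0) := c11178_cls.ext (to_lu0 hu) hy bY0_mem

/-- pairs of vectors of norm 48 with inner product `-32` -/
theorem to_hs {v w : ↥leechLattice} (hv : ldot v v = 48) (hw : ldot w w = 48) (hvw : ldot v w = -32) :
    ∃ g : ↥Co0, g • (v, w) = (lv bU0, lv bWH) := by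
  have hy : -(v + w) ∈ C1 (-16) v := by
    refine ⟨?_, ?_⟩
    · rw [mem_L2_iff, ldot_neg_left, ldot_neg_right, ldot_add_left, ldot_add_right, ldot_add_right, hv, hw, hvw,
        ldot_comm w v, hvw]
      norm_num
    · show ldot _ _ = -16
      rw [ldot_neg_right, ldot_add_right, hv, hvw]
      norm_num
  obtain ⟨g, hg⟩ := to_uy hv hy
  rw [Prod.smul_mk, Prod.mk.injEq] at hg
  refine ⟨g, ?_⟩
  rw [Prod.smul_mk, hg.1]
  have : w = -(-(v + w)) - v := by abel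
  rw [this, co0_smul_sub, co0_smul_neg, hg.1, hg.2, bWH_eq]

theorem to_hsx {v w x : ↥leechLattice} (hv : ldot v v = 48) (hw : ldot w w = 48) (hvw : ldot v w = -32)
    (hx : x ∈ C2 24 (-24) (v, w)) :
    ∃ g : ↥Co0, g • ((v, w), x) = ((lv bU0, lv bWH), lv bXH) := c100_cls.ext (to_hs hv hw hvw) hx bXH_mem

theorem to_vwx {v w x : ↥leechLattice} (hv : v ∈ L2) (hw : w ∈ C1 (-8) v) (hx : x ∈ C2 0 16 (v, w)) :
    ∃ g : ↥Co0, g • ((v, w), x) = ((lv bA0, lv bW0), lv bX2025) := c2025_cls.ext (to_vw8 hv hw) hx bX2025_mem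

end Cfsg.Agent.Lib.Helper33
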