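import Cfsg.Agent.Lib.Helper33.CoFull

set_option autoImplicit false

namespace Cfsg.Agent.Lib.Helper33

open Cfsg

theorem cntBelow_add (f : ℕ → Bool) (a b : ℕ) :
    cntBelow f (a + b) = cntBelow f a + cntBelow (fun t => f (a + t)) b := by
  induction b with
  | zero => rfl
  | succ b ih =>
    have e1 : cntBelow f (a + b + 1) = Bool.rec (cntBelow f (a + b)) (Nat.succ (cntBelow f (a + b))) (f (a + b)) := rfl
    have e2 : cntBelow (fun t => f (a + t)) (b + 1) =
      Bool.rec (cntBelow (fun t => f (a + t)) b) (Nat.succ (cntBelow (fun t => f (a + t)) b)) (f (a + b)) := rfl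
    rw [← add_assoc, e1, e2, ih]
    cases f (a + b)
    · rfl
    · rfl

/-- counting in chunks (to keep the recursion shallow) -/
noncomputable def cntChunks (f : ℕ → Bool) (s c : ℕ) : ℕ :=
  sumBelow (fun i => cntBelow (fun t => f (Nat.add (Nat.mul s i) t)) s) c

theorem cntChunks_eq (f : ℕ → Bool) (s c : ℕ) : cntChunks f s c = cntBelow f (s * c) := by
  induction c with
  | zero => rfl
  | succ c ih =>
    have e : cntChunks f s (c + 1) = Nat.add (cntBelow (fun t => f (Nat.add (Nat.mul s c) t)) s) (cntChunks f s c) := rfl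
    rw [e, ih, Nat.mul_succ, cntBelow_add, add_comm]
    rfl

/-- cardinality of a set of raw vectors defined inside the lattice -/
theorem ncard_raw (P : (GolayPt → ℤ) → Prop) :
    {w : GolayPt → ℤ | w ∈ leechLattice ∧ P w}.ncard = {y : ↥leechLattice | P (y : GolayPt → ℤ)}.ncard := by
  have : {w : GolayPt → ℤ | w ∈ leechLattice ∧ P w} = Subtype.val '' {y : ↥leechLattice | P (y : GolayPt → ℤ)} := by
    ext w
    constructor
    · rintro ⟨h1, h2⟩
      exact ⟨⟨w, h1⟩, h2, rfl⟩
    · rintro ⟨y, hy, rfl⟩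
      exact ⟨y.2, hy⟩
  rw [this, Set.ncard_image_of_injective _ Subtype.val_injective]

end Cfsg.Agent.Lib.Helper33
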