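import Cfsg.Agent.Lib.Helper33.Orbit

set_option autoImplicit false

namespace Cfsg.Agent.Lib.Helper33

open scoped Pointwise

/-- Data describing the orbits of the stabiliser of `a₀` (in a `G`-set `A`) on an invariant subset `Ω` of a second
`G`-set `X`, by means of an invariant `rel`. -/
structure MixData (G : Type*) {A X ι : Type*} [Group G] [MulAction G A] [MulAction G X] (Ω : Set X)
    (rel : A → X → ι) (a₀ : A) (sz : ι → ℕ) : Prop where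
  smul_mem : ∀ (g : G), ∀ y ∈ Ω, g • y ∈ Ω
  rel_smul : ∀ (g : G) (a : A) (y : X), rel (g • a) (g • y) = rel a y
  trans₂ : ∀ y ∈ Ω, ∀ z ∈ Ω, rel a₀ y = rel a₀ z → ∃ h : G, h • a₀ = a₀ ∧ h • y = z
  count : ∀ i, {y | y ∈ Ω ∧ rel a₀ y = i}.ncard = sz i

namespace MixData

variable {G A X ι : Type*} [Group G] [MulAction G A] [MulAction G X] {Ω : Set X} {rel : A → X → ι} {a₀ : A}
  {sz : ι → ℕ}

theorem trans₂' (D : MixData G Ω rel a₀ sz) {a : A} (ha : ∃ g : G, g • a = a₀) {y z : X} (hy : y ∈ Ω) (hz : z ∈ Ω)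
    (h : rel a y = rel a z) : ∃ g : G, g • a = a ∧ g • y = z := by
  obtain ⟨u, hu⟩ := ha
  have h1 : rel a₀ (u • y) = rel a₀ (u • z) := by
    rw [← hu, D.rel_smul, D.rel_smul, h]
  obtain ⟨b, hb, hb'⟩ := D.trans₂ _ (D.smul_mem u y hy) _ (D.smul_mem u z hz) h1
  refine ⟨u⁻¹ * b * u, ?_, ?_⟩
  · rw [mul_smul, mul_smul, hu, hb, ← hu, inv_smul_smul]
  · rw [mul_smul, mul_smul, hb', inv_smul_smul]

theorem count' (D : MixData G Ω rel a₀ sz) {a : A} (ha : ∃ g : G, g • a = a₀) (i : ι) :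
    {y | y ∈ Ω ∧ rel a y = i}.ncard = sz i := by
  obtain ⟨u, hu⟩ := ha
  rw [← D.count i]
  have : {y | y ∈ Ω ∧ rel a₀ y = i} = (fun y => u • y) '' {y | y ∈ Ω ∧ rel a y = i} := by
    ext y
    constructor
    · rintro ⟨hy, hr⟩
      refine ⟨u⁻¹ • y, ⟨D.smul_mem _ y hy, ?_⟩, smul_inv_smul u y⟩
      rw [← D.rel_smul u, smul_inv_smul, hu, hr]
    · rintro ⟨z, ⟨hz, hr⟩, rfl⟩
      exact ⟨D.smul_mem u z hz, by rw [← hu, D.rel_smul, hr]⟩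
  rw [this, Set.ncard_image_of_injective _ (MulAction.injective u)]

theorem orbit_stabilizer_eq (D : MixData G Ω rel a₀ sz) {a : A} (ha : ∃ g : G, g • a = a₀) {y : X} (hy : y ∈ Ω) :
    MulAction.orbit ↥(MulAction.stabilizer G a) y = {z | z ∈ Ω ∧ rel a z = rel a y} := by
  ext z
  constructor
  · rintro ⟨⟨g, hg⟩, rfl⟩
    refine ⟨D.smul_mem g y hy, ?_⟩
    have hg' : g • a = a := hg
    show rel a (g • y) = rel a y
    conv_lhs => rw [← hg']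
    exact D.rel_smul g a y
  · rintro ⟨hz, hr⟩
    obtain ⟨g, hg, hg'⟩ := D.trans₂' ha hy hz hr.symm
    exact ⟨⟨g, hg⟩, hg'⟩

theorem ncard_orbit_stabilizer (D : MixData G Ω rel a₀ sz) {a : A} (ha : ∃ g : G, g • a = a₀) {y : X}
    (hy : y ∈ Ω) : (MulAction.orbit ↥(MulAction.stabilizer G a) y).ncard = sz (rel a y) := by
  rw [D.orbit_stabilizer_eq ha hy]
  exact D.count' ha _

theorem exists_rel (D : MixData G Ω rel a₀ sz) {a : A} (ha : ∃ g : G, g • a = a₀) {i : ι} (hi : sz i ≠ 0) :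
    ∃ y ∈ Ω, rel a y = i := by
  have h := D.count' ha i
  have hne : {y | y ∈ Ω ∧ rel a y = i}.Nonempty := by
    by_contra hc
    rw [Set.not_nonempty_iff_eq_empty] at hc
    rw [hc, Set.ncard_empty] at h
    exact hi h.symm
  obtain ⟨y, hy, hr⟩ := hne
  exact ⟨y, hy, hr⟩

theorem relJ' (D : MixData G Ω rel a₀ sz) (P : ι → Prop) (hJ : ∀ y ∈ Ω, P (rel a₀ y)) {a : A}
    (ha : ∃ g : G, g • a = a₀) {y : X} (hy : y ∈ Ω) : P (rel a y) := by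
  obtain ⟨u, hu⟩ := ha
  rw [← D.rel_smul u, hu]
  exact hJ _ (D.smul_mem u y hy)

theorem orbits2 (D : MixData G Ω rel a₀ sz) {a : A} (ha : ∃ g : G, g • a = a₀) {i₁ i₂ : ι} {n₁ n₂ : ℕ}
    (h₁ : sz i₁ = n₁) (h₂ : sz i₂ = n₂) (p₁ : n₁ ≠ 0) (p₂ : n₂ ≠ 0)
    (hJ : ∀ y ∈ Ω, rel a₀ y = i₁ ∨ rel a₀ y = i₂) :
    ∃ X₁ ∈ Ω, ∃ X₂ ∈ Ω,
      (MulAction.orbit ↥(MulAction.stabilizer G a) X₁).ncard = n₁ ∧
      (MulAction.orbit ↥(MulAction.stabilizer G a) X₂).ncard = n₂ ∧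
      Ω = MulAction.orbit ↥(MulAction.stabilizer G a) X₁ ∪ MulAction.orbit ↥(MulAction.stabilizer G a) X₂ := by
  obtain ⟨X₁, hX₁, hr₁⟩ := D.exists_rel ha (i := i₁) (by rw [h₁]; exact p₁)
  obtain ⟨X₂, hX₂, hr₂⟩ := D.exists_rel ha (i := i₂) (by rw [h₂]; exact p₂)
  refine ⟨X₁, hX₁, X₂, hX₂, ?_, ?_, ?_⟩
  · rw [D.ncard_orbit_stabilizer ha hX₁, hr₁, h₁]
  · rw [D.ncard_orbit_stabilizer ha hX₂, hr₂, h₂]
  · rw [D.orbit_stabilizer_eq ha hX₁, D.orbit_stabilizer_eq ha hX₂, hr₁, hr₂]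
    ext y
    constructor
    · intro hy
      rcases D.relJ' (fun i => i = i₁ ∨ i = i₂) hJ ha hy with h | h
      · exact Or.inl ⟨hy, h⟩
      · exact Or.inr ⟨hy, h⟩
    · rintro (h | h)
      · exact h.1
      · exact h.1

theorem orbits3 (D : MixData G Ω rel a₀ sz) {a : A} (ha : ∃ g : G, g • a = a₀) {i₁ i₂ i₃ : ι} {n₁ n₂ n₃ : ℕ}
    (h₁ : sz i₁ = n₁) (h₂ : sz i₂ = n₂) (h₃ : sz i₃ = n₃) (p₁ : n₁ ≠ 0) (p₂ : n₂ ≠ 0) (p₃ : n₃ ≠ 0)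
    (hJ : ∀ y ∈ Ω, rel a₀ y = i₁ ∨ rel a₀ y = i₂ ∨ rel a₀ y = i₃) :
    ∃ X₁ ∈ Ω, ∃ X₂ ∈ Ω, ∃ X₃ ∈ Ω,
      (MulAction.orbit ↥(MulAction.stabilizer G a) X₁).ncard = n₁ ∧
      (MulAction.orbit ↥(MulAction.stabilizer G a) X₂).ncard = n₂ ∧
      (MulAction.orbit ↥(MulAction.stabilizer G a) X₃).ncard = n₃ ∧
      Ω = MulAction.orbit ↥(MulAction.stabilizer G a) X₁ ∪ MulAction.orbit ↥(MulAction.stabilizer G a) X₂ ∪
        MulAction.orbit ↥(MulAction.stabilizer G a) X₃ := by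
  obtain ⟨X₁, hX₁, hr₁⟩ := D.exists_rel ha (i := i₁) (by rw [h₁]; exact p₁)
  obtain ⟨X₂, hX₂, hr₂⟩ := D.exists_rel ha (i := i₂) (by rw [h₂]; exact p₂)
  obtain ⟨X₃, hX₃, hr₃⟩ := D.exists_rel ha (i := i₃) (by rw [h₃]; exact p₃)
  refine ⟨X₁, hX₁, X₂, hX₂, X₃, hX₃, ?_, ?_, ?_, ?_⟩
  · rw [D.ncard_orbit_stabilizer ha hX₁, hr₁, h₁]
  · rw [D.ncard_orbit_stabilizer ha hX₂, hr₂, h₂]
  · rw [D.ncard_orbit_stabilizer ha hX₃, hr₃, h₃]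
  · rw [D.orbit_stabilizer_eq ha hX₁, D.orbit_stabilizer_eq ha hX₂, D.orbit_stabilizer_eq ha hX₃, hr₁, hr₂, hr₃]
    ext y
    constructor
    · intro hy
      rcases D.relJ' (fun i => i = i₁ ∨ i = i₂ ∨ i = i₃) hJ ha hy with h | h | h
      · exact Or.inl (Or.inl ⟨hy, h⟩)
      · exact Or.inl (Or.inr ⟨hy, h⟩)
      · exact Or.inr ⟨hy, h⟩
    · rintro ((h | h) | h)
      · exact h.1
      · exact h.1
      · exact h.1

theorem orbits4 (D : MixData G Ω rel a₀ sz) {a : A} (ha : ∃ g : G, g • a = a₀) {i₁ i₂ i₃ i₄ : ι}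
    {n₁ n₂ n₃ n₄ : ℕ}
    (h₁ : sz i₁ = n₁) (h₂ : sz i₂ = n₂) (h₃ : sz i₃ = n₃) (h₄ : sz i₄ = n₄)
    (p₁ : n₁ ≠ 0) (p₂ : n₂ ≠ 0) (p₃ : n₃ ≠ 0) (p₄ : n₄ ≠ 0)
    (hJ : ∀ y ∈ Ω, rel a₀ y = i₁ ∨ rel a₀ y = i₂ ∨ rel a₀ y = i₃ ∨ rel a₀ y = i₄) :
    ∃ X₁ ∈ Ω, ∃ X₂ ∈ Ω, ∃ X₃ ∈ Ω, ∃ X₄ ∈ Ω,
      (MulAction.orbit ↥(MulAction.stabilizer G a) X₁).ncard = n₁ ∧
      (MulAction.orbit ↥(MulAction.stabilizer G a) X₂).ncard = n₂ ∧
      (MulAction.orbit ↥(MulAction.stabilizer G a) X₃).ncard = n₃ ∧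
      (MulAction.orbit ↥(MulAction.stabilizer G a) X₄).ncard = n₄ ∧
      Ω = MulAction.orbit ↥(MulAction.stabilizer G a) X₁ ∪ MulAction.orbit ↥(MulAction.stabilizer G a) X₂ ∪
        MulAction.orbit ↥(MulAction.stabilizer G a) X₃ ∪ MulAction.orbit ↥(MulAction.stabilizer G a) X₄ := by
  obtain ⟨X₁, hX₁, hr₁⟩ := D.exists_rel ha (i := i₁) (by rw [h₁]; exact p₁)
  obtain ⟨X₂, hX₂, hr₂⟩ := D.exists_rel ha (i := i₂) (by rw [h₂]; exact p₂)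
  obtain ⟨X₃, hX₃, hr₃⟩ := D.exists_rel ha (i := i₃) (by rw [h₃]; exact p₃)
  obtain ⟨X₄, hX₄, hr₄⟩ := D.exists_rel ha (i := i₄) (by rw [h₄]; exact p₄)
  refine ⟨X₁, hX₁, X₂, hX₂, X₃, hX₃, X₄, hX₄, ?_, ?_, ?_, ?_, ?_⟩
  · rw [D.ncard_orbit_stabilizer ha hX₁, hr₁, h₁]
  · rw [D.ncard_orbit_stabilizer ha hX₂, hr₂, h₂]
  · rw [D.ncard_orbit_stabilizer ha hX₃, hr₃, h₃]
  · rw [D.ncard_orbit_stabilizer ha hX₄, hr₄, h₄]
  · rw [D.orbit_stabilizer_eq ha hX₁, D.orbit_stabilizer_eq ha hX₂, D.orbit_stabilizer_eq ha hX₃,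
      D.orbit_stabilizer_eq ha hX₄, hr₁, hr₂, hr₃, hr₄]
    ext y
    constructor
    · intro hy
      rcases D.relJ' (fun i => i = i₁ ∨ i = i₂ ∨ i = i₃ ∨ i = i₄) hJ ha hy with h | h | h | h
      · exact Or.inl (Or.inl (Or.inl ⟨hy, h⟩))
      · exact Or.inl (Or.inl (Or.inr ⟨hy, h⟩))
      · exact Or.inl (Or.inr ⟨hy, h⟩)
      · exact Or.inr ⟨hy, h⟩
    · rintro (((h | h) | h) | h)
      · exact h.1
      · exact h.1
      · exact h.1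
      · exact h.1

/-- Build `MixData` from a certified forest for the stabiliser of the base object. -/
theorem ofForest [DecidableEq ι]
    (Ω : Set X) (rel : A → X → ι) (a₀ : A)
    (obj : ℕ → X) (n : ℕ) (lb : ℕ → ℕ) (cl : ℕ → ι)
    (smul_mem : ∀ (g : G), ∀ y ∈ Ω, g • y ∈ Ω)
    (rel_smul : ∀ (g : G) (a : A) (y : X), rel (g • a) (g • y) = rel a y)
    (cover : ∀ y ∈ Ω, ∃ k < n, y = obj k)
    (mem : ∀ k < n, obj k ∈ Ω)
    (inj : ∀ k < n, ∀ k' < n, obj k = obj k' → k = k')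
    (forest : ∀ k < n, ∃ h : G, h • a₀ = a₀ ∧ h • obj k = obj (lb k))
    (hc : ∀ k < n, rel a₀ (obj (lb k)) = cl k)
    (roots : ∀ k < n, ∀ k' < n, cl k = cl k' → lb k = lb k') :
    MixData G Ω rel a₀ (fun i => ((Finset.range n).filter (fun k => cl k = i)).card) ∧
      ∀ k < n, rel a₀ (obj k) = cl k := by
  have hrel : ∀ k < n, rel a₀ (obj k) = cl k := by
    intro k hk
    obtain ⟨h, h0, h1⟩ := forest k hk
    rw [← hc k hk, ← h1]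
    conv_rhs => rw [← h0]
    exact (rel_smul h a₀ (obj k)).symm
  refine ⟨⟨smul_mem, rel_smul, ?_, ?_⟩, hrel⟩
  · intro y hy z hz hyz
    obtain ⟨k, hk, rfl⟩ := cover y hy
    obtain ⟨k', hk', rfl⟩ := cover z hz
    rw [hrel k hk, hrel k' hk'] at hyz
    have hl := roots k hk k' hk' hyz
    obtain ⟨h, h0, h1⟩ := forest k hk
    obtain ⟨h', h0', h1'⟩ := forest k' hk'
    refine ⟨h'⁻¹ * h, ?_, ?_⟩
    · rw [mul_smul, h0]
      conv_lhs => rw [← h0']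
      exact inv_smul_smul h' a₀
    · rw [mul_smul, h1, hl, ← h1', inv_smul_smul]
  · intro i
    have : {y | y ∈ Ω ∧ rel a₀ y = i} =
        obj '' (((Finset.range n).filter (fun k => cl k = i) : Finset ℕ) : Set ℕ) := by
      ext y
      constructor
      · rintro ⟨hy, hr⟩
        obtain ⟨k, hk, rfl⟩ := cover y hy
        refine ⟨k, ?_, rfl⟩
        rw [Finset.mem_coe, Finset.mem_filter, Finset.mem_range]
        exact ⟨hk, by rw [← hrel k hk, hr]⟩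
      · rintro ⟨k, hk, rfl⟩
        rw [Finset.mem_coe, Finset.mem_filter, Finset.mem_range] at hk
        exact ⟨mem k hk.1, by rw [hrel k hk.1, hk.2]⟩
    rw [this, Set.InjOn.ncard_image, Set.ncard_coe_finset]
    intro k hk k' hk' h
    rw [Finset.mem_coe, Finset.mem_filter, Finset.mem_range] at hk hk'
    exact inj k hk.1 k' hk'.1 h

end MixData

end Cfsg.Agent.Lib.Helper33
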