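import Cfsg.Agent.Lib.Helper33.Forest
import Cfsg.Agent.Lib.Helper33.Mix

set_option autoImplicit false

namespace Cfsg.Agent.Lib.Helper33

open Cfsg
open scoped Pointwise

/-- A tabulated `M24`-invariant family: `Ω` is enumerated injectively by `obj` on `[0,n)`, and
`edge P k j aux = true` certifies that the permutation coded by `P` maps `obj k` to `obj j`. -/
structure TabFam {X : Type*} [MulAction (Equiv.Perm GolayPt) X] (Ω : Set X) (obj : ℕ → X) (n : ℕ)
    (edge : ℕ → ℕ → ℕ → ℕ → Bool) : Prop where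
  cover : ∀ y ∈ Ω, ∃ k < n, y = obj k
  mem : ∀ k < n, obj k ∈ Ω
  inj : ∀ k < n, ∀ k' < n, obj k = obj k' → k = k'
  smul_mem : ∀ g ∈ M24, ∀ y ∈ Ω, g • y ∈ Ω
  edge_spec : ∀ P k j aux, inM24 P = true → k < n → j < n → edge P k j aux = true →
    permOf P • obj k = obj j

/-- field `k` of a packed array with 8-bit fields -/
def fld8 (A k : ℕ) : ℕ := Nat.land (Nat.shiftRight A (Nat.mul 8 k)) 255

/-- A certified spanning forest with a depth function. -/
theorem forest_induction' {G X : Type*} [Group G] [MulAction G X] (H : Subgroup G)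
    (obj : ℕ → X) (lb : ℕ → ℕ) (dp : ℕ → ℕ) (n : ℕ)
    (h : ∀ k < n, k = lb k ∨ ∃ j < n, dp j < dp k ∧ lb j = lb k ∧ ∃ g ∈ H, g • obj k = obj j) :
    ∀ k < n, ∃ g ∈ H, g • obj k = obj (lb k) := by
  have key : ∀ d k, dp k = d → k < n → ∃ g ∈ H, g • obj k = obj (lb k) := by
    intro d
    induction d using Nat.strong_induction_on with
    | _ d ih =>
      intro k hd hk
      rcases h k hk with h1 | ⟨j, hj, hdj, hl, g, hg, hgk⟩
      · exact ⟨1, H.one_mem, by rw [one_smul, ← h1]⟩
      · obtain ⟨g', hg', h2⟩ := ih (dp j) (hd ▸ hdj) j rfl hj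
        exact ⟨g' * g, H.mul_mem hg' hg, by rw [mul_smul, hgk, h2, hl]⟩
  exact fun k hk => key _ k rfl hk

/-- certificate check for node `k` of a forest -/
noncomputable def gNodeOK (edge : ℕ → ℕ → ℕ → ℕ → Bool) (gens par gi aux dep trs rts ng r n k : ℕ) : Bool :=
  Nat.blt (fld4 trs k) r &&
  (Nat.beq k (fld12 rts (fld4 trs k)) ||
   (Nat.blt (fld12 par k) n && (Nat.blt (fld8 dep (fld12 par k)) (fld8 dep k) &&
    (Nat.beq (fld4 trs (fld12 par k)) (fld4 trs k) && (Nat.blt (fld4 gi k) ng &&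
     edge (fldP gens (fld4 gi k)) k (fld12 par k) (fld4 aux k))))))

/-- the packed permutations `gens` lie in `M24` and satisfy the test `fix` -/
noncomputable def gGensOK (fix : ℕ → ℕ → Bool) (gens gaux ng : ℕ) : Bool :=
  allBelow (fun i => inM24 (fldP gens i) && fix (fldP gens i) (fld4 gaux i)) ng

theorem gGensOK_spec {fix : ℕ → ℕ → Bool} {gens gaux ng : ℕ} (h : gGensOK fix gens gaux ng = true) :
    ∀ i < ng, inM24 (fldP gens i) = true ∧ fix (fldP gens i) (fld4 gaux i) = true := by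
  rw [gGensOK, allBelow_iff] at h
  intro i hi
  have := h i hi
  rw [Bool.and_eq_true] at this
  exact this

/-- the `j`-th packed permutation of `fus` lies in `M24` and maps root `j` to node `0` -/
noncomputable def gFuseOK (edge : ℕ → ℕ → ℕ → ℕ → Bool) (fus faux rts r n : ℕ) : Bool :=
  allBelow (fun j => inM24 (fldP fus j) && (Nat.blt (fld12 rts j) n &&
    edge (fldP fus j) (fld12 rts j) 0 (fld4 faux j))) r

/-- kernel-friendly count of the nodes whose tree has value `i` -/
noncomputable def cntBelow (f : ℕ → Bool) (n : ℕ) : ℕ :=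
  Nat.rec 0 (fun k ih => Bool.rec ih (Nat.succ ih) (f k)) n

theorem cntBelow_eq (f : ℕ → Bool) (n : ℕ) :
    cntBelow f n = ((Finset.range n).filter (fun k => f k = true)).card := by
  induction n with
  | zero => rfl
  | succ n ih =>
    rw [Finset.range_add_one, Finset.filter_insert]
    have e : cntBelow f (n + 1) = Bool.rec (cntBelow f n) (Nat.succ (cntBelow f n)) (f n) := rfl
    rw [e]
    cases h : f n
    · simp [ih]
    · simp [ih]

namespace TabFam

variable {X : Type*} [MulAction (Equiv.Perm GolayPt) X] {Ω : Set X} {obj : ℕ → X} {n : ℕ}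
  {edge : ℕ → ℕ → ℕ → ℕ → Bool}

theorem forest (F : TabFam Ω obj n edge) (H : Subgroup (Equiv.Perm GolayPt))
    (gens par gi aux dep trs rts ng r : ℕ)
    (hg : ∀ i < ng, inM24 (fldP gens i) = true ∧ permOf (fldP gens i) ∈ H)
    (hall : allBelow (gNodeOK edge gens par gi aux dep trs rts ng r n) n = true) :
    ∀ k < n, fld4 trs k < r ∧ ∃ g ∈ H, g • obj k = obj (fld12 rts (fld4 trs k)) := by
  rw [allBelow_iff] at hall
  intro k hk
  refine ⟨?_, ?_⟩
  · have := hall k hk
    rw [gNodeOK, Bool.and_eq_true] at this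
    exact blt_iff.1 this.1
  · refine forest_induction' H obj (fun k => fld12 rts (fld4 trs k)) (fun k => fld8 dep k) n ?_ k hk
    intro k hk
    have := hall k hk
    rw [gNodeOK, Bool.and_eq_true, Bool.or_eq_true] at this
    rcases this.2 with h | h
    · left; exact Nat.eq_of_beq_eq_true h
    · right
      simp only [Bool.and_eq_true] at h
      obtain ⟨h1, h1', h2, h3, h4⟩ := h
      exact ⟨fld12 par k, blt_iff.1 h1, blt_iff.1 h1', by rw [Nat.eq_of_beq_eq_true h2],
        permOf (fldP gens (fld4 gi k)), (hg _ (blt_iff.1 h3)).2,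
        F.edge_spec _ _ _ _ (hg _ (blt_iff.1 h3)).1 hk (blt_iff.1 h1) h4⟩

/-- orbits of the stabiliser in `M24` of an object `a₀` on a tabulated family -/
theorem mixData {A : Type*} [MulAction (Equiv.Perm GolayPt) A] (F : TabFam Ω obj n edge)
    (rel : A → X → ℕ) (a₀ : A) (fix : ℕ → ℕ → Bool)
    (gens gaux par gi aux dep trs rts ng r : ℕ) (c : ℕ → ℕ)
    (rel_smul : ∀ (g : Equiv.Perm GolayPt) (a : A) (y : X), rel (g • a) (g • y) = rel a y)
    (hfix : ∀ P x, inM24 P = true → fix P x = true → permOf P • a₀ = a₀)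
    (hgens : gGensOK fix gens gaux ng = true)
    (hforest : allBelow (gNodeOK edge gens par gi aux dep trs rts ng r n) n = true)
    (hc : ∀ j < r, rel a₀ (obj (fld12 rts j)) = c j)
    (hroots : ∀ j < r, ∀ j' < r, c j = c j' → j = j') :
    MixData ↥M24 Ω rel a₀ (fun i => cntBelow (fun k => Nat.beq (c (fld4 trs k)) i) n) ∧
      ∀ y ∈ Ω, ∃ j < r, rel a₀ y = c j := by
  have hF := F.forest (M24 ⊓ MulAction.stabilizer (Equiv.Perm GolayPt) a₀) gens par gi aux dep trs rts ng r
    (fun i hi => ⟨(gGensOK_spec hgens i hi).1, Subgroup.mem_inf.2 ⟨permOf_mem_M24 (gGensOK_spec hgens i hi).1,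
      hfix _ _ (gGensOK_spec hgens i hi).1 (gGensOK_spec hgens i hi).2⟩⟩) hforest
  have key := MixData.ofForest (G := ↥M24) Ω rel a₀ obj n
    (fun k => fld12 rts (fld4 trs k)) (fun k => c (fld4 trs k))
    (fun g y hy => F.smul_mem g.1 g.2 y hy) (fun g a y => rel_smul g.1 a y) F.cover F.mem F.inj ?_ ?_ ?_
  · refine ⟨?_, ?_⟩
    · have e : (fun i => cntBelow (fun k => Nat.beq (c (fld4 trs k)) i) n) =
          (fun i => ((Finset.range n).filter (fun k => c (fld4 trs k) = i)).card) := by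
        funext i
        rw [cntBelow_eq]
        congr 1
        apply Finset.filter_congr
        intro k _
        exact ⟨Nat.eq_of_beq_eq_true, fun h => by rw [h]; exact Nat.beq_refl _⟩
      rw [e]
      exact key.1
    · intro y hy
      obtain ⟨k, hk, rfl⟩ := F.cover y hy
      exact ⟨_, (hF k hk).1, key.2 k hk⟩
  · intro k hk
    obtain ⟨_, g, hg, h⟩ := hF k hk
    exact ⟨⟨g, hg.1⟩, hg.2, h⟩
  · intro k hk
    exact hc _ (hF k hk).1
  · intro k hk k' hk' h
    show fld12 rts (fld4 trs k) = fld12 rts (fld4 trs k')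
    rw [hroots _ (hF k hk).1 _ (hF k' hk').1 h]

/-- rank data of `M24` on a tabulated family -/
theorem rankData (F : TabFam Ω obj n edge) (rel : X → X → ℕ)
    (gens gaux fus faux par gi aux dep trs rts ng r : ℕ) (c : ℕ → ℕ) (hn : 0 < n)
    (rel_smul : ∀ (g : Equiv.Perm GolayPt) (a : X) (y : X), rel (g • a) (g • y) = rel a y)
    (hgens : gGensOK (fun P x => edge P 0 0 x) gens gaux ng = true)
    (hforest : allBelow (gNodeOK edge gens par gi aux dep trs rts ng r n) n = true)
    (hfuse : gFuseOK edge fus faux rts r n = true)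
    (hc : ∀ j < r, rel (obj 0) (obj (fld12 rts j)) = c j)
    (hroots : ∀ j < r, ∀ j' < r, c j = c j' → j = j') :
    RankData ↥M24 Ω rel (obj 0) (fun i => cntBelow (fun k => Nat.beq (c (fld4 trs k)) i) n) ∧
      ∀ y ∈ Ω, ∃ j < r, rel (obj 0) y = c j := by
  obtain ⟨D, hJ⟩ := F.mixData rel (obj 0) (fun P x => edge P 0 0 x) gens gaux par gi aux dep trs rts ng r c rel_smul
    (fun P x hP h => F.edge_spec P 0 0 x hP hn hn h) hgens hforest hc hroots
  have hF := F.forest ⊤ gens par gi aux dep trs rts ng r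
    (fun i hi => ⟨(gGensOK_spec hgens i hi).1, Subgroup.mem_top _⟩) hforest
  have hF' := F.forest M24 gens par gi aux dep trs rts ng r
    (fun i hi => ⟨(gGensOK_spec hgens i hi).1, permOf_mem_M24 (gGensOK_spec hgens i hi).1⟩) hforest
  rw [gFuseOK, allBelow_iff] at hfuse
  refine ⟨⟨F.mem 0 hn, D.smul_mem, ?_, D.rel_smul, D.trans₂, D.count⟩, hJ⟩
  intro y hy
  obtain ⟨k, hk, rfl⟩ := F.cover y hy
  obtain ⟨hr, g, hg, h⟩ := hF' k hk
  have := hfuse _ hr
  simp only [Bool.and_eq_true] at this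
  refine ⟨⟨permOf (fldP fus (fld4 trs k)), permOf_mem_M24 this.1⟩ * ⟨g, hg⟩, ?_⟩
  rw [mul_smul]
  show permOf (fldP fus (fld4 trs k)) • g • obj k = obj 0
  rw [h]
  exact F.edge_spec _ _ _ _ this.1 (blt_iff.1 this.2.1) hn this.2.2

theorem ncard_eq (F : TabFam Ω obj n edge) : Ω.ncard = n := by
  have : Ω = obj '' ((Finset.range n : Finset ℕ) : Set ℕ) := by
    ext y
    constructor
    · intro hy
      obtain ⟨k, hk, rfl⟩ := F.cover y hy
      exact ⟨k, by simpa using hk, rfl⟩
    · rintro ⟨k, hk, rfl⟩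
      exact F.mem k (by simpa using hk)
  rw [this, Set.InjOn.ncard_image, Set.ncard_coe_finset, Finset.card_range]
  intro k hk k' hk' h
  exact F.inj k (by simpa using hk) k' (by simpa using hk') h

end TabFam

/-- a family of subsets given by a table of masks -/
theorem maskTabFam (Ω : Set (Finset GolayPt)) (tab n : ℕ)
    (smul_mem : ∀ g ∈ M24, ∀ y ∈ Ω, g • y ∈ Ω)
    (cover : ∀ y ∈ Ω, ∃ k < n, y = unmask (fld24 tab k))
    (mem : ∀ k < n, unmask (fld24 tab k) ∈ Ω)
    (inj : ∀ k < n, ∀ k' < n, fld24 tab k = fld24 tab k' → k = k') :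
    TabFam Ω (fun k => unmask (fld24 tab k)) n
      (fun P k j _ => Nat.beq (permMask P (fld24 tab k)) (fld24 tab j)) := by
  refine ⟨cover, mem, ?_, smul_mem, ?_⟩
  · intro k hk k' hk' h
    exact inj k hk k' hk' (unmask_inj (fld24_lt _ _) (fld24_lt _ _) h)
  · intro P k j _ hP _ _ h
    show permOf P • unmask (fld24 tab k) = unmask (fld24 tab j)
    rw [smul_unmask (isPerm_of_inM24 hP), Nat.eq_of_beq_eq_true h]

end Cfsg.Agent.Lib.Helper33
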