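import Cfsg.Agent.Lib.Helper33.LeechTab
import Cfsg.Agent.Lib.Helper33.CoCert
import Cfsg.Agent.Lib.Helper33.Tab

set_option autoImplicit false

namespace Cfsg.Agent.Lib.Helper33

open Cfsg Matrix
open scoped Classical

/-- the lattice vector coded by a packed number (zero if the code is not in the lattice) -/
noncomputable def lv (a : ℕ) : ↥leechLattice :=
  if h : vec a ∈ leechLattice then ⟨vec a, h⟩ else 0

theorem lv_eq {a : ℕ} (h : vec a ∈ leechLattice) : lv a = ⟨vec a, h⟩ := by rw [lv, dif_pos h]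

theorem lv_coe {a : ℕ} (h : vec a ∈ leechLattice) : ((lv a : ↥leechLattice) : GolayPt → ℤ) = vec a := by
  rw [lv_eq h]

/-- the automorphism coded by a packed matrix (one if the code is not valid) -/
noncomputable def coEl (M : ℕ) : ↥Co0 :=
  if h : IsCoMat (matOf M) then h.exists_co0.choose else 1

theorem coEl_spec {M : ℕ} (h : IsCoMat (matOf M)) (v : ↥leechLattice) :
    matOf M *ᵥ (v : GolayPt → ℤ) = (8 : ℤ) • ((coEl M • v : ↥leechLattice) : GolayPt → ℤ) := by
  rw [coEl, dif_pos h]; exact h.exists_co0.choose_spec v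

theorem small_of_vecOK {a : ℕ} (h : vecOK a = true) : Small a := vecOK_spec h

theorem mv_vec' {M a b : ℕ} (hM : matOK M = true) (ha : Small a) (hb : Small b)
    (h : mvOK M a b = true) : matOf M *ᵥ vec a = (8 : ℤ) • vec b := by
  obtain ⟨ha1, ha2⟩ := ha
  obtain ⟨hb1, hb2⟩ := hb
  rw [← mk_dg ha1, ← mk_dg hb1] at h
  have key := mvOK_spec hM ha2 hb2 h
  funext p
  show ∑ q : GolayPt, ((ment M (idx p) (idx q) : ℤ) - 8) * ((dg a (idx q) : ℤ) - 8) = 8 * ((dg b (idx p) : ℤ) - 8)
  rw [sum_idx (fun j => ((ment M (idx p) j : ℤ) - 8) * ((dg a j : ℤ) - 8))]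
  exact key (idx p) (idx_lt p)

theorem coEl_edge {M a b : ℕ} (hM : matOK M = true) (hco : IsCoMat (matOf M)) (ha : Small a) (hb : Small b)
    (h : mvOK M a b = true) (hbL : vec b ∈ leechLattice) :
    vec a ∈ leechLattice ∧ coEl M • lv a = lv b := by
  obtain ⟨hx, e⟩ := hco.edge (coEl_spec hco) hbL (mv_vec' hM ha hb h)
  exact ⟨hx, by rw [lv_eq hx, lv_eq hbL]; exact e⟩

/-- call by value: the argument is evaluated before it is passed to `f` -/
def force {α : Type} (x : ℕ) (f : ℕ → α) : α := Nat.rec (f 0) (fun n _ => f n) (Nat.succ x)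

theorem force_eq {α : Type} (x : ℕ) (f : ℕ → α) : force x f = f x := rfl

/-- the low `b` bits of `A >>> s` -/
def bitsAt (A s b : ℕ) : ℕ := Nat.land (Nat.shiftRight A s) (Nat.sub (Nat.shiftLeft 1 b) 1)

/-- block `c` (of `4096` fields of `w` bits) of an array -/
def blkA (A w c : ℕ) : ℕ := bitsAt A (Nat.mul (Nat.mul 4096 w) c) (Nat.mul 4096 w)

/-- block `d` (of `64` fields) of block `c` -/
def blkB (A w c d : ℕ) : ℕ := bitsAt (blkA A w c) (Nat.mul (Nat.mul 64 w) d) (Nat.mul 64 w)

/-- field `k` of an array with fields of `w` bits; three levels, with evaluated block numbers,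
so that the blocks are computed only once -/
def get3 (A w k : ℕ) : ℕ :=
  force (Nat.shiftRight k 12) (fun c => force (Nat.land (Nat.shiftRight k 6) 63) (fun d =>
    bitsAt (blkB A w c d) (Nat.mul w (Nat.land k 63)) w))

/-- matrix `i` of a packed list of matrices -/
def matAt (G i : ℕ) : ℕ := bitsAt G (Nat.mul 10000 i) 10000

/-- the matrices `2i`, `2i+1` are mutually transposed and code automorphisms -/
noncomputable def gensOK (G np : ℕ) : Bool :=
  allBelow (fun i => coOK (matAt G (Nat.mul 2 i)) (matAt G (Nat.succ (Nat.mul 2 i)))) np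

theorem coOK_matOK {M M' : ℕ} (h : coOK M M' = true) : matOK M = true ∧ matOK M' = true := by
  simp only [coOK, Bool.and_eq_true] at h
  exact ⟨h.1, h.2.1⟩

theorem gensOK_spec {G np : ℕ} (h : gensOK G np = true) :
    ∀ i < 2 * np, matOK (matAt G i) = true ∧ IsCoMat (matOf (matAt G i)) := by
  rw [gensOK, allBelow_iff] at h
  intro i hi
  have h1 := h (i / 2) (by omega)
  rcases Nat.mod_two_eq_zero_or_one i with h2 | h2
  · have e : Nat.mul 2 (i / 2) = i := by show 2 * (i / 2) = i; omega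
    rw [e] at h1
    exact ⟨(coOK_matOK h1).1, (coOK_spec h1).1⟩
  · have e : Nat.succ (Nat.mul 2 (i / 2)) = i := by show 2 * (i / 2) + 1 = i; omega
    rw [e] at h1
    exact ⟨(coOK_matOK h1).2, (coOK_spec h1).2.1⟩

/-- the packed vectors of `B` are small and lie in the lattice -/
noncomputable def baseOK (B r : ℕ) : Bool := allBelow (fun j => vecOK (f384 B j) && inLeech (f384 B j)) r

theorem baseOK_spec {B r : ℕ} (h : baseOK B r = true) :
    ∀ j < r, Small (f384 B j) ∧ vec (f384 B j) ∈ leechLattice := by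
  rw [baseOK, allBelow_iff] at h
  intro j hj
  have := h j hj
  rw [Bool.and_eq_true] at this
  exact ⟨vecOK_spec this.1, inLeech_spec this.2⟩

/-- the matrices of `G` fix the vectors of `B` -/
noncomputable def fixOK (G ng B r : ℕ) : Bool :=
  allBelow (fun i => allBelow (fun j => mvOK (matAt G i) (f384 B j) (f384 B j)) r) ng

theorem fixOK_spec {G np B r : ℕ} (hG : gensOK G np = true) (hB : baseOK B r = true)
    (h : fixOK G (2 * np) B r = true) :
    ∀ i < 2 * np, ∀ j < r, coEl (matAt G i) • lv (f384 B j) = lv (f384 B j) := by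
  rw [fixOK, allBelow_iff] at h
  intro i hi j hj
  have h1 := (allBelow_iff _ _).1 (h i hi) j hj
  obtain ⟨s, l⟩ := baseOK_spec hB j hj
  exact (coEl_edge (gensOK_spec hG i hi).1 (gensOK_spec hG i hi).2 s s h1 l).2

/-- fields of a forest record -/
def rPar (x : ℕ) : ℕ := Nat.land x 0xFFFFF
def rGi (x : ℕ) : ℕ := Nat.land (Nat.shiftRight x 20) 15
def rDep (x : ℕ) : ℕ := Nat.land (Nat.shiftRight x 24) 255
def rLab (x : ℕ) : ℕ := Nat.land (Nat.shiftRight x 32) 15

/-- field `k` of a packed array with 20-bit fields -/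
def fld20 (A k : ℕ) : ℕ := Nat.land (Nat.shiftRight A (Nat.mul 20 k)) 0xFFFFF

/-- certificate check for node `t` of a forest -/
noncomputable def cNode (nd : ℕ → ℕ) (val : ℕ → Bool) (G R rts ng r n t : ℕ) : Bool :=
  !(val t) ||
  force (get3 R 40 t) (fun x =>
    Nat.blt (rLab x) r &&
    (Nat.beq t (fld20 rts (rLab x)) ||
     force (rPar x) (fun p => Nat.blt p n && (val p && force (get3 R 40 p) (fun y =>
       Nat.blt (rDep y) (rDep x) && (Nat.beq (rLab y) (rLab x) && (Nat.blt (rGi x) ng &&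
         mvOK (matAt G (rGi x)) (nd t) (nd p))))))))

theorem cNode_spec {nd : ℕ → ℕ} {val : ℕ → Bool} {G R rts ng r n t : ℕ}
    (h : cNode nd val G R rts ng r n t = true) (hv : val t = true) :
    rLab (get3 R 40 t) < r ∧ (t = fld20 rts (rLab (get3 R 40 t)) ∨
      (rPar (get3 R 40 t) < n ∧ val (rPar (get3 R 40 t)) = true ∧
        rDep (get3 R 40 (rPar (get3 R 40 t))) < rDep (get3 R 40 t) ∧
        rLab (get3 R 40 (rPar (get3 R 40 t))) = rLab (get3 R 40 t) ∧ rGi (get3 R 40 t) < ng ∧
        mvOK (matAt G (rGi (get3 R 40 t))) (nd t) (nd (rPar (get3 R 40 t))) = true)) := by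
  simp only [cNode, force_eq, hv, Bool.not_true, Bool.false_or, Bool.and_eq_true, Bool.or_eq_true] at h
  refine ⟨blt_iff.1 h.1, ?_⟩
  rcases h.2 with h1 | ⟨h1, h2, h3, h4, h5, h6⟩
  · exact Or.inl (Nat.eq_of_beq_eq_true h1)
  · exact Or.inr ⟨blt_iff.1 h1, h2, blt_iff.1 h3, Nat.eq_of_beq_eq_true h4, blt_iff.1 h5, h6⟩

/-- the forest theorem: all the nodes lie in the lattice and are mapped to the root of their tree
by an element of `H` -/
theorem co_forest (nd : ℕ → ℕ) (val : ℕ → Bool) (G R rts np r n : ℕ) (H : Subgroup ↥Co0)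
    (hsmall : ∀ t < n, val t = true → Small (nd t))
    (hG : gensOK G np = true)
    (hH : ∀ i < 2 * np, coEl (matAt G i) ∈ H)
    (hroot : ∀ j < r, vec (nd (fld20 rts j)) ∈ leechLattice)
    (hnode : ∀ t < n, cNode nd val G R rts (2 * np) r n t = true) :
    ∀ t < n, val t = true → rLab (get3 R 40 t) < r ∧ vec (nd t) ∈ leechLattice ∧
      ∃ g ∈ H, g • lv (nd t) = lv (nd (fld20 rts (rLab (get3 R 40 t)))) := by
  have key : ∀ d t, rDep (get3 R 40 t) = d → t < n → val t = true → vec (nd t) ∈ leechLattice ∧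
      ∃ g ∈ H, g • lv (nd t) = lv (nd (fld20 rts (rLab (get3 R 40 t)))) := by
    intro d
    induction d using Nat.strong_induction_on with
    | _ d ih =>
      intro t hd ht hv
      obtain ⟨hl, h1 | ⟨h1, h2, h3, h4, h5, h6⟩⟩ := cNode_spec (hnode t ht) hv
      · refine ⟨?_, 1, H.one_mem, ?_⟩
        · have := hroot _ hl
          rw [← h1] at this
          exact this
        · rw [one_smul, ← h1]
      · obtain ⟨hL, g', hg', e'⟩ := ih _ (hd ▸ h3) _ rfl h1 h2
        obtain ⟨hx, e⟩ := coEl_edge (gensOK_spec hG _ h5).1 (gensOK_spec hG _ h5).2 (hsmall t ht hv)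
          (hsmall _ h1 h2) h6 hL
        exact ⟨hx, g' * _, H.mul_mem hg' (hH _ h5), by rw [mul_smul, e, e', h4]⟩
  intro t ht hv
  exact ⟨(cNode_spec (hnode t ht) hv).1, key _ t rfl ht hv⟩

end Cfsg.Agent.Lib.Helper33
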