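import Cfsg.Agent.Lib.Helper33.Tab

set_option autoImplicit false

namespace Cfsg.Agent.Lib.Helper33

open scoped Pointwise

/-- `Ω` is enumerated injectively by `obj` on the valid indices below `n` -/
structure Enum {X : Type*} (Ω : Set X) (obj : ℕ → X) (n : ℕ) (val : ℕ → Bool) : Prop where
  cover : ∀ y ∈ Ω, ∃ k < n, val k = true ∧ y = obj k
  mem : ∀ k < n, val k = true → obj k ∈ Ω
  inj : ∀ k < n, val k = true → ∀ k' < n, val k' = true → obj k = obj k' → k = k'

namespace Enum

variable {X : Type*} {Ω : Set X} {obj : ℕ → X} {n : ℕ} {val : ℕ → Bool}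

theorem eq_image (E : Enum Ω obj n val) :
    Ω = obj '' (((Finset.range n).filter (fun k => val k = true) : Finset ℕ) : Set ℕ) := by
  ext y
  constructor
  · intro hy
    obtain ⟨k, hk, hv, rfl⟩ := E.cover y hy
    exact ⟨k, by simpa using ⟨hk, hv⟩, rfl⟩
  · rintro ⟨k, hk, rfl⟩
    have : k < n ∧ val k = true := by simpa using hk
    exact E.mem k this.1 this.2

theorem ncard (E : Enum Ω obj n val) : Ω.ncard = cntBelow val n := by
  rw [E.eq_image, Set.InjOn.ncard_image, Set.ncard_coe_finset, cntBelow_eq]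
  intro k hk k' hk' h
  have h1 : k < n ∧ val k = true := by simpa using hk
  have h2 : k' < n ∧ val k' = true := by simpa using hk'
  exact E.inj k h1.1 h1.2 k' h2.1 h2.2 h

theorem finite (E : Enum Ω obj n val) : Ω.Finite := by
  rw [E.eq_image]
  exact (Finset.finite_toSet _).image _

/-- restriction to a subset which is recognised by a test on the indices -/
theorem sub (E : Enum Ω obj n val) (P : X → Prop) (c : ℕ → Bool)
    (hc : ∀ k < n, val k = true → (c k = true ↔ P (obj k))) :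
    Enum {y | y ∈ Ω ∧ P y} obj n (fun k => val k && c k) := by
  refine ⟨?_, ?_, ?_⟩
  · rintro y ⟨hy, hP⟩
    obtain ⟨k, hk, hv, rfl⟩ := E.cover y hy
    exact ⟨k, hk, by rw [Bool.and_eq_true]; exact ⟨hv, (hc k hk hv).2 hP⟩, rfl⟩
  · intro k hk hv
    rw [Bool.and_eq_true] at hv
    exact ⟨E.mem k hk hv.1, (hc k hk hv.1).1 hv.2⟩
  · intro k hk hv k' hk' hv' h
    rw [Bool.and_eq_true] at hv hv'
    exact E.inj k hk hv.1 k' hk' hv'.1 h

/-- passage to a list of the valid indices -/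
theorem reindex (E : Enum Ω obj n val) (mem : ℕ → ℕ) (m : ℕ)
    (hm : ∀ t < m, mem t < n ∧ val (mem t) = true)
    (hmono : ∀ t, t + 1 < m → mem t < mem (t + 1))
    (hcount : cntBelow val n = m) :
    Enum Ω (fun t => obj (mem t)) m (fun _ => true) := by
  have hlt : ∀ d t, t + d + 1 < m → mem t < mem (t + d + 1) := by
    intro d
    induction d with
    | zero => intro t ht; exact hmono t ht
    | succ d ih =>
      intro t ht
      exact lt_trans (ih t (by omega)) (hmono (t + d + 1) (by omega))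
  have hinj : ∀ t < m, ∀ t' < m, mem t = mem t' → t = t' := by
    intro t ht t' ht' h
    by_contra hne
    rcases Nat.lt_or_gt_of_ne hne with h1 | h1
    · have := hlt (t' - t - 1) t (by omega)
      rw [show t + (t' - t - 1) + 1 = t' by omega] at this
      omega
    · have := hlt (t - t' - 1) t' (by omega)
      rw [show t' + (t - t' - 1) + 1 = t by omega] at this
      omega
  have himg : (Finset.range m).image mem = (Finset.range n).filter (fun k => val k = true) := by
    apply Finset.eq_of_subset_of_card_le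
    · intro k hk
      rw [Finset.mem_image] at hk
      obtain ⟨t, ht, rfl⟩ := hk
      rw [Finset.mem_range] at ht
      rw [Finset.mem_filter, Finset.mem_range]
      exact hm t ht
    · rw [← cntBelow_eq, hcount, Finset.card_image_of_injOn, Finset.card_range]
      intro t ht t' ht' h
      exact hinj t (by simpa using ht) t' (by simpa using ht') h
  refine ⟨?_, ?_, ?_⟩
  · intro y hy
    obtain ⟨k, hk, hv, rfl⟩ := E.cover y hy
    have : k ∈ (Finset.range m).image mem := by
      rw [himg, Finset.mem_filter, Finset.mem_range]; exact ⟨hk, hv⟩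
    rw [Finset.mem_image] at this
    obtain ⟨t, ht, rfl⟩ := this
    exact ⟨t, Finset.mem_range.1 ht, rfl, rfl⟩
  · intro t ht _
    exact E.mem _ (hm t ht).1 (hm t ht).2
  · intro t ht _ t' ht' _ h
    exact hinj t ht t' ht' (E.inj _ (hm t ht).1 (hm t ht).2 _ (hm t' ht').1 (hm t' ht').2 h)

theorem ncard_true {m : ℕ} (E : Enum Ω obj m (fun _ => true)) : Ω.ncard = m := by
  rw [E.ncard, cntBelow_eq]
  simp

theorem congr_set {Ω' : Set X} (E : Enum Ω obj n val) (h : Ω = Ω') : Enum Ω' obj n val := h ▸ E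

end Enum

/-- An equivariant family of sets `C a`; the stabiliser of `a₀` is transitive on `C a₀`, which has `m` elements. -/
structure OrbCls (G : Type*) {A X : Type*} [Group G] [MulAction G A] [MulAction G X] (C : A → Set X)
    (a₀ : A) (m : ℕ) : Prop where
  equi : ∀ (g : G) (a : A) (y : X), y ∈ C a → g • y ∈ C (g • a)
  trans : ∀ y ∈ C a₀, ∀ z ∈ C a₀, ∃ h : G, h • a₀ = a₀ ∧ h • y = z
  count : (C a₀).ncard = m

namespace OrbCls

variable {G A X : Type*} [Group G] [MulAction G A] [MulAction G X] {C : A → Set X} {a₀ : A} {m : ℕ}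

theorem trans' (D : OrbCls G C a₀ m) {a : A} (ha : ∃ g : G, g • a = a₀) {y z : X} (hy : y ∈ C a) (hz : z ∈ C a) :
    ∃ g : G, g • a = a ∧ g • y = z := by
  obtain ⟨u, hu⟩ := ha
  obtain ⟨b, hb, hb'⟩ := D.trans _ (hu ▸ D.equi u a y hy) _ (hu ▸ D.equi u a z hz)
  refine ⟨u⁻¹ * b * u, ?_, ?_⟩
  · rw [mul_smul, mul_smul, hu, hb, ← hu, inv_smul_smul]
  · rw [mul_smul, mul_smul, hb', inv_smul_smul]

theorem count' (D : OrbCls G C a₀ m) {a : A} (ha : ∃ g : G, g • a = a₀) : (C a).ncard = m := by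
  obtain ⟨u, hu⟩ := ha
  rw [← D.count]
  have : C a₀ = (fun y => u • y) '' C a := by
    ext y
    constructor
    · intro hy
      refine ⟨u⁻¹ • y, ?_, smul_inv_smul u y⟩
      have := D.equi u⁻¹ a₀ y hy
      rwa [← hu, inv_smul_smul] at this
    · rintro ⟨z, hz, rfl⟩
      exact hu ▸ D.equi u a z hz
  rw [this, Set.ncard_image_of_injective _ (MulAction.injective u)]

/-- extension of the base by an element of the class -/
theorem ext (D : OrbCls G C a₀ m) {a : A} (ha : ∃ g : G, g • a = a₀) {y y₀ : X} (hy : y ∈ C a) (hy₀ : y₀ ∈ C a₀) :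
    ∃ g : G, g • (a, y) = (a₀, y₀) := by
  obtain ⟨u, hu⟩ := ha
  obtain ⟨b, hb, hb'⟩ := D.trans _ (hu ▸ D.equi u a y hy) _ hy₀
  exact ⟨b * u, by rw [Prod.smul_mk, mul_smul, mul_smul, hu, hb, hb']⟩

theorem orbit_eq (D : OrbCls G C a₀ m) {a : A} (ha : ∃ g : G, g • a = a₀) {y : X} (hy : y ∈ C a) :
    MulAction.orbit ↥(MulAction.stabilizer G a) y = C a := by
  ext z
  constructor
  · rintro ⟨⟨g, hg⟩, rfl⟩
    have hg' : g • a = a := hg
    have := D.equi g a y hy
    rw [hg'] at this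
    exact this
  · intro hz
    obtain ⟨g, hg, hg'⟩ := D.trans' ha hy hz
    exact ⟨⟨g, hg⟩, hg'⟩

theorem nonempty (D : OrbCls G C a₀ m) (hm : m ≠ 0) {a : A} (ha : ∃ g : G, g • a = a₀) : (C a).Nonempty := by
  by_contra hc
  rw [Set.not_nonempty_iff_eq_empty] at hc
  have := D.count' ha
  rw [hc, Set.ncard_empty] at this
  exact hm this.symm

/-- a class from an enumeration and a tree -/
theorem ofTree (C : A → Set X) (a₀ : A) (obj : ℕ → X) (m : ℕ) (root : ℕ)
    (equi : ∀ (g : G) (a : A) (y : X), y ∈ C a → g • y ∈ C (g • a))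
    (E : Enum (C a₀) obj m (fun _ => true))
    (tree : ∀ t < m, ∃ h : G, h • a₀ = a₀ ∧ h • obj t = obj root) : OrbCls G C a₀ m := by
  refine ⟨equi, ?_, E.ncard_true⟩
  intro y hy z hz
  obtain ⟨k, hk, _, rfl⟩ := E.cover y hy
  obtain ⟨k', hk', _, rfl⟩ := E.cover z hz
  obtain ⟨h, h0, h1⟩ := tree k hk
  obtain ⟨h', h0', h1'⟩ := tree k' hk'
  refine ⟨h'⁻¹ * h, ?_, ?_⟩
  · rw [mul_smul, h0]
    conv_lhs => rw [← h0']
    exact inv_smul_smul h' a₀
  · rw [mul_smul, h1, ← h1', inv_smul_smul]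

end OrbCls

/-- all the classes at once, from a forest on an enumeration with validity test -/
theorem forest_classes {G A X ι : Type*} [Group G] [MulAction G A] [MulAction G X]
    (Ω : Set X) (rel : A → X → ι) (a₀ : A)
    (obj : ℕ → X) (n : ℕ) (val : ℕ → Bool) (lab : ℕ → ℕ) (rt : ℕ → ℕ) (c : ℕ → ι) (r : ℕ)
    (smul_mem : ∀ (g : G), ∀ y ∈ Ω, g • y ∈ Ω)
    (rel_smul : ∀ (g : G) (a : A) (y : X), rel (g • a) (g • y) = rel a y)
    (E : Enum Ω obj n val)
    (forest : ∀ k < n, val k = true → lab k < r ∧ ∃ h : G, h • a₀ = a₀ ∧ h • obj k = obj (rt (lab k)))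
    (hc : ∀ j < r, rel a₀ (obj (rt j)) = c j)
    (hroots : ∀ j < r, ∀ j' < r, c j = c j' → j = j') :
    (∀ j < r, OrbCls G (fun a => {y | y ∈ Ω ∧ rel a y = c j}) a₀
      (cntBelow (fun k => val k && Nat.beq (lab k) j) n)) ∧
    (∀ y ∈ Ω, ∃ j < r, rel a₀ y = c j) := by
  have hrel : ∀ k < n, val k = true → rel a₀ (obj k) = c (lab k) := by
    intro k hk hv
    obtain ⟨hl, h, h0, h1⟩ := forest k hk hv
    rw [← hc _ hl, ← h1]
    conv_rhs => rw [← h0]
    exact (rel_smul h a₀ (obj k)).symm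
  refine ⟨?_, ?_⟩
  · intro j hj
    refine ⟨?_, ?_, ?_⟩
    · rintro g a y ⟨hy, hr⟩
      exact ⟨smul_mem g y hy, by rw [rel_smul, hr]⟩
    · rintro y ⟨hy, hr⟩ z ⟨hz, hr'⟩
      obtain ⟨k, hk, hv, rfl⟩ := E.cover y hy
      obtain ⟨k', hk', hv', rfl⟩ := E.cover z hz
      rw [hrel k hk hv] at hr
      rw [hrel k' hk' hv'] at hr'
      obtain ⟨hl, h, h0, h1⟩ := forest k hk hv
      obtain ⟨hl', h', h0', h1'⟩ := forest k' hk' hv'
      have e1 := hroots _ hl _ hj hr
      have e2 := hroots _ hl' _ hj hr'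
      refine ⟨h'⁻¹ * h, ?_, ?_⟩
      · rw [mul_smul, h0]
        conv_lhs => rw [← h0']
        exact inv_smul_smul h' a₀
      · rw [mul_smul, h1, e1, ← e2, ← h1', inv_smul_smul]
    · refine (E.sub (fun y => rel a₀ y = c j) (fun k => Nat.beq (lab k) j) ?_).ncard
      intro k hk hv
      rw [hrel k hk hv]
      constructor
      · intro h; rw [Nat.eq_of_beq_eq_true h]
      · intro h
        rw [hroots _ (forest k hk hv).1 _ hj h]
        exact Nat.beq_refl _
  · intro y hy
    obtain ⟨k, hk, hv, rfl⟩ := E.cover y hy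
    exact ⟨_, (forest k hk hv).1, hrel k hk hv⟩

end Cfsg.Agent.Lib.Helper33
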