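import Cfsg.Agent.Lib.Helper33.Dot
import Cfsg.Agent.Lib.Helper33.Enum

set_option autoImplicit false

namespace Cfsg.Agent.Lib.Helper33

open Cfsg Matrix

/-- the minimal vectors -/
def L2 : Set ↥leechLattice := {x | sqNorm (x : GolayPt → ℤ) = 32}

theorem L2_smul (g : ↥Co0) (y : ↥leechLattice) (hy : y ∈ L2) : g • y ∈ L2 := by
  show sqNorm ((g • y : ↥leechLattice) : GolayPt → ℤ) = 32
  rw [co0_sqNorm]; exact hy

/-- inner product of lattice vectors -/
def ldot (a x : ↥leechLattice) : ℤ := dotInt (a : GolayPt → ℤ) (x : GolayPt → ℤ)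

theorem ldot_smul (g : ↥Co0) (a x : ↥leechLattice) : ldot (g • a) (g • x) = ldot a x := co0_dot g a x

theorem ldot_lv {a b : ℕ} (ha : Small a) (hb : Small b) (ha' : vec a ∈ leechLattice) (hb' : vec b ∈ leechLattice) :
    ldot (lv a) (lv b) = (dotC a b : ℤ) - 10752 := by
  rw [ldot, lv_coe ha', lv_coe hb', dotC_spec ha hb]

theorem lv_inj {a b : ℕ} (ha : Small a) (hb : Small b) (ha' : vec a ∈ leechLattice) (hb' : vec b ∈ leechLattice)
    (h : lv a = lv b) : a = b := by
  have h1 := congrArg (fun x : ↥leechLattice => (x : GolayPt → ℤ)) h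
  simp only [lv_coe ha', lv_coe hb'] at h1
  exact vec_inj ha.1 hb.1 h1

/-- splitting a long check into chunks -/
theorem chunks {f : ℕ → Bool} {c s : ℕ}
    (h : ∀ i < c, allBelow (fun t => f (Nat.add (Nat.mul s i) t)) s = true) :
    ∀ t < s * c, f t = true := by
  intro t ht
  have hs : 0 < s := by
    rcases Nat.eq_zero_or_pos s with h0 | h0
    · subst h0; simp at ht
    · exact h0
  have h1 : t / s < c := Nat.div_lt_of_lt_mul ht
  have h2 := (allBelow_iff _ _).1 (h _ h1) (t % s) (Nat.mod_lt _ hs)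
  have e : Nat.add (Nat.mul s (t / s)) (t % s) = t := Nat.div_add_mod t s
  rw [e] at h2
  exact h2

/-- the roots of a forest on all the minimal vectors -/
noncomputable def cRootsOK (rts r : ℕ) : Bool :=
  allBelow (fun j => Nat.blt (fld20 rts j) 197760 && (valV (fld20 rts j) && inLeech (decV (fld20 rts j)))) r

/-- the matrices `2 j` of `Fz` map the roots to the base vector -/
noncomputable def cFuseOK (Fz rts b r : ℕ) : Bool :=
  allBelow (fun j => mvOK (matAt Fz (Nat.mul 2 j)) (decV (fld20 rts j)) b) r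

/-- the inner products of the roots with the base vector -/
noncomputable def cRelOK (rts b cc r : ℕ) : Bool :=
  allBelow (fun j => Nat.beq (dotC b (decV (fld20 rts j))) (dg cc j) &&
    allBelow (fun j' => Nat.beq j j' || !(Nat.beq (dg cc j) (dg cc j'))) r) r

theorem full_forest (G R rts np r B Fz cc : ℕ)
    (hG : gensOK G np = true) (hB : baseOK B 1 = true) (hfix : fixOK G (2 * np) B 1 = true)
    (hroot : cRootsOK rts r = true)
    (hnode : ∀ t < 197760, cNode decV valV G R rts (2 * np) r 197760 t = true)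
    (hF : gensOK Fz r = true) (hfuse : cFuseOK Fz rts (f384 B 0) r = true)
    (hB32 : Nat.beq (dotC (f384 B 0) (f384 B 0)) 10784 = true)
    (hrel : cRelOK rts (f384 B 0) cc r = true) :
    (∀ k < 197760, valV k = true → vec (decV k) ∈ leechLattice) ∧
    Enum L2 (fun k => lv (decV k)) 197760 valV ∧
    lv (f384 B 0) ∈ L2 ∧
    (∀ x ∈ L2, ∃ g : ↥Co0, g • x = lv (f384 B 0)) ∧
    (∀ j < r, OrbCls ↥Co0 (fun a => {y | y ∈ L2 ∧ ldot a y = (dg cc j : ℤ) - 10752}) (lv (f384 B 0))
      (cntBelow (fun k => valV k && Nat.beq (rLab (get3 R 40 k)) j) 197760)) ∧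
    (∀ y ∈ L2, ∃ j < r, ldot (lv (f384 B 0)) y = (dg cc j : ℤ) - 10752) := by
  obtain ⟨sB, lB⟩ := baseOK_spec hB 0 (by norm_num)
  rw [cRootsOK, allBelow_iff] at hroot
  have hr1 : ∀ j < r, fld20 rts j < 197760 ∧ valV (fld20 rts j) = true ∧ vec (decV (fld20 rts j)) ∈ leechLattice := by
    intro j hj
    have := hroot j hj
    simp only [Bool.and_eq_true] at this
    exact ⟨blt_iff.1 this.1, this.2.1, inLeech_spec this.2.2⟩
  have hFo := co_forest decV valV G R rts np r 197760 (MulAction.stabilizer ↥Co0 (lv (f384 B 0)))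
    (fun t ht hv => decV_small ht hv) hG
    (fun i hi => fixOK_spec hG hB hfix i hi 0 (by norm_num)) (fun j hj => (hr1 j hj).2.2) hnode
  have hmemL : ∀ k < 197760, valV k = true → vec (decV k) ∈ leechLattice := fun k hk hv => (hFo k hk hv).2.1
  have hB2 : lv (f384 B 0) ∈ L2 := by
    show sqNorm ((lv (f384 B 0) : ↥leechLattice) : GolayPt → ℤ) = 32
    rw [lv_coe lB, sqNorm_eq_dotInt, dotC_spec sB sB, Nat.eq_of_beq_eq_true hB32]
    norm_num
  rw [cFuseOK, allBelow_iff] at hfuse
  have hfu : ∀ j < r, ∃ g : ↥Co0, g • lv (decV (fld20 rts j)) = lv (f384 B 0) := by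
    intro j hj
    have h2 : Nat.mul 2 j < 2 * r := by show 2 * j < 2 * r; omega
    exact ⟨_, (coEl_edge (gensOK_spec hF _ h2).1 (gensOK_spec hF _ h2).2
      (decV_small (hr1 j hj).1 (hr1 j hj).2.1) sB (hfuse j hj) lB).2⟩
  have hto : ∀ k < 197760, valV k = true → ∃ g : ↥Co0, g • lv (decV k) = lv (f384 B 0) := by
    intro k hk hv
    obtain ⟨hl, _, g, _, e⟩ := hFo k hk hv
    obtain ⟨g', e'⟩ := hfu _ hl
    exact ⟨g' * g, by rw [mul_smul, e, e']⟩
  have hE : Enum L2 (fun k => lv (decV k)) 197760 valV := by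
    refine ⟨?_, ?_, ?_⟩
    · intro y hy
      obtain ⟨k, hk, hv, e⟩ := cover_min y.2 hy
      refine ⟨k, hk, hv, ?_⟩
      apply Subtype.ext
      rw [lv_coe (hmemL k hk hv)]
      exact e
    · intro k hk hv
      obtain ⟨g, e⟩ := hto k hk hv
      have := L2_smul g⁻¹ _ hB2
      rwa [← e, inv_smul_smul] at this
    · intro k hk hv k' hk' hv' h
      exact decV_inj hk hv hk' hv' (lv_inj (decV_small hk hv) (decV_small hk' hv') (hmemL k hk hv)
        (hmemL k' hk' hv') h)
  rw [cRelOK, allBelow_iff] at hrel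
  have key := forest_classes (G := ↥Co0) L2 ldot (lv (f384 B 0)) (fun k => lv (decV k)) 197760 valV
    (fun k => rLab (get3 R 40 k)) (fun j => fld20 rts j) (fun j => (dg cc j : ℤ) - 10752) r
    L2_smul ldot_smul hE
    (fun k hk hv => ⟨(hFo k hk hv).1, by
      obtain ⟨_, _, g, hg, e⟩ := hFo k hk hv
      exact ⟨g, hg, e⟩⟩)
    (fun j hj => by
      have := hrel j hj
      rw [Bool.and_eq_true] at this
      show ldot (lv (f384 B 0)) (lv (decV (fld20 rts j))) = _
      rw [ldot_lv sB (decV_small (hr1 j hj).1 (hr1 j hj).2.1) lB (hr1 j hj).2.2,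
        Nat.eq_of_beq_eq_true this.1])
    (fun j hj j' hj' h => by
      have := hrel j hj
      rw [Bool.and_eq_true, allBelow_iff] at this
      have h2 := this.2 j' hj'
      rw [Bool.or_eq_true] at h2
      rcases h2 with h2 | h2
      · exact Nat.eq_of_beq_eq_true h2
      · exfalso
        have e : dg cc j = dg cc j' := by
          have h' : (dg cc j : ℤ) - 10752 = (dg cc j' : ℤ) - 10752 := h
          omega
        rw [e, Nat.beq_refl] at h2
        exact absurd h2 (by decide))
  refine ⟨hmemL, hE, hB2, ?_, key.1, key.2⟩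
  intro x hx
  obtain ⟨k, hk, hv, rfl⟩ := hE.cover x hx
  exact hto k hk hv

end Cfsg.Agent.Lib.Helper33
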