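import Cfsg.Agent.Lib.Helper33.CoOrd
import Cfsg.Agent.Lib.Helper9.CoCenter
import Cfsg.Agent.Lib.Helper9.MathieuSimple
import Cfsg.Prelude.Def_Spor_Conway

set_option autoImplicit false

namespace Cfsg.Agent.Lib.Helper33

open Cfsg MulAction Cfsg.Agent.Lib.Helper9

/-- the coordinate permutations -/
noncomputable def permEl (σ : Equiv.Perm GolayPt) (hσ : σ ∈ M24) : ↥Co0 := monoEl σ hσ ∅ empty_mem_supports'

theorem permEl_apply (σ : Equiv.Perm GolayPt) (hσ : σ ∈ M24) (v : ↥leechLattice) (i : GolayPt) :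
    ((permEl σ hσ • v : ↥leechLattice) : GolayPt → ℤ) i = (v : GolayPt → ℤ) (σ.symm i) := by
  show signedPerm σ ∅ v.1 i = _
  unfold signedPerm
  rw [if_neg (Finset.notMem_empty i)]

noncomputable def permHom : ↥(fixL M24 [0, 23]) →* ↥Co0 where
  toFun σ := permEl σ.1 σ.2.1
  map_one' := by
    apply Helper9.co0_ext
    intro v
    apply Subtype.ext
    funext i
    rw [permEl_apply, one_smul]
    rfl
  map_mul' σ τ := by
    apply Helper9.co0_ext
    intro v
    apply Subtype.ext
    funext i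
    rw [mul_smul, permEl_apply, permEl_apply, permEl_apply]
    rfl

theorem permHom_injective : Function.Injective permHom := by
  rw [injective_iff_map_eq_one]
  intro σ h
  apply Subtype.ext
  apply Equiv.ext
  intro i
  have h1 : permEl σ.1 σ.2.1 • uv i = uv i := by
    have : permHom σ • uv i = uv i := by rw [h, one_smul]
    exact this
  have h2 := congrFun (congrArg Subtype.val h1) (σ.1 i)
  rw [permEl_apply, Equiv.symm_apply_apply, uv_val, Pi.single_eq_same] at h2
  by_contra hne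
  have hne' : σ.1 i ≠ i := hne
  rw [Pi.single_eq_of_ne hne'] at h2
  omega

theorem fix_none {σ : Equiv.Perm GolayPt} (h : σ ∈ fixL M24 [0, 23]) (p : GolayPt) :
    σ.symm p = none ↔ p = none := by
  have h1 : σ none = none := h.2 23 (by simp)
  rw [Equiv.symm_apply_eq, h1]

theorem fix_zero {σ : Equiv.Perm GolayPt} (h : σ ∈ fixL M24 [0, 23]) (p : GolayPt) :
    σ.symm p = some 0 ↔ p = some 0 := by
  have h1 : σ (some 0) = some 0 := h.2 0 (by simp)
  rw [Equiv.symm_apply_eq, h1]

theorem permHom_V (σ : ↥(fixL M24 [0, 23])) : permHom σ • Spor.leechV = Spor.leechV := by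
  apply Subtype.ext
  funext i
  show ((permEl σ.1 σ.2.1 • Spor.leechV : ↥leechLattice) : GolayPt → ℤ) i = _
  rw [permEl_apply]
  show Spor.vecV _ = Spor.vecV _
  unfold Spor.vecV
  simp only [fix_none σ.2]

theorem permHom_U (σ : ↥(fixL M24 [0, 23])) : permHom σ • Spor.leechU = Spor.leechU := by
  apply Subtype.ext
  funext i
  show ((permEl σ.1 σ.2.1 • Spor.leechU : ↥leechLattice) : GolayPt → ℤ) i = _
  rw [permEl_apply]
  show Spor.vecU _ = Spor.vecU _
  unfold Spor.vecU
  simp only [fix_none σ.2, fix_zero σ.2]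

theorem permHom_U' (σ : ↥(fixL M24 [0, 23])) : permHom σ • Spor.leechU' = Spor.leechU' := by
  apply Subtype.ext
  funext i
  show ((permEl σ.1 σ.2.1 • Spor.leechU' : ↥leechLattice) : GolayPt → ℤ) i = _
  rw [permEl_apply]
  show Spor.vecU' _ = Spor.vecU' _
  unfold Spor.vecU'
  simp only [fix_none σ.2, fix_zero σ.2]

theorem dVV : ldot Spor.leechV Spor.leechV = 48 := by
  show dotInt Spor.vecV Spor.vecV = 48
  decide +kernel
theorem dUU : ldot Spor.leechU Spor.leechU = 32 := by
  show dotInt Spor.vecU Spor.vecU = 32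
  decide +kernel
theorem dU'U' : ldot Spor.leechU' Spor.leechU' = 32 := by
  show dotInt Spor.vecU' Spor.vecU' = 32
  decide +kernel
theorem dVU : ldot Spor.leechV Spor.leechU = -24 := by
  show dotInt Spor.vecV Spor.vecU = -24
  decide +kernel
theorem dVU' : ldot Spor.leechV Spor.leechU' = -16 := by
  show dotInt Spor.vecV Spor.vecU' = -16
  decide +kernel
theorem dUU' : ldot Spor.leechU Spor.leechU' = 0 := by
  show dotInt Spor.vecU Spor.vecU' = 0
  decide +kernel

/-- the standard triples -/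
noncomputable def tHS : (↥leechLattice × ↥leechLattice) × ↥leechLattice :=
  ((Spor.leechV, -Spor.leechV - Spor.leechU'), -Spor.leechU)
noncomputable def tMc : (↥leechLattice × ↥leechLattice) × ↥leechLattice :=
  ((Spor.leechU, -Spor.leechU - Spor.leechV), Spor.leechU')

theorem mem_stab_tHS (g : ↥Co0) : g ∈ stabilizer ↥Co0 tHS ↔
    g • Spor.leechV = Spor.leechV ∧ g • Spor.leechU = Spor.leechU ∧ g • Spor.leechU' = Spor.leechU' := by
  simp only [tHS, mem_stabilizer_iff, Prod.smul_mk, Prod.mk.injEq, co0_smul_sub, co0_smul_neg]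
  constructor
  · rintro ⟨⟨h1, h2⟩, h3⟩
    rw [h1] at h2
    exact ⟨h1, neg_injective h3, sub_right_injective h2⟩
  · rintro ⟨h1, h2, h3⟩
    rw [h1, h2, h3]
    exact ⟨⟨rfl, rfl⟩, rfl⟩

theorem mem_stab_tMc (g : ↥Co0) : g ∈ stabilizer ↥Co0 tMc ↔
    g • Spor.leechV = Spor.leechV ∧ g • Spor.leechU = Spor.leechU ∧ g • Spor.leechU' = Spor.leechU' := by
  simp only [tMc, mem_stabilizer_iff, Prod.smul_mk, Prod.mk.injEq, co0_smul_sub, co0_smul_neg]
  constructor
  · rintro ⟨⟨h1, h2⟩, h3⟩
    rw [h1] at h2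
    exact ⟨sub_right_injective h2, h1, h3⟩
  · rintro ⟨h1, h2, h3⟩
    rw [h1, h2, h3]
    exact ⟨⟨rfl, rfl⟩, rfl⟩

theorem stab_tMc : stabilizer ↥Co0 tMc = stabilizer ↥Co0 tHS := by
  ext g
  rw [mem_stab_tHS, mem_stab_tMc]

theorem tHS_base : ∃ g : ↥Co0, g • tHS = ((lv bU0, lv bWH), lv bXH) := by
  have c1 := ldot_comm Spor.leechU' Spor.leechV
  have c2 := ldot_comm Spor.leechU Spor.leechV
  have c3 := ldot_comm Spor.leechU' Spor.leechU
  apply to_hsx
  · exact dVV
  · simp only [ldot_sub_left, ldot_sub_right, ldot_neg_left, ldot_neg_right, dVV, dU'U', dVU', c1]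
    norm_num
  · simp only [ldot_sub_right, ldot_neg_right, dVV, dVU']
    norm_num
  · refine ⟨?_, ?_, ?_⟩
    · rw [mem_L2_iff]
      simp only [ldot_neg_left, ldot_neg_right, dUU]
      norm_num
    · show ldot _ _ = 24
      simp only [ldot_neg_right, dVU]
      norm_num
    · show ldot _ _ = -24
      simp only [ldot_sub_left, ldot_neg_left, ldot_neg_right, dVU, c3, dUU']
      norm_num

theorem tMc_base : ∃ g : ↥Co0, g • tMc = ((lv bA0, lv bW0), lv bX2025) := by
  have c1 := ldot_comm Spor.leechU' Spor.leechV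
  have c2 := ldot_comm Spor.leechU Spor.leechV
  have c3 := ldot_comm Spor.leechU' Spor.leechU
  apply to_vwx
  · rw [mem_L2_iff]; exact dUU
  · refine ⟨?_, ?_⟩
    · rw [mem_L2_iff]
      simp only [ldot_sub_left, ldot_sub_right, ldot_neg_left, ldot_neg_right, dVV, dUU, dVU, c2]
      norm_num
    · show ldot _ _ = -8
      simp only [ldot_sub_right, ldot_neg_right, dUU, c2, dVU]
      norm_num
  · refine ⟨?_, ?_, ?_⟩
    · rw [mem_L2_iff]; exact dU'U'
    · exact dUU'
    · show ldot _ _ = 16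
      simp only [ldot_sub_left, ldot_neg_left, dUU', dVU']
      norm_num

section
variable (hCo0 : Nat.card ↥Co0 = 8315553613086720000)
include hCo0

theorem simple_tHS : IsSimpleGroup ↥(stabilizer ↥Co0 tHS) := by
  have hfin := finite_co0 hCo0
  let φ : ↥(fixL M24 [0, 23]) →* ↥(stabilizer ↥Co0 tHS) :=
    permHom.codRestrict (stabilizer ↥Co0 tHS) (fun σ =>
      (mem_stab_tHS _).2 ⟨permHom_V σ, permHom_U σ, permHom_U' σ⟩)
  have hinj : Function.Injective φ := by
    intro a b h
    exact permHom_injective (congrArg Subtype.val h)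
  have hcard : Nat.card ↥(fixL M24 [0, 23]) = Nat.card ↥(stabilizer ↥Co0 tHS) := by
    rw [card_fix2, card_stab_conj tHS_base, card_m22a hCo0]
  have hbij : Function.Bijective φ := (Nat.bijective_iff_injective_and_card φ).2 ⟨hinj, hcard⟩
  have := simple_fix2
  exact (MulEquiv.ofBijective φ hbij).symm.isSimpleGroup

theorem simple_m22a : IsSimpleGroup ↥(stabilizer ↥Co0 ((lv bU0, lv bWH), lv bXH)) := by
  obtain ⟨g, hg⟩ := tHS_base
  exact simple_stab_conj ⟨g⁻¹, by rw [← hg, inv_smul_smul]⟩ (simple_tHS hCo0)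

theorem simple_m22b : IsSimpleGroup ↥(stabilizer ↥Co0 ((lv bA0, lv bW0), lv bX2025)) := by
  obtain ⟨g, hg⟩ := tMc_base
  refine simple_stab_conj ⟨g⁻¹, by rw [← hg, inv_smul_smul]⟩ ?_
  rw [stab_tMc]
  exact simple_tHS hCo0

end

end Cfsg.Agent.Lib.Helper33
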