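import Cfsg.Agent.Lib.Helper33.SimpCo

set_option autoImplicit false

namespace Cfsg.Agent.Lib.Helper33

open Cfsg MulAction

theorem orbit_L2 {x : ↥leechLattice} (hx : x ∈ L2) : orbit ↥Co0 x = L2 := by
  ext y
  constructor
  · rintro ⟨g, rfl⟩
    exact L2_smul g x hx
  · intro hy
    obtain ⟨g, hg⟩ := to_la0 hx
    obtain ⟨h, hh⟩ := to_la0 hy
    exact ⟨h⁻¹ * g, by
      show (h⁻¹ * g) • x = y
      rw [mul_smul, hg, ← hh, inv_smul_smul]⟩

theorem bA0_L2 : lv bA0 ∈ L2 := bA0_mem.1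

theorem stab_eq_mcl : stabilizer ↥Co0 (lv bU0, lv bA0) = stabilizer ↥Co0 (lv bA0, lv bW0) := by
  ext g
  simp only [mem_stabilizer_iff, Prod.smul_mk, Prod.mk.injEq]
  constructor
  · rintro ⟨h1, h2⟩
    refine ⟨h2, ?_⟩
    have : lv bW0 = lv bU0 - lv bA0 := by rw [← bU0_eq]; abel
    rw [this, co0_smul_sub, h1, h2]
  · rintro ⟨h1, h2⟩
    exact ⟨by rw [← bU0_eq, co0_smul_add, h1, h2], h1⟩

theorem stab_eq_hs : stabilizer ↥Co0 (lv bU0, lv bY0) = stabilizer ↥Co0 (lv bU0, lv bWH) := by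
  ext g
  simp only [mem_stabilizer_iff, Prod.smul_mk, Prod.mk.injEq]
  constructor
  · rintro ⟨h1, h2⟩
    exact ⟨h1, by rw [← bWH_eq, co0_smul_sub, co0_smul_neg, h1, h2]⟩
  · rintro ⟨h1, h2⟩
    refine ⟨h1, ?_⟩
    have : lv bY0 = -lv bWH - lv bU0 := by rw [← bWH_eq]; abel
    rw [this, co0_smul_sub, co0_smul_neg, h1, h2]

section
variable (hCo0 : Nat.card ↥Co0 = 8315553613086720000)
include hCo0

theorem finite_co0 : Finite ↥Co0 := Nat.finite_of_card_ne_zero (by rw [hCo0]; norm_num)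

theorem card_co2 : Nat.card ↥(stabilizer ↥Co0 (lv bA0)) = 42305421312000 := by
  have h := card_eq_orbit_mul' (G := ↥Co0) (lv bA0)
  rw [orbit_L2 bA0_L2, L2_ncard, hCo0] at h
  omega

theorem card_mcl : Nat.card ↥(stabilizer ↥Co0 (lv bA0, lv bW0)) = 898128000 := by
  have h := clsm8'.card_stab ⟨1, one_smul _ _⟩ bW0_mem
  rw [card_co2 hCo0] at h
  omega

theorem card_co3 : Nat.card ↥(stabilizer ↥Co0 (lv bU0)) = 495766656000 := by
  have h := c552_cls.card_stab ⟨1, one_smul _ _⟩ bA0_mem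
  rw [stab_eq_mcl, card_mcl hCo0] at h
  omega

theorem card_hs : Nat.card ↥(stabilizer ↥Co0 (lv bU0, lv bWH)) = 44352000 := by
  have h := c11178_cls.card_stab ⟨1, one_smul _ _⟩ bY0_mem
  rw [stab_eq_hs, card_co3 hCo0] at h
  omega

theorem card_m22a : Nat.card ↥(stabilizer ↥Co0 ((lv bU0, lv bWH), lv bXH)) = 443520 := by
  have h := c100_cls.card_stab ⟨1, one_smul _ _⟩ bXH_mem
  rw [card_hs hCo0] at h
  omega

theorem card_m22b : Nat.card ↥(stabilizer ↥Co0 ((lv bA0, lv bW0), lv bX2025)) = 443520 := by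
  have h := c2025_cls.card_stab ⟨1, one_smul _ _⟩ bX2025_mem
  rw [card_mcl hCo0] at h
  omega

end

end Cfsg.Agent.Lib.Helper33
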