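import Cfsg.Agent.Lib.Helper33.CoSets

set_option autoImplicit false

namespace Cfsg.Agent.Lib.Helper33

open Cfsg

theorem fiberC2 (τ₀ τ : ℤ) (u x : ↥leechLattice) :
    {y | y ∈ C1 τ₀ u ∧ ldot x y = τ} = C2 τ₀ τ (u, x) := by
  ext y
  exact ⟨fun h => ⟨h.1.1, h.1.2, h.2⟩, fun h => ⟨⟨h.1, h.2.1⟩, h.2.2⟩⟩

theorem fiberC3 (τ₀ τ₁ τ : ℤ) (a : ↥leechLattice × ↥leechLattice) (x : ↥leechLattice) :
    {y | y ∈ C2 τ₀ τ₁ a ∧ ldot x y = τ} = C3 τ₀ τ₁ τ (a, x) := by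
  ext y
  exact ⟨fun h => ⟨h.1.1, h.1.2.1, h.1.2.2, h.2⟩, fun h => ⟨⟨h.1, h.2.1, h.2.2.1⟩, h.2.2.2⟩⟩

theorem C1_sub (τ : ℤ) (u : ↥leechLattice) : C1 τ u ⊆ L2 := fun _ h => h.1
theorem C2_sub (τ₀ τ₁ : ℤ) (a : ↥leechLattice × ↥leechLattice) : C2 τ₀ τ₁ a ⊆ L2 := fun _ h => h.1

theorem C3_sub_C2 {τ₀ τ₁ τ : ℤ} {a : ↥leechLattice × ↥leechLattice} {x y : ↥leechLattice}
    (h : y ∈ C3 τ₀ τ₁ τ (a, x)) : y ∈ C2 τ₀ τ₁ a := ⟨h.1, h.2.1, h.2.2.1⟩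

theorem C2_sub_C1 {τ₀ τ : ℤ} {u x y : ↥leechLattice} (h : y ∈ C2 τ₀ τ (u, x)) : y ∈ C1 τ₀ u := ⟨h.1, h.2.1⟩

/-- a rank 3 situation -/
theorem rank3_cover {τ₀ τ₁ α β : ℤ} {a : ↥leechLattice × ↥leechLattice} {x : ↥leechLattice} {n nα nβ : ℕ}
    (hx : x ∈ C2 τ₀ τ₁ a) (hn : (C2 τ₀ τ₁ a).ncard = n) (hα : (C3 τ₀ τ₁ α (a, x)).ncard = nα)
    (hβ : (C3 τ₀ τ₁ β (a, x)).ncard = nβ) (hsum : 1 + (nα + nβ) = n) (h1 : (32 : ℤ) ≠ α) (h2 : (32 : ℤ) ≠ β)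
    (h3 : α ≠ β) :
    ∀ y ∈ C2 τ₀ τ₁ a, y = x ∨ ldot x y = α ∨ ldot x y = β := by
  have hfin : (C2 τ₀ τ₁ a).Finite := Set.finite_of_ncard_ne_zero (by rw [hn]; omega)
  have key := fiber_cover (C2 τ₀ τ₁ a) hfin (fun y => ldot x y) {32, α, β} (by
    rw [Finset.sum_insert (by simp [h1, h2]), Finset.sum_insert (by simp [h3]), Finset.sum_singleton,
      ncard_fiber32 hx (C2_sub _ _ _), fiberC3, fiberC3, hα, hβ, hn, hsum])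
  intro y hy
  have := key y hy
  simp only [Finset.mem_insert, Finset.mem_singleton] at this
  rcases this with h | h | h
  · exact Or.inl (eq_of_ldot_32 hx.1 hy.1 h)
  · exact Or.inr (Or.inl h)
  · exact Or.inr (Or.inr h)

theorem orbit_stab2 {u x y : ↥leechLattice} :
    MulAction.orbit ↥(MulAction.stabilizer ↥Co0 u ⊓ MulAction.stabilizer ↥Co0 x) y =
      MulAction.orbit ↥(MulAction.stabilizer ↥Co0 (u, x)) y := by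
  rw [stab_prod]

theorem orbit_stab3 {v w x y : ↥leechLattice} :
    MulAction.orbit ↥(MulAction.stabilizer ↥Co0 v ⊓ MulAction.stabilizer ↥Co0 w ⊓ MulAction.stabilizer ↥Co0 x) y =
      MulAction.orbit ↥(MulAction.stabilizer ↥Co0 ((v, w), x)) y := by
  rw [stab_prod, stab_prod]

end Cfsg.Agent.Lib.Helper33
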