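import Cfsg.Agent.Lib.Helper33.CoChain

set_option autoImplicit false

namespace Cfsg.Agent.Lib.Helper33

open Cfsg

theorem mem552_iff {u : ↥leechLattice} (hu : sqNorm (u : GolayPt → ℤ) = 48) (v : ↥leechLattice) :
    (sqNorm (v : GolayPt → ℤ) = 32 ∧ sqNorm ((u : GolayPt → ℤ) - (v : GolayPt → ℤ)) = 32) ↔ v ∈ C1 24 u := by
  rw [sqNorm_coe_sub, ldot_self, ldot_self, hu]
  constructor
  · rintro ⟨h1, h2⟩
    rw [h1] at h2
    exact ⟨h1, by show ldot u v = 24; omega⟩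
  · rintro ⟨h1, h2⟩
    have h1' : sqNorm (v : GolayPt → ℤ) = 32 := h1
    have h2' : ldot u v = 24 := h2
    exact ⟨h1', by rw [h1', h2']; norm_num⟩

theorem set552 {u : ↥leechLattice} (hu : sqNorm (u : GolayPt → ℤ) = 48) :
    {v : ↥leechLattice | sqNorm (v : GolayPt → ℤ) = 32 ∧
      sqNorm ((u : GolayPt → ℤ) - (v : GolayPt → ℤ)) = 32} = C1 24 u :=
  Set.ext (fun v => mem552_iff hu v)

theorem set275 {u : ↥leechLattice} (hu : sqNorm (u : GolayPt → ℤ) = 48) (v : ↥leechLattice) :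
    {x : ↥leechLattice | sqNorm (x : GolayPt → ℤ) = 32 ∧
      sqNorm ((u : GolayPt → ℤ) - (x : GolayPt → ℤ)) = 32 ∧
      dotInt (v : GolayPt → ℤ) (x : GolayPt → ℤ) = 16} = C2 24 16 (u, v) := by
  ext x
  constructor
  · rintro ⟨h1, h2, h3⟩
    have := (mem552_iff hu x).1 ⟨h1, h2⟩
    exact ⟨this.1, this.2, h3⟩
  · rintro ⟨h1, h2, h3⟩
    have := (mem552_iff hu x).2 ⟨h1, h2⟩
    exact ⟨this.1, this.2, h3⟩

theorem prod_fix {g : ↥Co0} {a b : ↥leechLattice} (h : g • (a, b) = (a, b)) : g • a = a ∧ g • b = b := by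
  rw [Prod.smul_mk, Prod.mk.injEq] at h
  exact h

theorem prod_fix3 {g : ↥Co0} {a b c : ↥leechLattice} (h : g • ((a, b), c) = ((a, b), c)) :
    g • a = a ∧ g • b = b ∧ g • c = c := by
  rw [Prod.smul_mk, Prod.smul_mk, Prod.mk.injEq, Prod.mk.injEq] at h
  exact ⟨h.1.1, h.1.2, h.2⟩

end Cfsg.Agent.Lib.Helper33
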