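import Cfsg.Agent.Lib.Helper33.CoCls

set_option autoImplicit false

namespace Cfsg.Agent.Lib.Helper33

theorem allBelow_split (f : ℕ → Bool) (k m : ℕ) (h1 : allBelow f k = true)
    (h2 : allBelow (fun t => f (Nat.add k t)) m = true) : allBelow f (k + m) = true := by
  rw [allBelow_iff] at h1 h2 ⊢
  intro t ht
  by_cases h : t < k
  · exact h1 t h
  · have := h2 (t - k) (by omega)
    have e : Nat.add k (t - k) = t := by
      show k + (t - k) = t
      omega
    rwa [e] at this

end Cfsg.Agent.Lib.Helper33
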