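import Cfsg.Agent.Lib.Helper33.CoForest

set_option autoImplicit false

namespace Cfsg.Agent.Lib.Helper33

open Cfsg

theorem mk_zero_ext {g : ℕ → ℕ} {n : ℕ} (h : ∀ i, n ≤ i → g i = 0) (d : ℕ) : mk g (n + d) = mk g n := by
  induction d with
  | zero => rfl
  | succ d ih => rw [← add_assoc, mk_succ, ih, h (n + d) (by omega), zero_mul, add_zero]

theorem mk_all_zero {g : ℕ → ℕ} {n : ℕ} (h : ∀ i < n, g i = 0) : mk g n = 0 := by
  rw [mk]
  exact Finset.sum_eq_zero (fun i hi => by rw [h i (Finset.mem_range.1 hi), zero_mul])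

theorem mk_shift (g : ℕ → ℕ) (j n : ℕ) :
    65536 ^ j * mk g n = mk (fun k => if j ≤ k then g (k - j) else 0) (j + n) := by
  have h0 : mk (fun k => if j ≤ k then g (k - j) else 0) j = 0 :=
    mk_all_zero (fun i hi => if_neg (Nat.not_le.2 hi))
  have h1 : mk (fun i => (fun k => if j ≤ k then g (k - j) else 0) (j + i)) n = mk g n := by
    apply mk_congr
    intro i _
    show (if j ≤ j + i then g (j + i - j) else 0) = g i
    rw [if_pos (Nat.le_add_right j i), Nat.add_sub_cancel_left]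
  rw [mk_split, h0, h1, zero_add]

theorem mk_mul_mk (f g : ℕ → ℕ) (n : ℕ) (hg : ∀ i, n ≤ i → g i = 0) :
    mk f n * mk g n = mk (fun k => ∑ j ∈ Finset.range n, f j * (if j ≤ k then g (k - j) else 0)) (n + n) := by
  have h1 : mk f n * mk g n = ∑ j ∈ Finset.range n, f j * (65536 ^ j * mk g n) := by
    rw [mk, Finset.sum_mul]
    exact Finset.sum_congr rfl (fun j _ => mul_assoc _ _ _)
  have h2 : ∀ j ∈ Finset.range n, f j * (65536 ^ j * mk g n) =
      mk (fun k => f j * (if j ≤ k then g (k - j) else 0)) (n + n) := by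
    intro j hj
    rw [Finset.mem_range] at hj
    have e : mk g n = mk g (n + (n - j)) := (mk_zero_ext hg _).symm
    rw [e, mk_shift, mul_mk]
    congr 1
    omega
  rw [h1, Finset.sum_congr rfl h2, sum_mk]

theorem conv_top {n : ℕ} {f g : ℕ → ℕ} (hn : 0 < n) (hn' : n ≤ 24) (hf : ∀ j < n, f j < 32) (hg : ∀ j < n, g j < 32) :
    dg (mk f n * mk g n) (n - 1) = ∑ j ∈ Finset.range n, f j * g (n - 1 - j) := by
  have e : mk g n = mk (fun i => if i < n then g i else 0) n :=
    mk_congr (fun i hi => (if_pos hi).symm)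
  rw [e, mk_mul_mk f _ n (fun i hi => if_neg (Nat.not_lt.2 hi)), dg_mk _ (by omega)]
  · apply Finset.sum_congr rfl
    intro j hj
    rw [Finset.mem_range] at hj
    rw [if_pos (by omega), if_pos (by omega)]
  · intro k _
    calc ∑ j ∈ Finset.range n, f j * (if j ≤ k then (if k - j < n then g (k - j) else 0) else 0)
        ≤ ∑ j ∈ Finset.range n, 31 * 31 := by
          apply Finset.sum_le_sum
          intro j hj
          rw [Finset.mem_range] at hj
          apply Nat.mul_le_mul (Nat.le_of_lt_succ (hf j hj))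
          split_ifs with h1 h2
          · exact Nat.le_of_lt_succ (hg _ h2)
          · exact Nat.zero_le _
          · exact Nat.zero_le _
      _ = n * 961 := by rw [Finset.sum_const, Finset.card_range, smul_eq_mul]
      _ < 65536 := by omega

theorem conv23 {f g : ℕ → ℕ} (hf : ∀ j < 24, f j < 32) (hg : ∀ j < 24, g j < 32) :
    dg (mk f 24 * mk g 24) 23 = ∑ j ∈ Finset.range 24, f j * g (23 - j) :=
  conv_top (n := 24) (by norm_num) (le_refl _) hf hg

/-- the packed vector with the digits in the opposite order -/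
noncomputable def rev24 (b : ℕ) : ℕ :=
  sumBelow (fun j => Nat.shiftLeft (dg b j) (Nat.mul 16 (Nat.sub 23 j))) 24

theorem rev24_eq (b : ℕ) : rev24 b = mk (fun i => dg b (23 - i)) 24 := by
  rw [rev24, sumBelow_eq, mk, ← Finset.sum_range_reflect]
  apply Finset.sum_congr rfl
  intro i hi
  rw [Finset.mem_range] at hi
  show (dg b (24 - 1 - i)) <<< (16 * (23 - (24 - 1 - i))) = _
  rw [Nat.shiftLeft_eq, pow_mul, show 24 - 1 - i = 23 - i by omega, show 23 - (23 - i) = i by omega]
  norm_num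

/-- the sum of the products of the digits -/
noncomputable def sdot (a b : ℕ) : ℕ := dg (Nat.mul a (rev24 b)) 23

theorem sdot_eq {a b : ℕ} (ha : Small a) (hb : Small b) :
    sdot a b = ∑ j ∈ Finset.range 24, dg a j * dg b j := by
  rw [sdot, rev24_eq]
  show dg (a * _) 23 = _
  conv_lhs => rw [← mk_dg ha.1]
  rw [conv23 ha.2 (fun j hj => hb.2 _ (by omega))]
  apply Finset.sum_congr rfl
  intro j hj
  rw [Finset.mem_range] at hj
  rw [show 23 - (23 - j) = j by omega]

/-- the sum of the digits -/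
def ssum (a : ℕ) : ℕ := dg (Nat.mul a ones24) 23

theorem ssum_eq {a : ℕ} (ha : Small a) : ssum a = ∑ j ∈ Finset.range 24, dg a j := by
  rw [ssum, ones24_eq]
  show dg (a * _) 23 = _
  conv_lhs => rw [← mk_dg ha.1]
  rw [conv23 ha.2 (fun j _ => by norm_num)]
  simp

/-- the inner product of two packed vectors, plus `10752` -/
noncomputable def dotC (a b : ℕ) : ℕ :=
  Nat.add (Nat.add (sdot a b) (Nat.mul 8 (Nat.sub 768 (ssum a)))) (Nat.mul 8 (Nat.sub 768 (ssum b)))

theorem ssum_le {a : ℕ} (ha : Small a) : ssum a ≤ 744 := by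
  rw [ssum_eq ha]
  calc ∑ j ∈ Finset.range 24, dg a j ≤ ∑ j ∈ Finset.range 24, 31 :=
        Finset.sum_le_sum (fun j hj => Nat.le_of_lt_succ (ha.2 j (Finset.mem_range.1 hj)))
    _ = 744 := by simp

theorem dotC_spec {a b : ℕ} (ha : Small a) (hb : Small b) :
    dotInt (vec a) (vec b) = (dotC a b : ℤ) - 10752 := by
  have h1 := ssum_le ha
  have h2 := ssum_le hb
  have e : dotC a b = sdot a b + 8 * (768 - ssum a) + 8 * (768 - ssum b) := rfl
  rw [e]
  push_cast [Nat.cast_sub (le_trans h1 (by norm_num : 744 ≤ 768)), Nat.cast_sub (le_trans h2 (by norm_num : 744 ≤ 768))]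
  rw [sdot_eq ha hb, ssum_eq ha, ssum_eq hb]
  unfold dotInt vec
  rw [sum_idx (fun j => ((dg a j : ℤ) - 8) * ((dg b j : ℤ) - 8))]
  push_cast
  have : ∀ j ∈ Finset.range 24, ((dg a j : ℤ) - 8) * ((dg b j : ℤ) - 8) =
      (dg a j : ℤ) * (dg b j : ℤ) - 8 * (dg a j : ℤ) - 8 * (dg b j : ℤ) + 64 := fun j _ => by ring
  rw [Finset.sum_congr rfl this, Finset.sum_add_distrib, Finset.sum_sub_distrib, Finset.sum_sub_distrib,
    ← Finset.mul_sum, ← Finset.mul_sum]
  simp
  ring

theorem sqNorm_eq_dotInt (x : GolayPt → ℤ) : sqNorm x = dotInt x x := by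
  unfold sqNorm dotInt
  exact Finset.sum_congr rfl (fun i _ => by ring)

theorem dotC_iff {a b : ℕ} (ha : Small a) (hb : Small b) (c : ℕ) :
    Nat.beq (dotC a b) c = true ↔ dotInt (vec a) (vec b) = (c : ℤ) - 10752 := by
  rw [dotC_spec ha hb]
  constructor
  · intro h; rw [Nat.eq_of_beq_eq_true h]
  · intro h
    have : dotC a b = c := by omega
    rw [this]; exact Nat.beq_refl _

end Cfsg.Agent.Lib.Helper33
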