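import Cfsg.Agent.Lib.Helper33.Orbit2
import Cfsg.Agent.Lib.Helper33.OctData

set_option autoImplicit false

namespace Cfsg.Agent.Lib.Helper33

open Cfsg
open scoped Pointwise

/-- variant of `maskRankData` where `rel` is only required to be invariant under `M24` -/
theorem maskRankData' {ι : Type*} [DecidableEq ι] (Ω : Set (Finset GolayPt))
    (rel : Finset GolayPt → Finset GolayPt → ι)
    (gens fus tab par gi trs rts ng r n : ℕ) (c : ℕ → ι)
    (hn : 0 < n)
    (smul_mem : ∀ g ∈ M24, ∀ y ∈ Ω, g • y ∈ Ω)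
    (rel_smul : ∀ g ∈ M24, ∀ (x y : Finset GolayPt), rel (g • x) (g • y) = rel x y)
    (cover : ∀ y ∈ Ω, ∃ k < n, y = unmask (fld24 tab k))
    (mem : ∀ k < n, unmask (fld24 tab k) ∈ Ω)
    (inj : ∀ k < n, ∀ k' < n, fld24 tab k = fld24 tab k' → k = k')
    (hgens : gensFix gens ng (fld24 tab 0) = true)
    (hforest : allBelow (nodeOK gens tab par gi trs rts ng r) n = true)
    (hfuse : fuseOK fus tab rts r = true)
    (hc : ∀ j < r, rel (unmask (fld24 tab 0)) (unmask (fld24 tab (fld12 rts j))) = c j)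
    (hroots : ∀ j < r, ∀ j' < r, c j = c j' → j = j') :
    RankData ↥M24 Ω rel (unmask (fld24 tab 0))
      (fun i => ((Finset.range n).filter (fun k => c (fld4 trs k) = i)).card) := by
  have hF := maskForest _ gens tab par gi trs rts ng r n (gensFix_spec hgens) hforest
  refine RankData.ofForest Ω rel (unmask (fld24 tab 0)) (fun k => unmask (fld24 tab k)) n
    (fun k => fld12 rts (fld4 trs k)) (fun k => c (fld4 trs k)) (mem 0 hn)
    (fun g y hy => smul_mem g.1 g.2 y hy) (fun g x y => rel_smul g.1 g.2 x y) cover mem ?_ ?_ ?_ ?_ ?_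
  · intro k hk k' hk' h
    exact inj k hk k' hk' (unmask_inj (fld24_lt _ _) (fld24_lt _ _) h)
  · intro k hk
    obtain ⟨_, g, hg, h⟩ := hF k hk
    exact ⟨⟨g, hg.1⟩, hg.2, h⟩
  · intro k hk
    obtain ⟨g, hg, h⟩ := fuseOK_spec hfuse _ (hF k hk).1
    exact ⟨⟨g, hg⟩, h⟩
  · intro k hk
    exact hc _ (hF k hk).1
  · intro k hk k' hk' h
    show fld12 rts (fld4 trs k) = fld12 rts (fld4 trs k')
    rw [hroots _ (hF k hk).1 _ (hF k' hk').1 h]

theorem maskRank_rel' {ι : Type*} (Ω : Set (Finset GolayPt))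
    (rel : Finset GolayPt → Finset GolayPt → ι)
    (gens tab par gi trs rts ng r n : ℕ) (c : ℕ → ι)
    (rel_smul : ∀ g ∈ M24, ∀ (x y : Finset GolayPt), rel (g • x) (g • y) = rel x y)
    (cover : ∀ y ∈ Ω, ∃ k < n, y = unmask (fld24 tab k))
    (hgens : gensFix gens ng (fld24 tab 0) = true)
    (hforest : allBelow (nodeOK gens tab par gi trs rts ng r) n = true)
    (hc : ∀ j < r, rel (unmask (fld24 tab 0)) (unmask (fld24 tab (fld12 rts j))) = c j) :
    ∀ y ∈ Ω, ∃ j < r, rel (unmask (fld24 tab 0)) y = c j := by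
  have hF := maskForest _ gens tab par gi trs rts ng r n (gensFix_spec hgens) hforest
  intro y hy
  obtain ⟨k, hk, rfl⟩ := cover y hy
  obtain ⟨hr, g, hg, h⟩ := hF k hk
  refine ⟨_, hr, ?_⟩
  rw [← hc _ hr, ← h]
  have h0 : g • unmask (fld24 tab 0) = unmask (fld24 tab 0) := hg.2
  conv_rhs => rw [← h0]
  exact (rel_smul g hg.1 _ _).symm

theorem unmask_subset_iff {a b : ℕ} (ha : a < 2 ^ 24) : unmask a ⊆ unmask b ↔ Nat.land a b = a := by
  rw [← Finset.inter_eq_left, ← unmask_and]
  constructor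
  · intro h
    exact unmask_inj (lt_of_le_of_lt Nat.and_le_left ha) ha h
  · intro h
    have : a &&& b = a := h
    rw [this]

/-- is the mask contained in an octad? -/
noncomputable def inOct (m : ℕ) : Bool :=
  !(allBelow (fun k => !(Nat.beq (Nat.land m (fld24 octTab k)) m)) 759)

theorem inOct_iff {m : ℕ} (hm : m < 2 ^ 24) : inOct m = true ↔ ∃ o ∈ octads, unmask m ⊆ o := by
  constructor
  · intro h
    by_contra hc
    rw [inOct, Bool.not_eq_true', ← Bool.not_eq_true] at h
    apply h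
    rw [allBelow_iff]
    intro k hk
    rw [Bool.not_eq_true']
    by_contra h2
    rw [Bool.not_eq_false] at h2
    exact hc ⟨_, (codeFam_spec oct_fam).2.1 k hk, (unmask_subset_iff hm).2 (Nat.eq_of_beq_eq_true h2)⟩
  · rintro ⟨o, ho, hs⟩
    obtain ⟨k, hk, rfl⟩ := (codeFam_spec oct_fam).1 o ho
    rw [inOct, Bool.not_eq_true', ← Bool.not_eq_true, allBelow_iff]
    intro h
    have := h k hk
    rw [(unmask_subset_iff hm).1 hs] at this
    simp at this

open Classical in
/-- relation between two sets of points: intersection size and whether the union lies in an octad -/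
noncomputable def relOct (x y : Finset GolayPt) : ℕ :=
  2 * (x ∩ y).card + (if ∃ o ∈ octads, x ∪ y ⊆ o then 1 else 0)

theorem relOct_smul (g : Equiv.Perm GolayPt) (hg : g ∈ M24) (x y : Finset GolayPt) :
    relOct (g • x) (g • y) = relOct x y := by
  have h : (∃ o ∈ octads, g • x ∪ g • y ⊆ o) ↔ (∃ o ∈ octads, x ∪ y ⊆ o) := by
    rw [← Finset.smul_finset_union]
    constructor
    · rintro ⟨o, ho, hs⟩
      refine ⟨g⁻¹ • o, smul_mem_octads (M24.inv_mem hg) ho, ?_⟩
      rw [← Finset.smul_finset_subset_smul_finset_iff (a := g), smul_inv_smul]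
      exact hs
    · rintro ⟨o, ho, hs⟩
      exact ⟨g • o, smul_mem_octads hg ho, Finset.smul_finset_subset_smul_finset_iff.2 hs⟩
  unfold relOct
  rw [card_inter_smul]
  congr 1
  by_cases h2 : ∃ o ∈ octads, x ∪ y ⊆ o
  · rw [if_pos h2, if_pos (h.2 h2)]
  · rw [if_neg h2, if_neg (fun h3 => h2 (h.1 h3))]

theorem relOct_unmask {a b : ℕ} (ha : a < 2 ^ 24) (hb : b < 2 ^ 24) :
    relOct (unmask a) (unmask b) = 2 * popc (Nat.land a b) + (inOct (Nat.lor a b)).toNat := by
  have hab : Nat.lor a b < 2 ^ 24 := Nat.or_lt_two_pow ha hb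
  unfold relOct
  rw [card_inter_unmask _ _ ha, ← unmask_or]
  congr 1
  by_cases h : ∃ o ∈ octads, unmask (a ||| b) ⊆ o
  · rw [if_pos h, (inOct_iff hab).2 h]; rfl
  · rw [if_neg h]
    have : inOct (Nat.lor a b) = false := by
      rw [← Bool.not_eq_true]; exact fun h2 => h ((inOct_iff hab).1 h2)
    rw [this]; rfl

end Cfsg.Agent.Lib.Helper33
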