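import Cfsg.Agent.Lib.Helper33.LeechDec3

set_option autoImplicit false

namespace Cfsg.Agent.Lib.Helper33

open Cfsg

/-! ### shape (±4, ±4, 0^22) -/

def dec1 (k : ℕ) : ℕ :=
  Nat.sub (Nat.add (Nat.add (Nat.mul 8 ones24)
      (Nat.shiftLeft (Nat.mul 8 (bitN (Nat.div k 576) 0)) (Nat.mul 16 (Nat.mod (Nat.div k 24) 24))))
      (Nat.shiftLeft (Nat.mul 8 (bitN (Nat.div k 576) 1)) (Nat.mul 16 (Nat.mod k 24))))
    (Nat.add (Nat.shiftLeft 4 (Nat.mul 16 (Nat.mod (Nat.div k 24) 24))) (Nat.shiftLeft 4 (Nat.mul 16 (Nat.mod k 24))))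

def co1 (s i j q : ℕ) : ℕ := if q = i then 4 + 8 * bitN s 0 else if q = j then 4 + 8 * bitN s 1 else 8

def val1 (k : ℕ) : Bool := Nat.blt (Nat.mod (Nat.div k 24) 24) (Nat.mod k 24)

theorem co1_lt (s i j q : ℕ) : co1 s i j q < 32 := by
  unfold co1
  have := bitN_le s 0
  have := bitN_le s 1
  split_ifs <;> omega

theorem dec1_eq' (s : ℕ) {i j : ℕ} (hi : i < 24) (hj : j < 24) (hij : i ≠ j) :
    Nat.sub (Nat.add (Nat.add (Nat.mul 8 ones24) (Nat.shiftLeft (Nat.mul 8 (bitN s 0)) (Nat.mul 16 i)))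
      (Nat.shiftLeft (Nat.mul 8 (bitN s 1)) (Nat.mul 16 j)))
    (Nat.add (Nat.shiftLeft 4 (Nat.mul 16 i)) (Nat.shiftLeft 4 (Nat.mul 16 j))) = mk (co1 s i j) 24 := by
  rw [shl_mk _ hi, shl_mk _ hj, shl_mk _ hi, shl_mk _ hj, ones24_eq]
  show 8 * mk (fun _ => 1) 24 + mk (fun q => if q = i then Nat.mul 8 (bitN s 0) else 0) 24 +
    mk (fun q => if q = j then Nat.mul 8 (bitN s 1) else 0) 24 -
    (mk (fun q => if q = i then 4 else 0) 24 + mk (fun q => if q = j then 4 else 0) 24) = _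
  rw [mul_mk, mk_add, mk_add, mk_add]
  apply Nat.sub_eq_of_eq_add
  rw [mk_add]
  apply mk_congr
  intro q _
  unfold co1
  by_cases h1 : q = i
  · subst h1
    simp only [if_true, if_neg hij]
    show 8 * 1 + 8 * bitN s 0 + 0 = _
    omega
  · by_cases h2 : q = j
    · subst h2
      simp only [if_true, if_neg h1]
      show 8 * 1 + 0 + 8 * bitN s 1 = _
      omega
    · simp only [if_neg h1, if_neg h2]

theorem dec1_eq {k : ℕ} (hv : val1 k = true) :
    dec1 k = mk (co1 (Nat.div k 576) (Nat.mod (Nat.div k 24) 24) (Nat.mod k 24)) 24 :=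
  dec1_eq' _ (Nat.mod_lt _ (by norm_num)) (Nat.mod_lt _ (by norm_num)) (Nat.ne_of_lt (blt_iff.1 hv))

theorem cover1_aux {x : GolayPt → ℤ} (i j : GolayPt) (hij : idx i < idx j) (hi : x i = 4 ∨ x i = -4)
    (hj : x j = 4 ∨ x j = -4) (h0 : ∀ k, k ≠ i → k ≠ j → x k = 0) :
    ∃ k < 2304, val1 k = true ∧ x = vec (dec1 k) := by
  have hs : ∃ s < 4, x i = 8 * (bitN s 0 : ℤ) - 4 ∧ x j = 8 * (bitN s 1 : ℤ) - 4 := by
    rcases hi with hi | hi <;> rcases hj with hj | hj
    · exact ⟨3, by norm_num, by rw [hi]; rfl, by rw [hj]; rfl⟩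
    · exact ⟨1, by norm_num, by rw [hi]; rfl, by rw [hj]; rfl⟩
    · exact ⟨2, by norm_num, by rw [hi]; rfl, by rw [hj]; rfl⟩
    · exact ⟨0, by norm_num, by rw [hi]; rfl, by rw [hj]; rfl⟩
  obtain ⟨s, hs, hsi, hsj⟩ := hs
  have a := idx_lt i
  have b := idx_lt j
  have e1 : Nat.div (576 * s + 24 * idx i + idx j) 576 = s := by
    show (576 * s + 24 * idx i + idx j) / 576 = s
    omega
  have e2 : Nat.mod (Nat.div (576 * s + 24 * idx i + idx j) 24) 24 = idx i := by
    show (576 * s + 24 * idx i + idx j) / 24 % 24 = idx i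
    omega
  have e3 : Nat.mod (576 * s + 24 * idx i + idx j) 24 = idx j := by
    show (576 * s + 24 * idx i + idx j) % 24 = idx j
    omega
  have hv : val1 (576 * s + 24 * idx i + idx j) = true := by
    rw [val1, e2, e3]; exact blt_iff.2 hij
  refine ⟨576 * s + 24 * idx i + idx j, by omega, hv, ?_⟩
  rw [dec1_eq hv, e1, e2, e3]
  funext p
  rw [vec_mk (fun j _ => lt_trans (co1_lt _ _ _ _) (by norm_num))]
  unfold co1
  by_cases h1 : p = i
  · subst h1
    rw [if_pos rfl, hsi]; push_cast; ring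
  · have h1' : idx p ≠ idx i := fun e => h1 (idx_injective e)
    by_cases h2 : p = j
    · subst h2
      rw [if_neg h1', if_pos rfl, hsj]; push_cast; ring
    · have h2' : idx p ≠ idx j := fun e => h2 (idx_injective e)
      rw [if_neg h1', if_neg h2', h0 p h1 h2]; norm_num

theorem cover1 {x : GolayPt → ℤ} (i j : GolayPt) (hij : i ≠ j) (hi : x i = 4 ∨ x i = -4)
    (hj : x j = 4 ∨ x j = -4) (h0 : ∀ k, k ≠ i → k ≠ j → x k = 0) :
    ∃ k < 2304, val1 k = true ∧ x = vec (dec1 k) := by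
  have hne : idx i ≠ idx j := fun e => hij (idx_injective e)
  rcases Nat.lt_or_gt_of_ne hne with h | h
  · exact cover1_aux i j h hi hj h0
  · exact cover1_aux j i h hj hi (fun k h1 h2 => h0 k h2 h1)

theorem bits4 : ∀ s < 4, ∀ s' < 4, bitN s 0 = bitN s' 0 → bitN s 1 = bitN s' 1 → s = s' := by decide

theorem inj1 {k k' : ℕ} (hk : k < 2304) (hk' : k' < 2304) (hv : val1 k = true) (hv' : val1 k' = true)
    (h : ∀ q < 24, co1 (Nat.div k 576) (Nat.mod (Nat.div k 24) 24) (Nat.mod k 24) q =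
      co1 (Nat.div k' 576) (Nat.mod (Nat.div k' 24) 24) (Nat.mod k' 24) q) : k = k' := by
  have hv1 := blt_iff.1 hv
  have hv2 := blt_iff.1 hv'
  have d1 : k = 576 * Nat.div k 576 + 24 * Nat.mod (Nat.div k 24) 24 + Nat.mod k 24 := by
    show k = 576 * (k / 576) + 24 * (k / 24 % 24) + k % 24
    omega
  have d2 : k' = 576 * Nat.div k' 576 + 24 * Nat.mod (Nat.div k' 24) 24 + Nat.mod k' 24 := by
    show k' = 576 * (k' / 576) + 24 * (k' / 24 % 24) + k' % 24
    omega
  have s1 : Nat.div k 576 < 4 := by show k / 576 < 4; omega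
  have s2 : Nat.div k' 576 < 4 := by show k' / 576 < 4; omega
  have j1 : Nat.mod k 24 < 24 := Nat.mod_lt _ (by norm_num)
  have j2 : Nat.mod k' 24 < 24 := Nat.mod_lt _ (by norm_num)
  generalize Nat.div k 576 = s at *
  generalize Nat.div k' 576 = s' at *
  generalize Nat.mod (Nat.div k 24) 24 = i at *
  generalize Nat.mod (Nat.div k' 24) 24 = i' at *
  generalize Nat.mod k 24 = j at *
  generalize Nat.mod k' 24 = j' at *
  have b0 := bitN_le s 0
  have b1 := bitN_le s 1
  have b0' := bitN_le s' 0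
  have b1' := bitN_le s' 1
  have hA : ∀ q < 24, (q = i ∨ q = j) → (q = i' ∨ q = j') := by
    intro q hq hqq
    have := h q hq
    unfold co1 at this
    by_contra hc
    push Not at hc
    rw [if_neg hc.1, if_neg hc.2] at this
    split_ifs at this <;> omega
  have hB : ∀ q < 24, (q = i' ∨ q = j') → (q = i ∨ q = j) := by
    intro q hq hqq
    have := h q hq
    unfold co1 at this
    by_contra hc
    push Not at hc
    rw [if_neg hc.1, if_neg hc.2] at this
    split_ifs at this <;> omega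
  have hi : i = i' := by
    have a1 := hA i (by omega) (Or.inl rfl)
    have a2 := hB i' (by omega) (Or.inl rfl)
    omega
  have hj : j = j' := by
    have a1 := hA j j1 (Or.inr rfl)
    have a2 := hB j' j2 (Or.inr rfl)
    omega
  subst hi hj
  have e0 := h i (by omega)
  have e1 := h j j1
  unfold co1 at e0 e1
  rw [if_pos rfl, if_pos rfl] at e0
  rw [if_neg (by omega), if_pos rfl, if_neg (by omega), if_pos rfl] at e1
  have := bits4 s s1 s' s2 (by omega) (by omega)
  rw [d1, d2, this]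

end Cfsg.Agent.Lib.Helper33
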