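import Cfsg.Agent.Lib.Helper9.Leech3
import Cfsg.Agent.Lib.Helper33.Code

set_option autoImplicit false

namespace Cfsg.Agent.Lib.Helper33

open Cfsg Cfsg.Agent.Lib.Helper9

theorem mem_support_red2 (z : GolayPt → ℤ) (j : GolayPt) : j ∈ support₂ (red2 z) ↔ z j % 2 = 1 := by
  rw [support₂, Finset.mem_filter]
  simp only [Finset.mem_univ, true_and]
  exact red2_ne_zero_iff z j

/-- if a sum of non-negative integers, each `0` or at least `s`, equals `s > 0`, exactly one term is non-zero -/
theorem unique_big (u : GolayPt → ℤ) (s : ℤ) (hs : 0 < s) (h0 : ∀ i, u i = 0 ∨ s ≤ u i) (hsum : ∑ i, u i = s) :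
    ∃ i₀, u i₀ = s ∧ ∀ j, j ≠ i₀ → u j = 0 := by
  have hnn : ∀ i, 0 ≤ u i := fun i => by rcases h0 i with h | h <;> omega
  obtain ⟨i₀, hi₀⟩ : ∃ i₀, u i₀ ≠ 0 := by
    by_contra hc
    push Not at hc
    rw [Finset.sum_congr rfl (fun i _ => hc i)] at hsum
    simp at hsum
    omega
  have h1 : s ≤ u i₀ := by rcases h0 i₀ with h | h; exact absurd h hi₀; exact h
  have h2 : u i₀ + ∑ j ∈ Finset.univ.erase i₀, u j = s := by
    rw [Finset.add_sum_erase _ _ (Finset.mem_univ i₀)]; exact hsum
  have h3 : 0 ≤ ∑ j ∈ Finset.univ.erase i₀, u j := Finset.sum_nonneg (fun j _ => hnn j)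
  have h4 : ∑ j ∈ Finset.univ.erase i₀, u j = 0 := by omega
  refine ⟨i₀, by omega, fun j hj => ?_⟩
  exact (Finset.sum_eq_zero_iff_of_nonneg (fun j _ => hnn j)).1 h4 j (Finset.mem_erase.2 ⟨hj, Finset.mem_univ j⟩)

/-- classification of the minimal vectors -/
theorem min_class {x : GolayPt → ℤ} (hx : x ∈ leechLattice) (hn : sqNorm x = 32) :
    (∃ i₀ : GolayPt, ∃ c ∈ supports (golayCode : Set (GolayPt → ZMod 2)),
      ∀ j, x j = if j = i₀ then (if j ∈ c then 3 else -3) else (if j ∈ c then -1 else 1)) ∨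
    (∃ O ∈ octads, (∀ j ∈ O, x j = 2 ∨ x j = -2) ∧ (∀ j, j ∉ O → x j = 0) ∧ (∑ j, x j) % 8 = 0) ∨
    (∃ i j : GolayPt, i ≠ j ∧ (x i = 4 ∨ x i = -4) ∧ (x j = 4 ∨ x j = -4) ∧ ∀ k, k ≠ i → k ≠ j → x k = 0) := by
  rw [mem_leechLattice_iff_mem_leechSet, mem_leechSet_iff'] at hx
  obtain ⟨e, z, he, h1, h2, h3⟩ := hx
  have hc : support₂ (red2 z) ∈ supports (golayCode : Set (GolayPt → ZMod 2)) := ⟨red2 z, h3, rfl⟩
  rcases he with rfl | rfl
  · -- even vectors
    right
    have hx2 : ∀ i, x i = 2 * z i := fun i => by rw [h1 i]; ring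
    have hz : ∑ i, z i ^ 2 = 8 := by
      have : sqNorm x = 4 * ∑ i, z i ^ 2 := by
        unfold sqNorm
        rw [Finset.mul_sum]
        exact Finset.sum_congr rfl (fun i _ => by rw [hx2 i]; ring)
      omega
    have hle := card_support_le_sum_sq z
    rw [hz] at hle
    have hle' : (support₂ (red2 z)).card ≤ 8 := by exact_mod_cast hle
    rcases card_of_mem_supports hc with h | h | h | h | h
    · -- all z even
      right
      have hev : ∀ i, z i % 2 = 0 := by
        intro i
        have : i ∉ support₂ (red2 z) := by rw [Finset.card_eq_zero.1 h]; simp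
        rw [mem_support_red2] at this
        omega
      have hy : ∑ i, (z i / 2) ^ 2 = 2 := by
        have : ∑ i, z i ^ 2 = 4 * ∑ i, (z i / 2) ^ 2 := by
          rw [Finset.mul_sum]
          apply Finset.sum_congr rfl
          intro i _
          have := hev i
          obtain ⟨q, hq⟩ : ∃ q, z i = 2 * q := ⟨z i / 2, by omega⟩
          rw [hq]
          have : 2 * q / 2 = q := by omega
          rw [this]; ring
        omega
      have hx4 : ∀ i, x i = 4 * (z i / 2) := fun i => by rw [hx2 i]; have := hev i; omega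
      have hnn : ∀ i, 0 ≤ (z i / 2) ^ 2 := fun i => by positivity
      obtain ⟨i, hi⟩ : ∃ i, (z i / 2) ≠ 0 := by
        by_contra hcon
        push Not at hcon
        rw [Finset.sum_congr rfl (fun i _ => by rw [hcon i])] at hy
        simp at hy
      have hs1 : (z i / 2) ^ 2 + ∑ j ∈ Finset.univ.erase i, (z j / 2) ^ 2 = 2 := by
        rw [Finset.add_sum_erase _ (fun j => (z j / 2) ^ 2) (Finset.mem_univ i)]; exact hy
      have hr0 : 0 ≤ ∑ j ∈ Finset.univ.erase i, (z j / 2) ^ 2 := Finset.sum_nonneg (fun j _ => hnn j)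
      have hsq : ∀ t : ℤ, t ≠ 0 → t ^ 2 ≤ 2 → t = 1 ∨ t = -1 := by
        intro t ht h2
        have h3 : -2 < t := by nlinarith
        have h4 : t < 2 := by nlinarith
        omega
      have hi1 := hsq _ hi (by omega)
      have hi2 : (z i / 2) ^ 2 = 1 := by rcases hi1 with h | h <;> rw [h] <;> norm_num
      have hs2 : ∑ j ∈ Finset.univ.erase i, (z j / 2) ^ 2 = 1 := by omega
      obtain ⟨j, hj, hj0⟩ : ∃ j ∈ Finset.univ.erase i, (z j / 2) ≠ 0 := by
        by_contra hcon
        push Not at hcon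
        rw [Finset.sum_congr rfl (fun j hj => by rw [hcon j hj])] at hs2
        simp at hs2
      have hs3 : (z j / 2) ^ 2 + ∑ k ∈ (Finset.univ.erase i).erase j, (z k / 2) ^ 2 = 1 := by
        rw [Finset.add_sum_erase _ (fun j => (z j / 2) ^ 2) hj]; exact hs2
      have hr1 : 0 ≤ ∑ k ∈ (Finset.univ.erase i).erase j, (z k / 2) ^ 2 := Finset.sum_nonneg (fun j _ => hnn j)
      have hj1 := hsq _ hj0 (by omega)
      have hj2 : (z j / 2) ^ 2 = 1 := by rcases hj1 with h | h <;> rw [h] <;> norm_num
      have hs4 : ∑ k ∈ (Finset.univ.erase i).erase j, (z k / 2) ^ 2 = 0 := by omega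
      refine ⟨i, j, (Finset.mem_erase.1 hj).1.symm, ?_, ?_, ?_⟩
      · rw [hx4 i]; omega
      · rw [hx4 j]; omega
      · intro k hki hkj
        have := (Finset.sum_eq_zero_iff_of_nonneg (fun j _ => hnn j)).1 hs4 k
          (Finset.mem_erase.2 ⟨hkj, Finset.mem_erase.2 ⟨hki, Finset.mem_univ k⟩⟩)
        rw [hx4 k, pow_eq_zero_iff (by norm_num)] at *
        omega
    · -- octad
      left
      refine ⟨support₂ (red2 z), ⟨hc, h⟩, ?_⟩
      have hterm : ∀ i, 0 ≤ z i ^ 2 - (if i ∈ support₂ (red2 z) then 1 else 0) := by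
        intro i
        by_cases hi : i ∈ support₂ (red2 z)
        · rw [if_pos hi]
          rw [mem_support_red2] at hi
          have : z i ≠ 0 := by intro h0; rw [h0] at hi; omega
          have : 0 < z i ^ 2 := by positivity
          omega
        · rw [if_neg hi]
          have : 0 ≤ z i ^ 2 := by positivity
          omega
      have hsum0 : ∑ i, (z i ^ 2 - (if i ∈ support₂ (red2 z) then (1 : ℤ) else 0)) = 0 := by
        rw [Finset.sum_sub_distrib, hz, Finset.sum_ite_mem, Finset.univ_inter, Finset.sum_const, h]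
        norm_num
      have hall := (Finset.sum_eq_zero_iff_of_nonneg (fun i _ => hterm i)).1 hsum0
      refine ⟨?_, ?_, ?_⟩
      · intro j hj
        have := hall j (Finset.mem_univ j)
        rw [if_pos hj] at this
        have h5 : (z j - 1) * (z j + 1) = 0 := by ring_nf; ring_nf at this; omega
        rcases mul_eq_zero.1 h5 with h6 | h6
        · left; rw [hx2 j]; omega
        · right; rw [hx2 j]; omega
      · intro j hj
        have := hall j (Finset.mem_univ j)
        rw [if_neg hj, sub_zero, pow_eq_zero_iff (by norm_num)] at this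
        rw [hx2 j, this]; norm_num
      · have : ∑ j, x j = 2 * ∑ j, z j := by
          rw [Finset.mul_sum]; exact Finset.sum_congr rfl (fun i _ => hx2 i)
        omega
    · omega
    · omega
    · omega
  · -- odd vectors
    left
    have hu : ∀ i, x i ^ 2 - 1 = 0 ∨ 8 ≤ x i ^ 2 - 1 := by
      intro i
      rw [h1 i]
      have e : (1 + 2 * z i) ^ 2 - 1 = 4 * (z i * (z i + 1)) := by ring
      rw [e]
      rcases (by omega : z i = 0 ∨ z i = -1 ∨ 1 ≤ z i ∨ z i ≤ -2) with h | h | h | h
      · left; rw [h]; norm_num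
      · left; rw [h]; norm_num
      · right; nlinarith
      · right; nlinarith
    have hsum : ∑ i, (x i ^ 2 - 1) = 8 := by
      rw [Finset.sum_sub_distrib]
      have : ∑ i, x i ^ 2 = 32 := hn
      rw [this, Finset.sum_const, Finset.card_univ, card_golayPt]
      norm_num
    obtain ⟨i₀, hi₀, hoth⟩ := unique_big (fun i => x i ^ 2 - 1) 8 (by norm_num) hu hsum
    refine ⟨i₀, support₂ (red2 z), hc, ?_⟩
    intro j
    have hm := mem_support_red2 z j
    by_cases hj : j = i₀
    · subst hj
      rw [if_pos rfl]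
      have h5 : (x j - 3) * (x j + 3) = 0 := by
        have : x j ^ 2 - 1 = 8 := hi₀
        ring_nf; ring_nf at this; omega
      have h6 := h1 j
      rcases mul_eq_zero.1 h5 with h7 | h7
      · rw [if_pos (hm.2 (by omega))]; omega
      · rw [if_neg (fun h => by have := hm.1 h; omega)]; omega
    · rw [if_neg hj]
      have h5 : (x j - 1) * (x j + 1) = 0 := by
        have : x j ^ 2 - 1 = 0 := hoth j hj
        ring_nf; ring_nf at this; omega
      have h6 := h1 j
      rcases mul_eq_zero.1 h5 with h7 | h7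
      · rw [if_neg (fun h => by have := hm.1 h; omega)]; omega
      · rw [if_pos (hm.2 (by omega))]; omega

end Cfsg.Agent.Lib.Helper33
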