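import Cfsg.Agent.Lib.Helper33.LeechSp
import Cfsg.Agent.Lib.Helper33.LeechMin

set_option autoImplicit false

namespace Cfsg.Agent.Lib.Helper33

open Cfsg

/-! ### shape (∓3, ±1^23) -/

/-- packed vector of shape 3 with index `k = 4096 * i₀ + x` -/
def dec3 (k : ℕ) : ℕ :=
  Nat.sub (Nat.add (Nat.add (Nat.mul 7 ones24) (Nat.mul 2 (sp (Nat.xor (enc (Nat.land k 4095)) 0xFFFFFF))))
     (Nat.shiftLeft (Nat.mul 8 (bitN (enc (Nat.land k 4095)) (Nat.shiftRight k 12))) (Nat.mul 16 (Nat.shiftRight k 12))))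
   (Nat.shiftLeft 4 (Nat.mul 16 (Nat.shiftRight k 12)))

/-- digits of the vectors of shape 3 -/
def co3 (i₀ c j : ℕ) : ℕ :=
  if j = i₀ then (if c.testBit j = true then 11 else 5) else (if c.testBit j = true then 7 else 9)

theorem co3_lt (i₀ c j : ℕ) : co3 i₀ c j < 32 := by
  unfold co3; split_ifs <;> norm_num

theorem dec3_eq' {i₀ c : ℕ} (hi : i₀ < 24) (hc : c < 2 ^ 24) :
    Nat.sub (Nat.add (Nat.add (Nat.mul 7 ones24) (Nat.mul 2 (sp (Nat.xor c 0xFFFFFF))))
     (Nat.shiftLeft (Nat.mul 8 (bitN c i₀)) (Nat.mul 16 i₀))) (Nat.shiftLeft 4 (Nat.mul 16 i₀)) =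
    mk (co3 i₀ c) 24 := by
  have hx : Nat.xor c 0xFFFFFF < 2 ^ 24 := Nat.xor_lt_two_pow hc (by norm_num)
  rw [sp_eq hx, shl_mk _ hi, shl_mk _ hi, ones24_eq]
  show 7 * mk (fun _ => 1) 24 + 2 * mk (bitN (Nat.xor c 0xFFFFFF)) 24 + mk (fun j => if j = i₀ then Nat.mul 8 (bitN c i₀) else 0) 24
    - mk (fun j => if j = i₀ then 4 else 0) 24 = _
  rw [mul_mk, mul_mk, mk_add, mk_add]
  apply Nat.sub_eq_of_eq_add
  rw [mk_add]
  apply mk_congr
  intro j hj
  rw [bitN_compl hj]
  unfold co3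
  by_cases h1 : j = i₀
  · subst h1
    simp only [if_true]
    cases hb : c.testBit j
    · rw [bitN_eq_zero.2 hb]; simp
    · rw [bitN_eq_one.2 hb]; simp
  · simp only [if_neg h1]
    cases hb : c.testBit j
    · rw [bitN_eq_zero.2 hb]; simp
    · rw [bitN_eq_one.2 hb]; simp

theorem idx3 {k : ℕ} (hk : k < 98304) : Nat.shiftRight k 12 < 24 ∧ Nat.land k 4095 < 4096 ∧
    k = 4096 * Nat.shiftRight k 12 + Nat.land k 4095 := by
  have e1 : Nat.shiftRight k 12 = k / 4096 := by
    show k >>> 12 = _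
    rw [Nat.shiftRight_eq_div_pow]
  have e2 : Nat.land k 4095 = k % 4096 := by
    show k &&& 4095 = _
    exact Nat.and_two_pow_sub_one_eq_mod k 12
  rw [e1, e2]
  omega

theorem dec3_eq {k : ℕ} (hk : k < 98304) :
    dec3 k = mk (co3 (Nat.shiftRight k 12) (enc (Nat.land k 4095))) 24 :=
  dec3_eq' (idx3 hk).1 (enc_lt (idx3 hk).2.1)

theorem cover3 {x : GolayPt → ℤ} (i₀ : GolayPt) (c : Finset GolayPt)
    (hc : c ∈ supports (golayCode : Set (GolayPt → ZMod 2)))
    (h : ∀ j, x j = if j = i₀ then (if j ∈ c then 3 else -3) else (if j ∈ c then -1 else 1)) :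
    ∃ k < 98304, x = vec (dec3 k) := by
  obtain ⟨y, hy, rfl⟩ := (mem_supports_iff c).1 hc
  have hi := idx_lt i₀
  have hk : 4096 * idx i₀ + y < 98304 := by omega
  refine ⟨4096 * idx i₀ + y, hk, ?_⟩
  have e1 : Nat.shiftRight (4096 * idx i₀ + y) 12 = idx i₀ := by
    show (4096 * idx i₀ + y) >>> 12 = _
    rw [Nat.shiftRight_eq_div_pow]; omega
  have e2 : Nat.land (4096 * idx i₀ + y) 4095 = y := by
    show (4096 * idx i₀ + y) &&& 4095 = _
    rw [Nat.and_two_pow_sub_one_eq_mod _ 12]; omega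
  rw [dec3_eq hk, e1, e2]
  funext p
  rw [vec_mk (fun j _ => lt_trans (co3_lt _ _ _) (by norm_num)), h p]
  unfold co3
  by_cases h1 : p = i₀
  · subst h1
    simp only [if_true, mem_unmask]
    split_ifs <;> norm_num
  · have h2 : idx p ≠ idx i₀ := fun e => h1 (idx_injective e)
    simp only [if_neg h1, if_neg h2, mem_unmask]
    split_ifs <;> norm_num

theorem inj3 {k k' : ℕ} (hk : k < 98304) (hk' : k' < 98304)
    (h : ∀ j < 24, co3 (Nat.shiftRight k 12) (enc (Nat.land k 4095)) j =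
      co3 (Nat.shiftRight k' 12) (enc (Nat.land k' 4095)) j) : k = k' := by
  obtain ⟨a1, a2, a3⟩ := idx3 hk
  obtain ⟨b1, b2, b3⟩ := idx3 hk'
  generalize Nat.shiftRight k 12 = i at *
  generalize Nat.shiftRight k' 12 = i' at *
  generalize Nat.land k 4095 = y at *
  generalize Nat.land k' 4095 = y' at *
  have hi : i = i' := by
    have := h i a1
    unfold co3 at this
    by_contra hne
    rw [if_pos rfl, if_neg hne] at this
    split_ifs at this <;> omega
  have hc : enc y = enc y' := by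
    apply Nat.eq_of_testBit_eq
    intro j
    by_cases hj : j < 24
    · have := h j hj
      unfold co3 at this
      rw [← hi] at this
      cases h1 : (enc y).testBit j <;> cases h2 : (enc y').testBit j
      · rfl
      · exfalso; rw [h1, h2] at this; simp only [Bool.false_eq_true, if_false, if_true] at this
        split_ifs at this <;> omega
      · exfalso; rw [h1, h2] at this; simp only [Bool.false_eq_true, if_false, if_true] at this
        split_ifs at this <;> omega
      · rfl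
    · have hj' : 24 ≤ j := not_lt.1 hj
      rw [Nat.testBit_lt_two_pow (lt_of_lt_of_le (enc_lt a2) (Nat.pow_le_pow_right (by norm_num) hj')),
        Nat.testBit_lt_two_pow (lt_of_lt_of_le (enc_lt b2) (Nat.pow_le_pow_right (by norm_num) hj'))]
  have hy : y = y' := by rw [← enc_and a2, ← enc_and b2, hc]
  rw [a3, b3, hi, hy]

end Cfsg.Agent.Lib.Helper33
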