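import Cfsg.Agent.Lib.Helper33.CoMat
import Cfsg.Agent.Lib.Helper33.Code

set_option autoImplicit false

namespace Cfsg.Agent.Lib.Helper33

open Cfsg Cfsg.Agent.Lib.Helper9

def gW0 : GolayPt → ℤ := fun p => if p = pt 0 then -3 else 1
def gChi (m : ℕ) : GolayPt → ℤ := fun p => if m.testBit (idx p) = true then 2 else 0
def gE44 (q : GolayPt) : GolayPt → ℤ := fun p => (if p = pt 0 then 4 else 0) + (if p = q then 4 else 0)
def gE8 : GolayPt → ℤ := fun p => if p = pt 0 then 8 else 0

/-- an explicit finite generating set of the lattice -/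
def leechGens : Set (GolayPt → ℤ) :=
  {x | x = gW0 ∨ x = gE8 ∨ (∃ j < 24, x = gChi (fld24 genTab j)) ∨ ∃ q, q ≠ pt 0 ∧ x = gE44 q}

theorem gW0_mem : gW0 ∈ AddSubgroup.closure leechGens :=
  AddSubgroup.subset_closure (show gW0 ∈ leechGens from Or.inl rfl)

theorem gE8_mem : gE8 ∈ AddSubgroup.closure leechGens :=
  AddSubgroup.subset_closure (show gE8 ∈ leechGens from Or.inr (Or.inl rfl))

theorem gChi_mem {j : ℕ} (hj : j < 24) : gChi (fld24 genTab j) ∈ AddSubgroup.closure leechGens :=
  AddSubgroup.subset_closure (show gChi (fld24 genTab j) ∈ leechGens from Or.inr (Or.inr (Or.inl ⟨j, hj, rfl⟩)))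

theorem gE44_mem {q : GolayPt} (hq : q ≠ pt 0) : gE44 q ∈ AddSubgroup.closure leechGens :=
  AddSubgroup.subset_closure (show gE44 q ∈ leechGens from Or.inr (Or.inr (Or.inr ⟨q, hq, rfl⟩)))

theorem four_mem (y : GolayPt → ℤ) (hy : (∑ i, y i) % 2 = 0) :
    (fun i => 4 * y i) ∈ AddSubgroup.closure leechGens := by
  have hsum : ∑ i, y i = y (pt 0) + ∑ q ∈ Finset.univ.erase (pt 0), y q :=
    (Finset.add_sum_erase _ _ (Finset.mem_univ (pt 0))).symm
  obtain ⟨k, hk⟩ : ∃ k, y (pt 0) - ∑ q ∈ Finset.univ.erase (pt 0), y q = 2 * k :=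
    ⟨(y (pt 0) - ∑ q ∈ Finset.univ.erase (pt 0), y q) / 2, by omega⟩
  have hu : ∑ q ∈ Finset.univ.erase (pt 0), y q • gE44 q ∈ AddSubgroup.closure leechGens :=
    AddSubgroup.sum_mem _ (fun q hq => AddSubgroup.zsmul_mem _ (gE44_mem (Finset.mem_erase.1 hq).1) _)
  have he : k • gE8 ∈ AddSubgroup.closure leechGens :=
    AddSubgroup.zsmul_mem _ gE8_mem _
  have e : (fun i => 4 * y i) = ∑ q ∈ Finset.univ.erase (pt 0), y q • gE44 q + k • gE8 := by
    funext i
    simp only [Pi.add_apply, Finset.sum_apply, Pi.smul_apply, smul_eq_mul, gE44, gE8]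
    by_cases hi : i = pt 0
    · subst hi
      have h1 : ∑ q ∈ Finset.univ.erase (pt 0), y q * ((if pt 0 = pt 0 then 4 else 0) + if pt 0 = q then 4 else 0) =
          ∑ q ∈ Finset.univ.erase (pt 0), 4 * y q := by
        apply Finset.sum_congr rfl
        intro q hq
        rw [if_pos rfl, if_neg (fun h => (Finset.mem_erase.1 hq).1 h.symm)]
        ring
      rw [h1, ← Finset.mul_sum, if_pos rfl]
      linarith
    · have h1 : ∑ q ∈ Finset.univ.erase (pt 0), y q * ((if i = pt 0 then 4 else 0) + if i = q then 4 else 0) =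
          ∑ q ∈ Finset.univ.erase (pt 0), if i = q then 4 * y i else 0 := by
        apply Finset.sum_congr rfl
        intro q _
        rw [if_neg hi]
        by_cases hq : i = q
        · rw [if_pos hq, if_pos hq, hq]; ring
        · rw [if_neg hq, if_neg hq]; ring
      rw [h1, Finset.sum_ite_eq, if_pos (Finset.mem_erase.2 ⟨hi, Finset.mem_univ i⟩), if_neg hi]
      ring
  rw [e]
  exact AddSubgroup.add_mem _ hu he

theorem gen_sum_mod : ∀ j < 24,
    (∑ p : GolayPt, if (fld24 genTab j).testBit (idx p) = true then (1 : ℤ) else 0) % 4 = 0 := by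
  decide +kernel

theorem code_lift : ∀ w ∈ golayCode, ∃ t : GolayPt → ℤ, red2 t = w ∧
    (fun i => 2 * t i) ∈ AddSubgroup.closure leechGens ∧ (∑ i, t i) % 4 = 0 := by
  intro w hw
  induction hw using Submodule.span_induction with
  | mem w hw =>
    have hj : ∃ j < 24, w = wordOf (fld24 genTab j) := by
      rcases hw with ⟨t, rfl⟩ | hw
      · exact ⟨t.val, lt_trans (ZMod.val_lt t) (by norm_num), qrWord_eq t⟩
      · exact ⟨23, by norm_num, by rw [Set.mem_singleton_iff.1 hw]; exact one_eq⟩
    obtain ⟨j, hj, rfl⟩ := hj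
    refine ⟨fun p => if (fld24 genTab j).testBit (idx p) = true then 1 else 0, ?_, ?_, gen_sum_mod j hj⟩
    · funext p
      simp only [red2, wordOf]
      split_ifs <;> simp
    · have : (fun i => 2 * (if (fld24 genTab j).testBit (idx i) = true then (1 : ℤ) else 0)) =
          gChi (fld24 genTab j) := by
        funext p
        simp only [gChi]
        split_ifs <;> simp
      rw [this]
      exact gChi_mem hj
  | zero => exact ⟨0, red2_zero, by
      have : (fun i => 2 * (0 : GolayPt → ℤ) i) = 0 := by funext i; simp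
      rw [this]; exact AddSubgroup.zero_mem _, by simp⟩
  | add u v _ _ hu hv =>
    obtain ⟨a, ha, ha', ha''⟩ := hu
    obtain ⟨b, hb, hb', hb''⟩ := hv
    refine ⟨a + b, by rw [red2_add, ha, hb], ?_, ?_⟩
    · have : (fun i => 2 * (a + b) i) = (fun i => 2 * a i) + (fun i => 2 * b i) := by
        funext i; simp only [Pi.add_apply]; ring
      rw [this]; exact AddSubgroup.add_mem _ ha' hb'
    · simp only [Pi.add_apply, Finset.sum_add_distrib]
      omega
  | smul c u _ hu =>
    obtain ⟨a, ha, ha', ha''⟩ := hu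
    have hc : c = 0 ∨ c = 1 := by revert c; decide
    rcases hc with rfl | rfl
    · exact ⟨0, by rw [red2_zero, zero_smul], by
        have : (fun i => 2 * (0 : GolayPt → ℤ) i) = 0 := by funext i; simp
        rw [this]; exact AddSubgroup.zero_mem _, by simp⟩
    · exact ⟨a, by rw [ha, one_smul], ha', ha''⟩

theorem leech_le_closure : leechLattice ≤ AddSubgroup.closure leechGens := by
  intro x hx
  rw [mem_leechLattice_iff_mem_leechSet, mem_leechSet_iff'] at hx
  obtain ⟨e, z, _, h1, h2, h3⟩ := hx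
  obtain ⟨t, ht, ht', ht''⟩ := code_lift _ h3
  -- z' = z + 2 e δ
  have hpar : ∀ i, (z i - t i) % 2 = 0 := by
    intro i
    have h4 : red2 t i = red2 z i := by rw [ht]
    have h5 := red2_ne_zero_iff z i
    have h6 := red2_ne_zero_iff t i
    rw [h4] at h6
    by_cases h7 : red2 z i = 0
    · have a1 : ¬ z i % 2 = 1 := fun h => (h5.2 h) h7
      have a2 : ¬ t i % 2 = 1 := fun h => (h6.2 h) h7
      omega
    · have a1 := h5.1 h7
      have a2 := h6.1 h7
      omega
  set y : GolayPt → ℤ := fun i => (z i - t i) / 2 + (if i = pt 0 then e else 0) with hy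
  have hsy : 2 * ∑ i, y i = ∑ i, z i - ∑ i, t i + 2 * e := by
    rw [hy, Finset.sum_add_distrib, Finset.sum_ite_eq' Finset.univ (pt 0) (fun _ => e),
      if_pos (Finset.mem_univ _), mul_add, Finset.mul_sum, ← Finset.sum_sub_distrib]
    congr 1
    apply Finset.sum_congr rfl
    intro i _
    have := hpar i
    omega
  have hy2 : (∑ i, y i) % 2 = 0 := by omega
  have h4 := four_mem y hy2
  have hw : e • gW0 ∈ AddSubgroup.closure leechGens :=
    AddSubgroup.zsmul_mem _ gW0_mem _
  have hx : x = e • gW0 + (fun i => 2 * t i) + (fun i => 4 * y i) := by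
    funext i
    simp only [Pi.add_apply, Pi.smul_apply, smul_eq_mul, gW0, hy]
    rw [h1 i]
    have := hpar i
    by_cases hi : i = pt 0
    · rw [if_pos hi, if_pos hi]; omega
    · rw [if_neg hi, if_neg hi]; omega
  rw [hx]
  exact AddSubgroup.add_mem _ (AddSubgroup.add_mem _ hw ht') h4

end Cfsg.Agent.Lib.Helper33
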