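import Cfsg.Agent.Lib.Helper33.LeechDec2

set_option autoImplicit false

namespace Cfsg.Agent.Lib.Helper33

open Cfsg

/-- the packed minimal vector with index `k < 197760` -/
noncomputable def decV (k : ℕ) : ℕ :=
  Bool.rec (Bool.rec (dec1 (Nat.sub k 195456)) (dec2 (Nat.sub k 98304)) (Nat.blt k 195456)) (dec3 k)
    (Nat.blt k 98304)

/-- validity of an index -/
def valV (k : ℕ) : Bool := Nat.blt k 195456 || val1 (Nat.sub k 195456)

theorem decV_3 {k : ℕ} (h : k < 98304) : decV k = dec3 k := by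
  rw [decV, blt_iff.2 h]

theorem blt_false {a b : ℕ} (h : ¬ a < b) : Nat.blt a b = false := by
  cases hb : Nat.blt a b
  · rfl
  · exact absurd (blt_iff.1 hb) h

theorem decV_2 {k : ℕ} (h : k < 97152) : decV (98304 + k) = dec2 k := by
  have e : Nat.sub (98304 + k) 98304 = k := Nat.add_sub_cancel_left 98304 k
  have b1 : Nat.blt (98304 + k) 98304 = false := blt_false (by omega)
  have b2 : Nat.blt (98304 + k) 195456 = true := blt_iff.2 (by omega)
  rw [decV, b1, b2, e]

theorem decV_1 (k : ℕ) : decV (195456 + k) = dec1 k := by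
  have e : Nat.sub (195456 + k) 195456 = k := Nat.add_sub_cancel_left 195456 k
  have b1 : Nat.blt (195456 + k) 98304 = false := blt_false (by omega)
  have b2 : Nat.blt (195456 + k) 195456 = false := blt_false (by omega)
  rw [decV, b1, b2, e]

theorem valV_1 (k : ℕ) : valV (195456 + k) = val1 k := by
  have e : Nat.sub (195456 + k) 195456 = k := Nat.add_sub_cancel_left 195456 k
  have b2 : Nat.blt (195456 + k) 195456 = false := blt_false (by omega)
  rw [valV, b2, e]; rfl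

/-- a packed vector with small digits -/
def Small (a : ℕ) : Prop := a < 65536 ^ 24 ∧ ∀ j < 24, dg a j < 32

theorem small_mk {f : ℕ → ℕ} (h : ∀ j < 24, f j < 32) : Small (mk f 24) := by
  have h' : ∀ j < 24, f j < 65536 := fun j hj => lt_trans (h j hj) (by norm_num)
  exact ⟨mk_lt h', fun j hj => by rw [dg_mk h' hj]; exact h j hj⟩

/-- the three kinds of indices -/
theorem index_cases {k : ℕ} (hk : k < 197760) (hv : valV k = true) :
    (k < 98304) ∨ (∃ k', k' < 97152 ∧ k = 98304 + k') ∨ (∃ k', k' < 2304 ∧ val1 k' = true ∧ k = 195456 + k') := by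
  by_cases h1 : k < 98304
  · exact Or.inl h1
  by_cases h2 : k < 195456
  · exact Or.inr (Or.inl ⟨k - 98304, by omega, by omega⟩)
  · refine Or.inr (Or.inr ⟨k - 195456, by omega, ?_, by omega⟩)
    have e : k = 195456 + (k - 195456) := by omega
    rw [e, valV_1] at hv
    exact hv

theorem decV_small {k : ℕ} (hk : k < 197760) (hv : valV k = true) : Small (decV k) := by
  rcases index_cases hk hv with h | ⟨k', h, rfl⟩ | ⟨k', _, hv', rfl⟩
  · rw [decV_3 h, dec3_eq h]; exact small_mk (fun j _ => co3_lt _ _ _)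
  · rw [decV_2 h, dec2_eq h]; exact small_mk (fun j hj => co2_lt (idx2 h).1 hj _)
  · rw [decV_1, dec1_eq hv']; exact small_mk (fun j _ => co1_lt _ _ _ _)

theorem cover_min {x : GolayPt → ℤ} (hx : x ∈ leechLattice) (hn : sqNorm x = 32) :
    ∃ k < 197760, valV k = true ∧ x = vec (decV k) := by
  rcases min_class hx hn with ⟨i₀, c, hc, h⟩ | ⟨O, hO, h2, h0, hs⟩ | ⟨i, j, hij, hi, hj, h0⟩
  · obtain ⟨k, hk, e⟩ := cover3 i₀ c hc h
    exact ⟨k, by omega, by rw [valV, blt_iff.2 (by omega : k < 195456)]; rfl, by rw [decV_3 hk]; exact e⟩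
  · obtain ⟨k, hk, e⟩ := cover2 O hO h2 h0 hs
    exact ⟨98304 + k, by omega, by rw [valV, blt_iff.2 (by omega : 98304 + k < 195456)]; rfl,
      by rw [decV_2 hk]; exact e⟩
  · obtain ⟨k, hk, hv, e⟩ := cover1 i j hij hi hj h0
    exact ⟨195456 + k, by omega, by rw [valV_1]; exact hv, by rw [decV_1]; exact e⟩

theorem mk_inj32 {f g : ℕ → ℕ} (hf : ∀ j < 24, f j < 32) (hg : ∀ j < 24, g j < 32)
    (h : mk f 24 = mk g 24) : ∀ j < 24, f j = g j :=
  mk_inj (fun j hj => lt_trans (hf j hj) (by norm_num)) (fun j hj => lt_trans (hg j hj) (by norm_num)) h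

theorem co3_odd (i₀ c j : ℕ) : co3 i₀ c j % 2 = 1 := by
  unfold co3; split_ifs <;> rfl

theorem co2_even {o j : ℕ} (ho : o < 759) (hj : j < 24) (s' : ℕ) :
    co2 o s' j = 6 ∨ co2 o s' j = 8 ∨ co2 o s' j = 10 := by
  rcases co2_val ho hj s' with ⟨_, h⟩ | ⟨t, _, _, _, h⟩
  · omega
  · have := bitN_le s' t; omega

theorem co1_even (s i j q : ℕ) : co1 s i j q % 2 = 0 := by
  unfold co1
  split_ifs <;> omega

theorem decV_inj {k k' : ℕ} (hk : k < 197760) (hv : valV k = true) (hk' : k' < 197760) (hv' : valV k' = true)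
    (h : decV k = decV k') : k = k' := by
  rcases index_cases hk hv with h1 | ⟨a, h1, rfl⟩ | ⟨a, h1, hv1, rfl⟩ <;>
    rcases index_cases hk' hv' with h2 | ⟨b, h2, rfl⟩ | ⟨b, h2, hv2, rfl⟩
  · rw [decV_3 h1, decV_3 h2, dec3_eq h1, dec3_eq h2] at h
    exact inj3 h1 h2 (mk_inj32 (fun j _ => co3_lt _ _ _) (fun j _ => co3_lt _ _ _) h)
  · exfalso
    rw [decV_3 h1, decV_2 h2, dec3_eq h1, dec2_eq h2] at h
    have := mk_inj32 (fun j _ => co3_lt _ _ _) (fun j hj => co2_lt (idx2 h2).1 hj _) h 0 (by norm_num)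
    have a1 := co3_odd (Nat.shiftRight k 12) (enc (Nat.land k 4095)) 0
    have a2 := co2_even (idx2 h2).1 (by norm_num : 0 < 24) (s8 (Nat.land b 127))
    omega
  · exfalso
    rw [decV_3 h1, decV_1, dec3_eq h1, dec1_eq hv2] at h
    have := mk_inj32 (fun j _ => co3_lt _ _ _) (fun j _ => co1_lt _ _ _ _) h 0 (by norm_num)
    have a1 := co3_odd (Nat.shiftRight k 12) (enc (Nat.land k 4095)) 0
    have a2 := co1_even (Nat.div b 576) (Nat.mod (Nat.div b 24) 24) (Nat.mod b 24) 0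
    omega
  · exfalso
    rw [decV_2 h1, decV_3 h2, dec2_eq h1, dec3_eq h2] at h
    have := mk_inj32 (fun j hj => co2_lt (idx2 h1).1 hj _) (fun j _ => co3_lt _ _ _) h 0 (by norm_num)
    have a1 := co3_odd (Nat.shiftRight k' 12) (enc (Nat.land k' 4095)) 0
    have a2 := co2_even (idx2 h1).1 (by norm_num : 0 < 24) (s8 (Nat.land a 127))
    omega
  · rw [decV_2 h1, decV_2 h2, dec2_eq h1, dec2_eq h2] at h
    rw [inj2 h1 h2 (mk_inj32 (fun j hj => co2_lt (idx2 h1).1 hj _) (fun j hj => co2_lt (idx2 h2).1 hj _) h)]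
  · exfalso
    rw [decV_2 h1, decV_1, dec2_eq h1, dec1_eq hv2] at h
    have hi : Nat.mod (Nat.div b 24) 24 < 24 := Nat.mod_lt _ (by norm_num)
    have := mk_inj32 (fun j hj => co2_lt (idx2 h1).1 hj _) (fun j _ => co1_lt _ _ _ _) h _ hi
    have a2 := co2_even (idx2 h1).1 hi (s8 (Nat.land a 127))
    rw [co1, if_pos rfl] at this
    have := bitN_le (Nat.div b 576) 0
    omega
  · exfalso
    rw [decV_1, decV_3 h2, dec1_eq hv1, dec3_eq h2] at h
    have := mk_inj32 (fun j _ => co1_lt _ _ _ _) (fun j _ => co3_lt _ _ _) h 0 (by norm_num)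
    have a1 := co3_odd (Nat.shiftRight k' 12) (enc (Nat.land k' 4095)) 0
    have a2 := co1_even (Nat.div a 576) (Nat.mod (Nat.div a 24) 24) (Nat.mod a 24) 0
    omega
  · exfalso
    rw [decV_1, decV_2 h2, dec1_eq hv1, dec2_eq h2] at h
    have hi : Nat.mod (Nat.div a 24) 24 < 24 := Nat.mod_lt _ (by norm_num)
    have := mk_inj32 (fun j _ => co1_lt _ _ _ _) (fun j hj => co2_lt (idx2 h2).1 hj _) h _ hi
    have a2 := co2_even (idx2 h2).1 hi (s8 (Nat.land b 127))
    rw [co1, if_pos rfl] at this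
    have := bitN_le (Nat.div a 576) 0
    omega
  · rw [decV_1, decV_1, dec1_eq hv1, dec1_eq hv2] at h
    rw [inj1 h1 h2 hv1 hv2 (mk_inj32 (fun j _ => co1_lt _ _ _ _) (fun j _ => co1_lt _ _ _ _) h)]

end Cfsg.Agent.Lib.Helper33
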