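import Cfsg.Agent.Lib.Helper33.MatVec
import Cfsg.Agent.Lib.Helper33.LeechGen

set_option autoImplicit false

namespace Cfsg.Agent.Lib.Helper33

open Cfsg Cfsg.Agent.Lib.Helper9 Matrix

/-- the integer vector coded by a packed number (digits in base 65536, offset 8) -/
def vec (a : ℕ) : GolayPt → ℤ := fun p => (dg a (idx p) : ℤ) - 8

/-- the integer matrix (8 times an orthogonal matrix) coded by a packed matrix -/
def matOf (M : ℕ) : Matrix GolayPt GolayPt ℤ := fun p q => (ment M (idx p) (idx q) : ℤ) - 8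

theorem sum_idx {β : Type*} [AddCommMonoid β] (f : ℕ → β) :
    ∑ p : GolayPt, f (idx p) = ∑ j ∈ Finset.range 24, f j := by
  rw [Fintype.sum_option, Finset.sum_range_succ, add_comm]
  have h2 : ∑ x : ZMod 23, f (idx (some x)) = ∑ x : Fin 23, f x.val := rfl
  rw [h2, Fin.sum_univ_eq_sum_range]
  rfl

def vK : ℕ := 0x1f001f001f001f001f001f001f001f001f001f001f001f001f001f001f001f001f001f001f001f001f001f001f001f

/-- all digits of `a` are below 32 and `a` has at most 24 digits -/
def vecOK (a : ℕ) : Bool := Nat.beq (Nat.land a vK) a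

theorem vK_dg : ∀ j < 24, dg vK j = 31 := by decide +kernel

theorem vecOK_spec {a : ℕ} (h : vecOK a = true) : a < 65536 ^ 24 ∧ ∀ j < 24, dg a j < 32 := by
  have h1 : a &&& vK = a := Nat.eq_of_beq_eq_true h
  refine ⟨?_, ?_⟩
  · have : a ≤ vK := by rw [← h1]; exact Nat.and_le_right
    exact lt_of_le_of_lt this (by norm_num [vK])
  · intro j hj
    have h2 : dg a j = dg a j &&& dg vK j := by
      conv_lhs => rw [← h1]
      show ((a &&& vK) >>> (16 * j)) &&& 0xFFFF = ((a >>> (16 * j)) &&& 0xFFFF) &&& ((vK >>> (16 * j)) &&& 0xFFFF)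
      rw [Nat.shiftRight_and_distrib]
      apply Nat.eq_of_testBit_eq
      intro i
      simp only [Nat.testBit_and]
      cases (a >>> (16 * j)).testBit i <;> cases (vK >>> (16 * j)).testBit i <;>
        cases (0xFFFF : ℕ).testBit i <;> rfl
    rw [h2, vK_dg j hj]
    exact lt_of_le_of_lt Nat.and_le_right (by norm_num)

theorem vec_mk {f : ℕ → ℕ} (hf : ∀ j < 24, f j < 65536) (p : GolayPt) : vec (mk f 24) p = (f (idx p) : ℤ) - 8 := by
  rw [vec, dg_mk hf (idx_lt p)]

theorem mv_vec {M a b : ℕ} (hM : matOK M = true) (ha : vecOK a = true) (hb : vecOK b = true)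
    (h : mvOK M a b = true) : matOf M *ᵥ vec a = (8 : ℤ) • vec b := by
  obtain ⟨ha1, ha2⟩ := vecOK_spec ha
  obtain ⟨hb1, hb2⟩ := vecOK_spec hb
  rw [← mk_dg ha1, ← mk_dg hb1] at h
  have key := mvOK_spec hM ha2 hb2 h
  funext p
  show ∑ q : GolayPt, ((ment M (idx p) (idx q) : ℤ) - 8) * ((dg a (idx q) : ℤ) - 8) = 8 * ((dg b (idx p) : ℤ) - 8)
  rw [sum_idx (fun j => ((ment M (idx p) j : ℤ) - 8) * ((dg a j : ℤ) - 8))]
  exact key (idx p) (idx_lt p)

theorem vec_inj {a b : ℕ} (ha : a < 65536 ^ 24) (hb : b < 65536 ^ 24) (h : vec a = vec b) : a = b := by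
  rw [← mk_dg ha, ← mk_dg hb]
  apply mk_congr
  intro i hi
  have := congrFun h (pt i)
  simp only [vec, idx_pt hi] at this
  omega

/-- the mask of the positions where `(x - m) / 2` is odd -/
noncomputable def cwOf (b : ℕ) : ℕ :=
  sumBelow (fun j => Nat.shiftLeft (Nat.land (Nat.shiftRight (dg b j) 1) 1) j) 24

/-- membership test for the lattice -/
noncomputable def inLeech (b : ℕ) : Bool :=
  isCode (cwOf b) &&
  (allBelow (fun j => Nat.beq (Nat.land (Nat.shiftRight (cwOf b) j) 1) (Nat.land (Nat.shiftRight (dg b j) 1) 1) &&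
    Nat.beq (Nat.land (dg b j) 1) (Nat.land (dg b 0) 1)) 24 &&
  Nat.beq (Nat.mod (sumBelow (fun j => dg b j) 24) 8) (Nat.mul 4 (Nat.land (dg b 0) 1)))

theorem inLeech_spec {b : ℕ} (h : inLeech b = true) : vec b ∈ leechLattice := by
  simp only [inLeech, Bool.and_eq_true] at h
  obtain ⟨h1, h2, h3⟩ := h
  rw [allBelow_iff] at h2
  have h3' : (∑ j ∈ Finset.range 24, dg b j) % 8 = 4 * (dg b 0 &&& 1) := by
    rw [← sumBelow_eq]; exact Nat.eq_of_beq_eq_true h3
  have hbit : ∀ j < 24, ((cwOf b) >>> j) &&& 1 = ((dg b j) >>> 1) &&& 1 := by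
    intro j hj
    have := h2 j hj
    rw [Bool.and_eq_true] at this
    exact Nat.eq_of_beq_eq_true this.1
  have hpar : ∀ j < 24, (dg b j) &&& 1 = (dg b 0) &&& 1 := by
    intro j hj
    have := h2 j hj
    rw [Bool.and_eq_true] at this
    exact Nat.eq_of_beq_eq_true this.2
  rw [mem_leechLattice_iff_mem_leechSet, mem_leechSet_iff]
  refine ⟨((dg b 0 &&& 1 : ℕ) : ℤ), fun p => ((dg b (idx p) / 2 : ℕ) : ℤ) - 4, ?_, ?_, ?_⟩
  · intro p
    have := hpar (idx p) (idx_lt p)
    rw [Nat.and_one_is_mod] at this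
    rw [← this]
    show (dg b (idx p) : ℤ) - 8 = _
    push_cast
    omega
  · have e : ∑ p : GolayPt, vec b p = ((∑ j ∈ Finset.range 24, dg b j : ℕ) : ℤ) - 192 := by
      unfold vec
      rw [sum_idx (fun j => (dg b j : ℤ) - 8), Finset.sum_sub_distrib]
      push_cast
      simp
    rw [e]
    unfold Int.ModEq
    have : (((∑ j ∈ Finset.range 24, dg b j : ℕ) : ℤ)) % 8 = 4 * ((dg b 0 &&& 1 : ℕ) : ℤ) := by
      exact_mod_cast h3'
    have h01 : (dg b 0 &&& 1) ≤ 1 := Nat.and_le_right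
    omega
  · have e : (red2 fun p => ((dg b (idx p) / 2 : ℕ) : ℤ) - 4) = wordOf (cwOf b) := by
      funext p
      have hb := hbit (idx p) (idx_lt p)
      rw [Nat.and_one_is_mod, Nat.and_one_is_mod, Nat.shiftRight_eq_div_pow, Nat.shiftRight_eq_div_pow,
        pow_one] at hb
      have ht : (cwOf b).testBit (idx p) = decide ((cwOf b) / 2 ^ (idx p) % 2 = 1) := Nat.testBit_eq_decide_div_mod_eq
      simp only [wordOf, ht, decide_eq_true_eq, hb]
      by_cases h5 : dg b (idx p) / 2 % 2 = 1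
      · rw [if_pos h5]
        have : red2 (fun p => ((dg b (idx p) / 2 : ℕ) : ℤ) - 4) p ≠ 0 := by
          rw [red2_ne_zero_iff]
          show (((dg b (idx p) / 2 : ℕ) : ℤ) - 4) % 2 = 1
          omega
        generalize red2 (fun p => ((dg b (idx p) / 2 : ℕ) : ℤ) - 4) p = u at this
        revert u; decide
      · rw [if_neg h5]
        by_contra h6
        have h6' := (red2_ne_zero_iff _ _).1 h6
        apply h5
        have h7 : (((dg b (idx p) / 2 : ℕ) : ℤ) - 4) % 2 = 1 := h6'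
        omega
    rw [e]
    have h4 : enc (cwOf b &&& 0xFFF) = cwOf b := Nat.eq_of_beq_eq_true h1
    rw [← h4]
    exact enc_mem (lt_of_le_of_lt Nat.and_le_right (by norm_num))

end Cfsg.Agent.Lib.Helper33
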