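import Cfsg.Agent.Lib.Helper33.Pack

set_option autoImplicit false

namespace Cfsg.Agent.Lib.Helper33

/-- column `j` of a packed matrix: 25 digits (24 entries with offset 8, and a digit `1`);
column `24` is the sum of the other columns -/
def mcol (M j : ℕ) : ℕ := Nat.land (Nat.shiftRight M (Nat.mul 400 j)) 0xffffffffffffffffffffffffffffffffffffffffffffffffffffffffffffffffffffffffffffffffffffffffffffffffffff

theorem mcol_lt (M j : ℕ) : mcol M j < 65536 ^ 25 := by
  have : mcol M j ≤ 0xffffffffffffffffffffffffffffffffffffffffffffffffffffffffffffffffffffffffffffffffffffffffffffffffffff := Nat.and_le_right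
  exact lt_of_le_of_lt this (by norm_num)

/-- entry `(i, j)` with offset 8 -/
def ment (M i j : ℕ) : ℕ := dg (mcol M j) i

theorem mcol_eq (M j : ℕ) : mcol M j = mk (fun i => ment M i j) 25 := (mk_dg (mcol_lt M j)).symm

noncomputable def mvS (M a : ℕ) : ℕ := sumBelow (fun j => Nat.mul (dg a j) (mcol M j)) 24

def mvC1 : ℕ := 0xc0064006400640064006400640064006400640064006400640064006400640064006400640064006400640064006400640
def mvC2 : ℕ := 0x1000800080008000800080008000800080008000800080008000800080008000800080008000800080008000800080008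

theorem mvC1_eq : mvC1 = mk (fun i => if i < 24 then 1600 else 192) 25 := by
  norm_num [mk, Finset.sum_range_succ, mvC1]

theorem mvC2_eq : mvC2 = mk (fun i => if i < 24 then 8 else 1) 25 := by
  norm_num [mk, Finset.sum_range_succ, mvC2]

/-- test that the matrix `M` (entries scaled by 8) maps the packed vector `a` to the packed vector `b` -/
noncomputable def mvOK (M a b : ℕ) : Bool :=
  Nat.beq (Nat.add (mvS M a) mvC1)
    (Nat.add (Nat.mul 8 (Nat.add b (mcol M 24))) (Nat.mul (Nat.shiftRight (mvS M a) 384) mvC2))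

/-- well-formedness of a packed matrix -/
noncomputable def matOK (M : ℕ) : Bool :=
  allBelow (fun j => Nat.beq (ment M 24 j) 1 && allBelow (fun i => Nat.blt (ment M i j) 17) 24) 24 &&
  Nat.beq (mcol M 24) (sumBelow (fun j => mcol M j) 24)

theorem matOK_spec {M : ℕ} (h : matOK M = true) :
    (∀ j < 24, ment M 24 j = 1) ∧ (∀ j < 24, ∀ i < 24, ment M i j < 17) ∧
    mcol M 24 = ∑ j ∈ Finset.range 24, mcol M j := by
  rw [matOK, Bool.and_eq_true, allBelow_iff] at h
  refine ⟨?_, ?_, ?_⟩
  · intro j hj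
    have := h.1 j hj
    rw [Bool.and_eq_true] at this
    exact Nat.eq_of_beq_eq_true this.1
  · intro j hj i hi
    have := h.1 j hj
    rw [Bool.and_eq_true, allBelow_iff] at this
    exact blt_iff.1 (this.2 i hi)
  · rw [← sumBelow_eq]
    exact Nat.eq_of_beq_eq_true h.2

theorem mk_ext24 (g : ℕ → ℕ) : mk g 24 = mk (fun i => if i < 24 then g i else 0) 25 := by
  rw [mk_succ (fun i => if i < 24 then g i else 0) 24]
  have : (if (24 : ℕ) < 24 then g 24 else 0) = 0 := by simp
  show _ = _ + (if (24 : ℕ) < 24 then g 24 else 0) * _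
  rw [this, zero_mul, add_zero]
  exact mk_congr (fun i hi => by simp [hi])

theorem mvOK_spec {M : ℕ} (hM : matOK M = true) {f g : ℕ → ℕ} (hf : ∀ j < 24, f j < 32)
    (hg : ∀ i < 24, g i < 32) (h : mvOK M (mk f 24) (mk g 24) = true) :
    ∀ i < 24, ∑ j ∈ Finset.range 24, ((ment M i j : ℤ) - 8) * ((f j : ℤ) - 8) = 8 * ((g i : ℤ) - 8) := by
  obtain ⟨h1, h2, h3⟩ := matOK_spec hM
  have hf' : ∀ j < 24, f j < 65536 := fun j hj => lt_trans (hf j hj) (by norm_num)
  -- the sum
  have hS : mvS M (mk f 24) = mk (fun i => ∑ j ∈ Finset.range 24, f j * ment M i j) 25 := by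
    rw [mvS, sumBelow_eq, ← sum_mk]
    apply Finset.sum_congr rfl
    intro j hj
    rw [Finset.mem_range] at hj
    show dg (mk f 24) j * mcol M j = _
    rw [dg_mk hf' hj, mcol_eq, mul_mk]
  have hFb : ∀ i < 24, ∑ j ∈ Finset.range 24, f j * ment M i j ≤ 24 * (31 * 16) := by
    intro i hi
    calc ∑ j ∈ Finset.range 24, f j * ment M i j ≤ ∑ j ∈ Finset.range 24, 31 * 16 := by
          apply Finset.sum_le_sum
          intro j hj
          rw [Finset.mem_range] at hj
          exact Nat.mul_le_mul (Nat.le_of_lt_succ (hf j hj)) (Nat.le_of_lt_succ (h2 j hj i hi))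
      _ = 24 * (31 * 16) := by simp
  have hA : ∑ j ∈ Finset.range 24, f j * ment M 24 j = ∑ j ∈ Finset.range 24, f j := by
    apply Finset.sum_congr rfl
    intro j hj
    rw [h1 j (Finset.mem_range.1 hj), mul_one]
  have hAb : ∑ j ∈ Finset.range 24, f j ≤ 24 * 31 := by
    calc ∑ j ∈ Finset.range 24, f j ≤ ∑ j ∈ Finset.range 24, 31 := by
          apply Finset.sum_le_sum
          intro j hj
          exact Nat.le_of_lt_succ (hf j (Finset.mem_range.1 hj))
      _ = 24 * 31 := by simp
  have hCb : ∀ i < 24, ∑ j ∈ Finset.range 24, ment M i j ≤ 24 * 16 := by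
    intro i hi
    calc ∑ j ∈ Finset.range 24, ment M i j ≤ ∑ j ∈ Finset.range 24, 16 := by
          apply Finset.sum_le_sum
          intro j hj
          exact Nat.le_of_lt_succ (h2 j (Finset.mem_range.1 hj) i hi)
      _ = 24 * 16 := by simp
  have hC24 : ∑ j ∈ Finset.range 24, ment M 24 j = 24 := by
    rw [Finset.sum_congr rfl (fun j hj => h1 j (Finset.mem_range.1 hj))]
    simp
  have hsh : Nat.shiftRight (mvS M (mk f 24)) 384 = ∑ j ∈ Finset.range 24, f j := by
    show (mvS M (mk f 24)) >>> 384 = _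
    rw [Nat.shiftRight_eq_div_pow, show (2 : ℕ) ^ 384 = 65536 ^ 24 by rw [show (65536 : ℕ) = 2 ^ 16 by norm_num, ← pow_mul], hS,
      mk_div (fun i hi => lt_of_le_of_lt (hFb i hi) (by norm_num)), hA]
  have hcs : mcol M 24 = mk (fun i => ∑ j ∈ Finset.range 24, ment M i j) 25 := by
    rw [h3, ← sum_mk]
    exact Finset.sum_congr rfl (fun j _ => mcol_eq M j)
  have key := Nat.eq_of_beq_eq_true h
  rw [hsh] at key
  have key' : mvS M (mk f 24) + mvC1 = 8 * (mk g 24 + mcol M 24) + (∑ j ∈ Finset.range 24, f j) * mvC2 := key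
  rw [hS, mvC1_eq, mvC2_eq, hcs, mk_ext24 g, mk_add, mk_add, mul_mk, mul_mk, mk_add] at key'
  intro i hi
  have hi' : i < 25 := by omega
  have e := mk_inj ?_ ?_ key' i hi'
  · simp only [hi, if_true] at e
    have e' : ((∑ j ∈ Finset.range 24, f j * ment M i j : ℕ) : ℤ) + 1600 =
        8 * ((g i : ℤ) + ((∑ j ∈ Finset.range 24, ment M i j : ℕ) : ℤ)) +
          ((∑ j ∈ Finset.range 24, f j : ℕ) : ℤ) * 8 := by exact_mod_cast e
    have e2 : ∑ j ∈ Finset.range 24, ((ment M i j : ℤ) - 8) * ((f j : ℤ) - 8) =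
        ((∑ j ∈ Finset.range 24, f j * ment M i j : ℕ) : ℤ) - 8 * ((∑ j ∈ Finset.range 24, ment M i j : ℕ) : ℤ)
          - 8 * ((∑ j ∈ Finset.range 24, f j : ℕ) : ℤ) + 1536 := by
      push_cast
      rw [Finset.mul_sum, Finset.mul_sum, ← Finset.sum_sub_distrib, ← Finset.sum_sub_distrib]
      have : (1536 : ℤ) = ∑ j ∈ Finset.range 24, (64 : ℤ) := by simp
      rw [this, ← Finset.sum_add_distrib]
      apply Finset.sum_congr rfl
      intro j _
      ring
    rw [e2]
    linarith
  · intro k hk
    by_cases hk' : k < 24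
    · simp only [hk', if_true]
      have := hFb k hk'
      omega
    · have : k = 24 := by omega
      subst this
      simp only [lt_irrefl, if_false]
      rw [hA]
      omega
  · intro k hk
    by_cases hk' : k < 24
    · simp only [hk', if_true]
      have := hCb k hk'
      have := hg k hk'
      omega
    · have : k = 24 := by omega
      subst this
      simp only [lt_irrefl, if_false]
      rw [hC24]
      omega

end Cfsg.Agent.Lib.Helper33
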