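import Cfsg.Agent.Lib.Helper33.OutRig2

set_option autoImplicit false
set_option maxRecDepth 100000

/-!
From the certificates to the hypotheses of the main theorem.
-/

namespace Cfsg.Agent.Lib.Helper33

open Cfsg MulAction Cfsg.Agent.Lib.Helper9 Cfsg.Agent.Lib.Helper11 Matrix

theorem orbit_list (MEM m G R rts np : ℕ) (H : Subgroup ↥Co0)
    (hmem : allBelow (memOK decV valV 197760 0 0 0 MEM m) m = true)
    (hG : gensOK G np = true) (hH : ∀ i < 2 * np, coEl (matAt G i) ∈ H)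
    (hrt : Nat.blt (fld20 rts 0) m = true)
    (hnode : allBelow (cNode (fun t => decV (get3 MEM 20 t)) (fun _ => true) G R rts (2 * np) 1 m) m = true) :
    (∀ t < m, vec (decV (get3 MEM 20 t)) ∈ leechLattice ∧
      ∃ g ∈ H, g • lv (decV (get3 MEM 20 t)) = lv (decV (get3 MEM 20 (fld20 rts 0)))) ∧
    Set.InjOn (fun t => lv (decV (get3 MEM 20 t))) (Finset.range m : Set ℕ) := by
  classical
  rw [allBelow_iff] at hmem
  have hm : ∀ t < m, get3 MEM 20 t < 197760 ∧ valV (get3 MEM 20 t) = true ∧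
      (t + 1 < m → get3 MEM 20 t < get3 MEM 20 (t + 1)) := by
    intro t ht
    have := hmem t ht
    simp only [memOK, force_eq, Bool.and_eq_true, Bool.or_eq_true] at this
    refine ⟨blt_iff.1 this.1, this.2.1, fun h => ?_⟩
    rcases this.2.2.2 with h1 | h1
    · have := Nat.le_of_ble_eq_true h1
      have h2 : m ≤ t + 1 := this
      omega
    · exact blt_iff.1 h1
  have hF := co_forest (fun t => decV (get3 MEM 20 t)) (fun _ => true) G R rts np 1 m H
    (fun t ht _ => decV_small (hm t ht).1 (hm t ht).2.1) hG hH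
    (fun j hj => by
      have : j = 0 := by omega
      subst this
      exact decV_mem (hm _ (blt_iff.1 hrt)).1 (hm _ (blt_iff.1 hrt)).2.1) ((allBelow_iff _ _).1 hnode)
  have hinj0 := inj_of_step (fun t => get3 MEM 20 t) m (fun t ht => (hm t (by omega)).2.2 ht)
  refine ⟨?_, ?_⟩
  · intro t ht
    obtain ⟨h1, h2, g, hg, e⟩ := hF t ht rfl
    have h0 : rLab (get3 R 40 t) = 0 := by omega
    rw [h0] at e
    exact ⟨h2, g, hg, e⟩
  · intro t ht t' ht' h
    have ht1 : t < m := by simpa using ht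
    have ht2 : t' < m := by simpa using ht'
    exact hinj0 t ht1 t' ht2
      (enumL2.inj _ (hm t ht1).1 (hm t ht1).2.1 _ (hm t' ht2).1 (hm t' ht2).2.1 h)

/-- the set of the points -/
def Pts (b : ↥leechLattice) (τV τb : ℤ) : Set ↥leechLattice :=
  {z | z ∈ L2 ∧ ldot Spor.leechV z = τV ∧ ldot b z = τb}

theorem pts_cover {b : ↥leechLattice} {τV τb : ℤ} {m : ℕ} (hm : m ≠ 0) (hP : (Pts b τV τb).ncard = m)
    (nd : ℕ → ℕ) (root : ℕ) (hroot : lv (nd root) ∈ Pts b τV τb)
    (hl : ∀ t < m, ∃ g ∈ GS b, g • lv (nd t) = lv (nd root))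
    (hinj : Set.InjOn (fun t => lv (nd t)) (Finset.range m : Set ℕ)) :
    ∀ z ∈ Pts b τV τb, ∃ t < m, z = lv (nd t) := by
  classical
  set S : Finset ↥leechLattice := (Finset.range m).image (fun t => lv (nd t)) with hS
  have hc : S.card = m := by rw [hS, Finset.card_image_of_injOn hinj, Finset.card_range]
  have hsub : (S : Set ↥leechLattice) ⊆ Pts b τV τb := by
    intro z hz
    rw [Finset.mem_coe, hS, Finset.mem_image] at hz
    obtain ⟨t, ht, rfl⟩ := hz
    obtain ⟨g, hg, e⟩ := hl t (Finset.mem_range.1 ht)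
    obtain ⟨gV, gb⟩ := mem_GS.1 hg
    obtain ⟨r1, r2, r3⟩ := hroot
    rw [← e] at r1 r2 r3
    refine ⟨?_, ?_, ?_⟩
    · have := L2_smul g⁻¹ _ r1
      rwa [inv_smul_smul] at this
    · rw [← r2]
      conv_rhs => rw [← gV]
      exact (ldot_smul g _ _).symm
    · rw [← r3]
      conv_rhs => rw [← gb]
      exact (ldot_smul g _ _).symm
  have hfin : (Pts b τV τb).Finite := Set.finite_of_ncard_ne_zero (by rw [hP]; exact hm)
  have heq := Set.eq_of_subset_of_ncard_le hsub (by rw [hP, Set.ncard_coe_finset, hc]) hfin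
  intro z hz
  rw [← heq, Finset.mem_coe, hS, Finset.mem_image] at hz
  obtain ⟨t, ht, rfl⟩ := hz
  exact ⟨t, Finset.mem_range.1 ht, rfl⟩

/-- the points fixed by the element of order 5 -/
noncomputable def fixChk (nd : ℕ → ℕ) (C5 t : ℕ) : Bool :=
  force (nd t) (fun a => !(fixedBy Cfsg.Agent.Lib.Helper88.OChains.chDc a) ||
      (Nat.beq a (f384 C5 0) || (Nat.beq a (f384 C5 1) || (Nat.beq a (f384 C5 2) ||
        (Nat.beq a (f384 C5 3) || Nat.beq a (f384 C5 4))))))

theorem fix_spec {nd : ℕ → ℕ} {C5 m t : ℕ} (h : allBelow (fixChk nd C5) m = true) (ht : t < m)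
    (hL : vec (nd t) ∈ leechLattice) (h3 : iota wD • lv (nd t) = lv (nd t)) :
    ∃ j < 5, lv (nd t) = lv (f384 C5 j) := by
  have e3 := fixedBy_of hL wD h3
  rw [code_wD] at e3
  have := (allBelow_iff _ _).1 h t ht
  simp only [fixChk, force_eq, e3, Bool.not_true, Bool.false_or, Bool.or_eq_true] at this
  rcases this with h | h | h | h | h
  · exact ⟨0, by norm_num, by rw [← Nat.eq_of_beq_eq_true h]⟩
  · exact ⟨1, by norm_num, by rw [← Nat.eq_of_beq_eq_true h]⟩
  · exact ⟨2, by norm_num, by rw [← Nat.eq_of_beq_eq_true h]⟩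
  · exact ⟨3, by norm_num, by rw [← Nat.eq_of_beq_eq_true h]⟩
  · exact ⟨4, by norm_num, by rw [← Nat.eq_of_beq_eq_true h]⟩

theorem chain5 {G C5 : ℕ} {p0 : ↥leechLattice} (hG : gensOK G 4 = true) (h0 : lv (f384 C5 0) = p0)
    (hc : allBelow (fun j => cstOK (f384 C5 j)) 5 = true)
    (hs : allBelow (fun j => mvOK (matAt G 6) (f384 C5 j) (f384 C5 (Nat.succ j))) 4 = true) :
    ∀ j < 5, lv (f384 C5 j) = coEl (matAt G 6) ^ j • p0 := by
  rw [allBelow_iff] at hc hs
  intro j
  induction j with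
  | zero => intro _; rw [pow_zero, one_smul, h0]
  | succ j ih =>
    intro hj
    rw [pow_succ', mul_smul, ← ih (by omega)]
    exact (move_of_mvOK hG (k := 6) (by norm_num) (hc j (by omega)) (hc (j + 1) hj) (hs j (by omega))).symm

theorem rel_of_all {G : ℕ} (hG : gensOK G 4 = true) {rels : List (List ℕ)}
    (h : rels.all (fun R => let4 R && relChk G R) = true) (r : ℕ) :
    ev (fun l => coEl (matAt G l)) (rels.getD r []) = 1 ∧ ∀ l ∈ rels.getD r [], l < 8 := by
  by_cases hr : r < rels.length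
  · have hmem : rels.getD r [] ∈ rels := by
      rw [List.getD_eq_getElem _ _ hr]
      exact List.getElem_mem hr
    have := (List.all_eq_true.1 h) _ hmem
    rw [Bool.and_eq_true] at this
    have hl : ∀ l ∈ rels.getD r [], l < 8 := by
      intro l hl
      have := let4_spec this.1 l hl
      omega
    exact ⟨rel_of_chk hG hl this.2, hl⟩
  · rw [List.getD_eq_default _ _ (by omega)]
    exact ⟨rfl, by simp⟩

theorem pow5_of_chk {G : ℕ} (hG : gensOK G 4 = true) (h : relChk G [6, 6, 6, 6, 6] = true) :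
    coEl (matAt G 6) ^ 5 = 1 := by
  have := rel_of_chk hG (R := [6, 6, 6, 6, 6]) (by intro l hl; simp at hl; omega) h
  simp only [ev, mul_one] at this
  rw [← this]
  simp only [pow_succ', pow_zero, mul_one]

theorem fixVb_of {G pb : ℕ} (hG : gensOK G 4 = true) (hpb : cstOK pb = true)
    (h : allBelow (fun k => mvOK (matAt G k) pV pV && mvOK (matAt G k) pb pb) 8 = true) :
    ∀ l < 8, coEl (matAt G l) ∈ GS (lv pb) := by
  rw [allBelow_iff] at h
  intro l hl
  have := h l hl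
  rw [Bool.and_eq_true] at this
  rw [mem_GS]
  refine ⟨?_, move_of_mvOK hG (by omega) hpb hpb this.2⟩
  have h2 := move_of_mvOK hG (k := l) (by omega) pV_ok pV_ok this.1
  rwa [lv_pV] at h2

/-- conjugation by an element permuting the fixed vectors -/
theorem conj_mem_GS {b : ↥leechLattice} {n : ↥Co0} (c1 c2 : ↥leechLattice) (h1 : n • c1 = Spor.leechV)
    (h2 : n • c2 = b) (hc1 : ∀ g ∈ GS b, g • c1 = c1) (hc2 : ∀ g ∈ GS b, g • c2 = c2) :
    ∀ g ∈ GS b, n * g * n⁻¹ ∈ GS b := by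
  intro g hg
  rw [mem_GS]
  constructor
  · rw [mul_smul, mul_smul]
    conv_lhs => rw [← h1]
    rw [inv_smul_smul, hc1 g hg, h1]
  · rw [mul_smul, mul_smul]
    conv_lhs => rw [← h2]
    rw [inv_smul_smul, hc2 g hg, h2]

theorem conj_mem_GS' {b : ↥leechLattice} {n : ↥Co0} (hc1 : ∀ g ∈ GS b, g • (n • Spor.leechV) = n • Spor.leechV)
    (hc2 : ∀ g ∈ GS b, g • (n • b) = n • b) : ∀ g ∈ GS b, n⁻¹ * g * n ∈ GS b := by
  intro g hg
  rw [mem_GS]
  constructor
  · rw [mul_smul, mul_smul, hc1 g hg, inv_smul_smul]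
  · rw [mul_smul, mul_smul, hc2 g hg, inv_smul_smul]

/-! ### the numbers of points -/

theorem pts_hs : (Pts Spor.leechU' (-24) 0).ncard = 100 := by
  have hb : ∃ g : ↥Co0, g • (Spor.leechV, -Spor.leechV - Spor.leechU') = (lv bU0, lv bWH) := by
    obtain ⟨g, hg⟩ := tHS_base
    exact ⟨g, congrArg Prod.fst hg⟩
  rw [← c100_cls.count' hb]
  have : Pts Spor.leechU' (-24) 0 =
      (fun z : ↥leechLattice => -z) '' C2 24 (-24) (Spor.leechV, -Spor.leechV - Spor.leechU') := by
    ext z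
    constructor
    · rintro ⟨h1, h2, h3⟩
      refine ⟨-z, ⟨?_, ?_, ?_⟩, neg_neg z⟩
      · rw [mem_L2_iff, ldot_neg_left, ldot_neg_right, neg_neg]; exact (mem_L2_iff _).1 h1
      · show ldot Spor.leechV (-z) = 24
        rw [ldot_neg_right, h2]; norm_num
      · show ldot (-Spor.leechV - Spor.leechU') (-z) = -24
        rw [ldot_neg_right, ldot_sub_left, ldot_neg_left, h2, h3]; norm_num
    · rintro ⟨y, ⟨h1, h2, h3⟩, rfl⟩
      have h2' : ldot Spor.leechV y = 24 := h2
      have h3' : ldot (-Spor.leechV - Spor.leechU') y = -24 := h3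
      rw [ldot_sub_left, ldot_neg_left, h2'] at h3'
      refine ⟨?_, ?_, ?_⟩
      · rw [mem_L2_iff, ldot_neg_left, ldot_neg_right, neg_neg]; exact (mem_L2_iff _).1 h1
      · rw [ldot_neg_right, h2']
      · rw [ldot_neg_right]; linarith
  rw [this, Set.ncard_image_of_injective _ neg_injective]

theorem pts_mcl : (Pts Spor.leechU (-16) 0).ncard = 2025 := by
  have hb : ∃ g : ↥Co0, g • (Spor.leechU, -Spor.leechU - Spor.leechV) = (lv bA0, lv bW0) := by
    obtain ⟨g, hg⟩ := tMc_base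
    exact ⟨g, congrArg Prod.fst hg⟩
  rw [← c2025_cls.count' hb]
  congr 1
  ext z
  constructor
  · rintro ⟨h1, h2, h3⟩
    refine ⟨h1, h3, ?_⟩
    show ldot (-Spor.leechU - Spor.leechV) z = 16
    rw [ldot_sub_left, ldot_neg_left, h2, h3]; norm_num
  · rintro ⟨h1, h2, h3⟩
    have h2' : ldot Spor.leechU z = 0 := h2
    have h3' : ldot (-Spor.leechU - Spor.leechV) z = 16 := h3
    rw [ldot_sub_left, ldot_neg_left, h2'] at h3'
    exact ⟨h1, by linarith, h2'⟩

theorem GS_hs : GS Spor.leechU' = stabilizer ↥Co0 (Spor.leechV, -Spor.leechV - Spor.leechU') := by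
  ext g
  rw [mem_GS, mem_stabilizer_iff, Prod.smul_mk, Prod.mk.injEq, co0_smul_sub, co0_smul_neg]
  constructor
  · rintro ⟨h1, h2⟩; rw [h1, h2]; exact ⟨rfl, rfl⟩
  · rintro ⟨h1, h2⟩
    rw [h1] at h2
    exact ⟨h1, sub_right_injective h2⟩

theorem GS_mcl : GS Spor.leechU = stabilizer ↥Co0 (Spor.leechU, -Spor.leechU - Spor.leechV) := by
  ext g
  rw [mem_GS, mem_stabilizer_iff, Prod.smul_mk, Prod.mk.injEq, co0_smul_sub, co0_smul_neg]
  constructor
  · rintro ⟨h1, h2⟩; rw [h1, h2]; exact ⟨rfl, rfl⟩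
  · rintro ⟨h1, h2⟩
    rw [h1] at h2
    exact ⟨sub_right_injective h2, h1⟩

theorem card_GS_hs (hCo0 : Nat.card ↥Co0 = 8315553613086720000) : Nat.card ↥(GS Spor.leechU') = 100 * 443520 := by
  have hb : ∃ g : ↥Co0, g • (Spor.leechV, -Spor.leechV - Spor.leechU') = (lv bU0, lv bWH) := by
    obtain ⟨g, hg⟩ := tHS_base
    exact ⟨g, congrArg Prod.fst hg⟩
  rw [GS_hs, card_stab_conj hb, card_hs hCo0]

theorem card_GS_mcl (hCo0 : Nat.card ↥Co0 = 8315553613086720000) : Nat.card ↥(GS Spor.leechU) = 2025 * 443520 := by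
  have hb : ∃ g : ↥Co0, g • (Spor.leechU, -Spor.leechU - Spor.leechV) = (lv bA0, lv bW0) := by
    obtain ⟨g, hg⟩ := tMc_base
    exact ⟨g, congrArg Prod.fst hg⟩
  rw [GS_mcl, card_stab_conj hb, card_mcl hCo0]

end Cfsg.Agent.Lib.Helper33
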