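import Cfsg.Agent.Lib.Helper33.OhPts
import Cfsg.Agent.Lib.Helper33.OutRig3

set_option autoImplicit false

namespace Cfsg.Agent.Lib.Helper33

open Cfsg.Agent.Lib.Helper88.OChains

def ohC5 : ℕ := 0x900090009000900090009000900090009000900090009000900090009000900090009000900090005000900090009000a0008000a000a000800080008000800080008000800080008000a00080008000a0008000a0008000a00080008000a000a000800080008000800080008000a000a0008000a000a00080008000a000a0008000800080008000800080008000a000900090009000900090009000900090005000900090009000900090009000900090009000900090009000900090009000c0008000800080008000800080008000800080008000800080008000800080008000800080008000800080008000c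

set_option maxRecDepth 1000000 in
theorem oh_c5ok : allBelow (fun j => cstOK (f384 ohC5 j)) 5 = true := by decide +kernel
set_option maxRecDepth 1000000 in
theorem oh_c5st : allBelow (fun j => mvOK (matAt ohG 6) (f384 ohC5 j) (f384 ohC5 (Nat.succ j))) 4 = true := by decide +kernel
set_option maxRecDepth 1000000 in
theorem oh_c50 : f384 ohC5 0 = pU := by decide +kernel
set_option maxRecDepth 1000000 in
theorem oh_fix : allBelow (fixChk ohPNd ohC5) 100 = true := by decide +kernel
set_option maxRecDepth 1000000 in
theorem oh_e0 : permOK (matAt ohG 0) chBc = true := by decide +kernel
set_option maxRecDepth 1000000 in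
theorem oh_e2 : permOK (matAt ohG 2) chDc = true := by decide +kernel
set_option maxRecDepth 1000000 in
theorem oh_e4 : permOK (matAt ohG 4) chSc = true := by decide +kernel
set_option maxRecDepth 1000000 in
theorem oh_tw : relOK (matAt ohG 6) chDc chDc = true := by decide +kernel

end Cfsg.Agent.Lib.Helper33
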