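import Cfsg.Agent.Lib.Helper33.CoSplit
import Cfsg.Agent.Lib.Helper33.OhGen

set_option autoImplicit false

namespace Cfsg.Agent.Lib.Helper33

noncomputable def ohPMem_0 : ℕ := 0x302572ddff2dc7f2d8ff2d5ff2d2ff2cf7f2cb7f2caff2c97f2b9ff2b37f2b0ff2a5ff298ff2977f290ff2847f2837f27fff27c7f2777f276ff26fff26aff2697f25e7f25b7f259ff2557f243ff2407f23cff238ff2347f233ff2317f22cff2247f217ff215ff2157f20d7f20b7f2037f200ff1fdff1fb7f1f8ff1f67f1f57f1f27f1f07f1e97f1e57f1e0ff1ddff1d8ff1d6ff1d3ff1d07f1c67f1c07f1b97f1b27f1afff1adff1acff1a3ff1a37f1a07f19fff19d7f19cff199ff189ff188ff1847f160001500014000130001200011000100000f0000e0000d0000c0000b0000a000090000800007000060000500004000030000200001000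
noncomputable def ohPMem : ℕ := ohPMem_0
noncomputable def ohPNd (t : ℕ) : ℕ := decV (get3 ohPMem 20 t)

noncomputable def ohPRts : ℕ := 0x63
noncomputable def ohPR_0 : ℕ := 0x630004100037000410003f00047000040004000019000400003f0005100059000300004b000470000a00050000560004700008000470001100030000220004700010000470000f000650001c0004100045000570003a0005700023000500002e000450004a000460001100051000460004700000000270000e00031000220004700007000460003f000460001400046000070003700005000510001e00053000620004000041000370000c000610001c00036000050005700062000500001e0004600000000420004a00047000030005700053000460000100036000060005100049000430005c000570002f0004700027000460001000037000060004600013000470000d0004600009000450005c000510002d00040000270005000046000550006200051000180003700012000430004a0005200062000460001a000470001500026000020004600003000470000b000500001600047000090004100027000510002f0004600015000310004b0003600012000460000d0004700014000460000400033000120003000012000350000c000200000e000300000c0003400012000320000c00017000630003100006000200000200031000050003200012000320000600034000060003500006000210000e000210000200033000060003400005000160006300032000050003300005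
noncomputable def ohPR : ℕ := ohPR_0
set_option maxRecDepth 1000000 in
theorem ohP_mem : allBelow (memOK decV valV 197760 0 0 0 ohPMem 100) 100 = true := by decide +kernel
set_option maxRecDepth 1000000 in
theorem ohP_rt : Nat.blt (fld20 ohPRts 0) 100 = true := by decide +kernel
set_option maxRecDepth 1000000 in
theorem ohP_root : ohPNd (fld20 ohPRts 0) = 0xc0008000800080008000800080008000800080008000800080008000800080008000800080008000800080008000c := by decide +kernel
set_option maxRecDepth 1000000 in
theorem ohP_nodes : allBelow (cNode ohPNd (fun _ => true) ohG ohPR ohPRts (2 * 4) 1 100) 100 = true := by decide +kernel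

end Cfsg.Agent.Lib.Helper33
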