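import Cfsg.Agent.Lib.Helper33.OmPts
import Cfsg.Agent.Lib.Helper33.OutRig3

set_option autoImplicit false

namespace Cfsg.Agent.Lib.Helper33

open Cfsg.Agent.Lib.Helper88.OChains

def omC5 : ℕ := 0xa000800080008000800080008000a00060008000a000a00080008000a000a0008000800080008000800080008000600090007000900090007000900070009000700070009000900070009000900090009000900090009000b00090009000700090007000900090007000900070009000b000700090009000700090009000900090009000900090007000900090007000a0008000a000a000800080008000800080008000800080008000a00080008000a0008000a00080006000800080006000c00080008000800080008000800080008000800080008000800080008000800080008000800080008000800080004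

set_option maxRecDepth 1000000 in
theorem om_c5ok : allBelow (fun j => cstOK (f384 omC5 j)) 5 = true := by decide +kernel
set_option maxRecDepth 1000000 in
theorem om_c5st : allBelow (fun j => mvOK (matAt omG 6) (f384 omC5 j) (f384 omC5 (Nat.succ j))) 4 = true := by decide +kernel
set_option maxRecDepth 1000000 in
theorem om_c50 : f384 omC5 0 = pU1 := by decide +kernel
set_option maxRecDepth 1000000 in
theorem om_fix : allBelow (fixChk omPNd omC5) 2025 = true := by decide +kernel
set_option maxRecDepth 1000000 in
theorem om_e0 : permOK (matAt omG 0) chBc = true := by decide +kernel
set_option maxRecDepth 1000000 in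
theorem om_e2 : permOK (matAt omG 2) chDc = true := by decide +kernel
set_option maxRecDepth 1000000 in
theorem om_e4 : permOK (matAt omG 4) chSc = true := by decide +kernel
set_option maxRecDepth 1000000 in
theorem om_tw : relOK (matAt omG 6) chDc chDc = true := by decide +kernel

end Cfsg.Agent.Lib.Helper33
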