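import Cfsg.Agent.Lib.Helper33.Forest

set_option autoImplicit false

namespace Cfsg.Agent.Lib.Helper33

open Cfsg
open scoped Pointwise

theorem RankData.relJ' {G X ι : Type*} [Group G] [MulAction G X]
    {Ω : Set X} {rel : X → X → ι} {x₀ : X} {sz : ι → ℕ} (D : RankData G Ω rel x₀ sz)
    (J : Finset ι) (hJ : ∀ y ∈ Ω, rel x₀ y ∈ J) {x y : X} (hx : x ∈ Ω) (hy : y ∈ Ω) : rel x y ∈ J := by
  obtain ⟨a, ha⟩ := D.trans x hx
  rw [← D.rel_smul a, ha]
  exact hJ _ (D.smul_mem a y hy)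

/-- Overgroups of a point stabiliser correspond to unions of suborbits. -/
theorem RankData.overgroup {G X ι : Type*} [Group G] [Finite G] [MulAction G X] [Finite X]
    [DecidableEq ι]
    {Ω : Set X} {rel : X → X → ι} {x₀ : X} {sz : ι → ℕ} (D : RankData G Ω rel x₀ sz)
    (J : Finset ι) (hJ : ∀ y ∈ Ω, rel x₀ y ∈ J) {x : X} (hx : x ∈ Ω)
    (K : Subgroup G) (hK : MulAction.stabilizer G x ≤ K) :
    ∃ I ∈ J.powerset, (∀ y ∈ Ω, (∃ k ∈ K, k • x = y) ↔ rel x y ∈ I) ∧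
      (∑ i ∈ I, sz i) * K.index = ∑ i ∈ J, sz i := by
  classical
  have hJx : ∀ y ∈ Ω, rel x y ∈ J := fun y hy => D.relJ' J hJ hx hy
  have hcard : ∀ (B : Set X) (I : Finset ι), (∀ y, y ∈ B ↔ y ∈ Ω ∧ rel x y ∈ I) →
      B.ncard = ∑ i ∈ I, sz i := by
    intro B I hB
    have hfin : B.Finite := Set.toFinite B
    rw [Set.ncard_eq_toFinset_card B hfin,
      Finset.card_eq_sum_card_fiberwise (f := rel x) (t := I) (fun y hy => ((hB y).1 (by simpa using hy)).2)]
    apply Finset.sum_congr rfl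
    intro i hi
    rw [← D.count' hx i, Set.ncard_eq_toFinset_card _ (Set.toFinite _)]
    congr 1
    ext y
    simp only [Finset.mem_filter, Set.Finite.mem_toFinset, Set.mem_ofPred_eq, hB y]
    constructor
    · rintro ⟨⟨h1, _⟩, h3⟩; exact ⟨h1, h3⟩
    · rintro ⟨h1, h3⟩; exact ⟨⟨h1, h3 ▸ hi⟩, h3⟩
  have hΩ : Ω.ncard = ∑ i ∈ J, sz i := hcard Ω J (fun y => ⟨fun h => ⟨h, hJx y h⟩, fun h => h.1⟩)
  have hidx : (MulAction.stabilizer G x).index = ∑ i ∈ J, sz i := by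
    rw [MulAction.index_stabilizer, D.orbit_eq hx, hΩ]
  set H := MulAction.stabilizer G x with hH
  set B : Set X := MulAction.orbit ↥K x with hBdef
  have hBΩ : ∀ y ∈ B, y ∈ Ω := by
    rintro y ⟨k, rfl⟩
    exact D.smul_mem (k : G) x hx
  set I : Finset ι := J.filter (fun i => ∃ y ∈ B, rel x y = i) with hI
  have hB : ∀ y, y ∈ B ↔ y ∈ Ω ∧ rel x y ∈ I := by
    intro y
    constructor
    · intro hy
      exact ⟨hBΩ y hy, Finset.mem_filter.2 ⟨hJx y (hBΩ y hy), y, hy, rfl⟩⟩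
    · rintro ⟨hy, hi⟩
      obtain ⟨_, z, hz, hr⟩ := Finset.mem_filter.1 hi
      obtain ⟨g, hg, hg'⟩ := D.trans₂' hx (hBΩ z hz) hy hr
      obtain ⟨k, rfl⟩ := hz
      have hgK : g ∈ K := hK hg
      refine ⟨⟨g, hgK⟩ * k, ?_⟩
      show ((⟨g, hgK⟩ * k : ↥K)) • x = y
      rw [mul_smul]
      exact hg'
  have hBcard : B.ncard = ∑ i ∈ I, sz i := hcard B I hB
  have hrel : H.relIndex K = ∑ i ∈ I, sz i := by
    rw [← hBcard, hBdef, ← MulAction.index_stabilizer, stabilizer_subgroup_eq]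
    rfl
  refine ⟨I, Finset.mem_powerset.2 (Finset.filter_subset _ _), ?_, ?_⟩
  · intro y hy
    constructor
    · rintro ⟨k, hk, rfl⟩
      exact ((hB _).1 ⟨⟨k, hk⟩, rfl⟩).2
    · intro h
      obtain ⟨k, hk⟩ := (hB y).2 ⟨hy, h⟩
      exact ⟨k.1, k.2, hk⟩
  · rw [← hrel, ← hidx]
    exact Subgroup.relIndex_mul_index hK

/-! ### families of all subsets of size 2 or 3 -/

theorem unmask_shift (i : ℕ) (hi : i < 24) : unmask (Nat.shiftLeft 1 i) = {pt i} := by
  have : Nat.shiftLeft 1 i = 2 ^ idx (pt i) := by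
    rw [idx_pt hi]; exact Nat.one_shiftLeft i
  rw [this, unmask_two_pow]

noncomputable def fam2OK (tab pos n : ℕ) : Bool :=
  allBelow (fun i => allBelow (fun j => Nat.beq i j ||
    (Nat.beq (fld24 tab (fld12 pos (Nat.add (Nat.mul 24 i) j))) (Nat.lor (Nat.shiftLeft 1 i) (Nat.shiftLeft 1 j)) &&
      Nat.blt (fld12 pos (Nat.add (Nat.mul 24 i) j)) n)) 24) 24 &&
  allBelow (fun k => Nat.beq (popc (fld24 tab k)) 2 &&
    Nat.beq (fld12 pos (Nat.add (Nat.mul 24 (Nat.log2 (fld24 tab k)))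
      (Nat.log2 (Nat.xor (fld24 tab k) (Nat.shiftLeft 1 (Nat.log2 (fld24 tab k))))))) k) n

theorem fam2_spec {tab pos n : ℕ} (h : fam2OK tab pos n = true) :
    (∀ y ∈ {s : Finset GolayPt | s.card = 2}, ∃ k < n, y = unmask (fld24 tab k)) ∧
    (∀ k < n, unmask (fld24 tab k) ∈ {s : Finset GolayPt | s.card = 2}) ∧
    (∀ k < n, ∀ k' < n, fld24 tab k = fld24 tab k' → k = k') := by
  rw [fam2OK, Bool.and_eq_true, allBelow_iff, allBelow_iff] at h
  obtain ⟨h1, h2⟩ := h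
  refine ⟨?_, ?_, ?_⟩
  · intro y hy
    obtain ⟨a, b, hab, rfl⟩ := Finset.card_eq_two.1 hy
    have := (allBelow_iff _ _).1 (h1 (idx a) (idx_lt a)) (idx b) (idx_lt b)
    rw [Bool.or_eq_true, Bool.and_eq_true] at this
    rcases this with h | ⟨h, h'⟩
    · exact absurd (idx_injective (Nat.eq_of_beq_eq_true h)) hab
    · refine ⟨_, blt_iff.1 h', ?_⟩
      rw [Nat.eq_of_beq_eq_true h]
      show _ = unmask (Nat.shiftLeft 1 (idx a) ||| Nat.shiftLeft 1 (idx b))
      rw [unmask_or, unmask_shift _ (idx_lt a), unmask_shift _ (idx_lt b), pt_idx, pt_idx]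
      rfl
  · intro k hk
    have := h2 k hk
    rw [Bool.and_eq_true] at this
    show (unmask (fld24 tab k)).card = 2
    rw [card_unmask (fld24_lt _ _)]; exact Nat.eq_of_beq_eq_true this.1
  · intro k hk k' hk' h
    have a := h2 k hk
    have b := h2 k' hk'
    rw [Bool.and_eq_true] at a b
    rw [← Nat.eq_of_beq_eq_true a.2, ← Nat.eq_of_beq_eq_true b.2, h]

/-- index extraction for a 3-bit mask -/
def key3 (m : ℕ) : ℕ :=
  Nat.add (Nat.add (Nat.mul 576 (Nat.log2 m)) (Nat.mul 24 (Nat.log2 (Nat.xor m (Nat.shiftLeft 1 (Nat.log2 m))))))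
    (Nat.log2 (Nat.xor (Nat.xor m (Nat.shiftLeft 1 (Nat.log2 m)))
      (Nat.shiftLeft 1 (Nat.log2 (Nat.xor m (Nat.shiftLeft 1 (Nat.log2 m)))))))

noncomputable def fam3OK (tab pos n : ℕ) : Bool :=
  allBelow (fun i => allBelow (fun j => allBelow (fun l => Nat.beq i j || (Nat.beq i l || (Nat.beq j l ||
    (Nat.beq (fld24 tab (fld12 pos (Nat.add (Nat.add (Nat.mul 576 i) (Nat.mul 24 j)) l)))
        (Nat.lor (Nat.lor (Nat.shiftLeft 1 i) (Nat.shiftLeft 1 j)) (Nat.shiftLeft 1 l)) &&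
      Nat.blt (fld12 pos (Nat.add (Nat.add (Nat.mul 576 i) (Nat.mul 24 j)) l)) n)))) 24) 24) 24 &&
  allBelow (fun k => Nat.beq (popc (fld24 tab k)) 3 && Nat.beq (fld12 pos (key3 (fld24 tab k))) k) n

theorem fam3_spec {tab pos n : ℕ} (h : fam3OK tab pos n = true) :
    (∀ y ∈ {s : Finset GolayPt | s.card = 3}, ∃ k < n, y = unmask (fld24 tab k)) ∧
    (∀ k < n, unmask (fld24 tab k) ∈ {s : Finset GolayPt | s.card = 3}) ∧
    (∀ k < n, ∀ k' < n, fld24 tab k = fld24 tab k' → k = k') := by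
  rw [fam3OK, Bool.and_eq_true, allBelow_iff, allBelow_iff] at h
  obtain ⟨h1, h2⟩ := h
  refine ⟨?_, ?_, ?_⟩
  · intro y hy
    obtain ⟨a, b, c, hab, hac, hbc, rfl⟩ := Finset.card_eq_three.1 hy
    have := (allBelow_iff _ _).1 ((allBelow_iff _ _).1 (h1 (idx a) (idx_lt a)) (idx b) (idx_lt b)) (idx c) (idx_lt c)
    simp only [Bool.or_eq_true, Bool.and_eq_true] at this
    rcases this with h | h | h | ⟨h, h'⟩
    · exact absurd (idx_injective (Nat.eq_of_beq_eq_true h)) hab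
    · exact absurd (idx_injective (Nat.eq_of_beq_eq_true h)) hac
    · exact absurd (idx_injective (Nat.eq_of_beq_eq_true h)) hbc
    · refine ⟨_, blt_iff.1 h', ?_⟩
      rw [Nat.eq_of_beq_eq_true h]
      show _ = unmask ((Nat.shiftLeft 1 (idx a) ||| Nat.shiftLeft 1 (idx b)) ||| Nat.shiftLeft 1 (idx c))
      rw [unmask_or, unmask_or, unmask_shift _ (idx_lt a), unmask_shift _ (idx_lt b),
        unmask_shift _ (idx_lt c), pt_idx, pt_idx, pt_idx]
      ext q
      simp only [Finset.mem_insert, Finset.mem_singleton, Finset.mem_union]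
      tauto
  · intro k hk
    have := h2 k hk
    rw [Bool.and_eq_true] at this
    show (unmask (fld24 tab k)).card = 3
    rw [card_unmask (fld24_lt _ _)]; exact Nat.eq_of_beq_eq_true this.1
  · intro k hk k' hk' h
    have a := h2 k hk
    have b := h2 k' hk'
    rw [Bool.and_eq_true] at a b
    rw [← Nat.eq_of_beq_eq_true a.2, ← Nat.eq_of_beq_eq_true b.2, h]

theorem smul_mem_card (n : ℕ) (g : Equiv.Perm GolayPt) (y : Finset GolayPt)
    (hy : y ∈ {s : Finset GolayPt | s.card = n}) : g • y ∈ {s : Finset GolayPt | s.card = n} := by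
  show (g • y).card = n
  rw [Finset.card_smul_finset]; exact hy

end Cfsg.Agent.Lib.Helper33
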