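import Mathlib
import Cfsg.Prelude.Def_KGroupFacts
import Cfsg.Agent.Lib.Helper88.MOut

set_option autoImplicit false

/-!
An abstract criterion for all automorphisms of a finite group to be inner: a subgroup `M = ⟨u, v, w⟩`
with only inner automorphisms, where `u`, `v` have prime orders `p`, `q` dividing the order of the group
exactly once, `v` normalises `⟨u⟩`, `w` normalises `⟨v⟩`, ...
-/

namespace Cfsg.Agent.Lib.Helper33

open Subgroup

/-- composition of an automorphism with a conjugation -/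
theorem conj_mul_apply {G : Type*} [Group G] (g : G) (α : MulAut G) (x : G) :
    (MulAut.conj g * α) x = g * α x * g⁻¹ := rfl

theorem pow_gen_of_prime {G : Type*} [Group G] {p : ℕ} (hp : p.Prime) {a : G} (ha : a ^ p = 1) {k : ℕ}
    (hk : a ^ k ≠ 1) : ∃ s : ℕ, (a ^ k) ^ s = a := by
  have hcop : Nat.Coprime k p := by
    rw [Nat.coprime_comm, Nat.Prime.coprime_iff_not_dvd hp]
    rintro ⟨c, rfl⟩
    exact hk (by rw [pow_mul, ha, one_pow])
  obtain ⟨s, -, hs⟩ := Nat.exists_mul_mod_eq_one_of_coprime hcop hp.one_lt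
  refine ⟨s, ?_⟩
  rw [← pow_mul, ← Nat.div_add_mod (k * s) p, pow_add, pow_mul, ha, one_pow, one_mul, hs, pow_one]

/-- an automorphism mapping `a` to a nontrivial power of `a` (of prime order) maps elements normalising `⟨a⟩`
to such elements -/
theorem normalises_of_aut {G : Type*} [Group G] {p : ℕ} (hp : p.Prime) {a : G} (ha : a ^ p = 1) (ha1 : a ≠ 1)
    (β : MulAut G) {k : ℕ} (hβ : β a = a ^ k) {y : G} {e : ℕ} (hy : y * a * y⁻¹ = a ^ e) :
    ∃ e' : ℕ, β y * a * (β y)⁻¹ = a ^ e' := by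
  have hk : a ^ k ≠ 1 := by
    rw [← hβ]
    intro h
    exact ha1 (β.injective (by rw [h, map_one]))
  obtain ⟨s, hs⟩ := pow_gen_of_prime hp ha hk
  have h1 : β (a ^ s) = a := by rw [map_pow, hβ, hs]
  refine ⟨k * (e * s), ?_⟩
  have h2 : y * a ^ s * y⁻¹ = a ^ (e * s) := by
    rw [← conj_pow, hy, ← pow_mul]
  calc β y * a * (β y)⁻¹ = β (y * a ^ s * y⁻¹) := by rw [map_mul, map_mul, map_inv, h1]
    _ = a ^ (k * (e * s)) := by rw [h2, map_pow, hβ, ← pow_mul]

theorem inner_of_data {G M₀ : Type*} [Group G] [Finite G] [Group M₀] (f : M₀ →* G)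
    (hf : Function.Injective f) (p q r : ℕ) (hp : p.Prime) (hq : q.Prime)
    (u v w : M₀) (hgen : closure ({u, v, w} : Set M₀) = ⊤)
    (hu : u ^ p = 1) (hu1 : u ≠ 1) (hpG : ¬ p ^ 2 ∣ Nat.card G)
    (hv : v ^ q = 1) (hv1 : v ≠ 1) (hqG : ¬ q ^ 2 ∣ Nat.card G)
    (hvu : ∃ m : ℕ, v * u * v⁻¹ = u ^ m)
    (hwv : ∃ e : ℕ, w * v * w⁻¹ = v ^ e) (hw : w ^ r = 1)
    (hodd : ∀ y : G, (∃ k : ℕ, y * f v * y⁻¹ = f v ^ k) → y ^ r = 1 → y ∈ f.range)
    (hinn : ∀ β : MulAut M₀, ∃ m : M₀, ∀ x, β x = m * x * m⁻¹)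
    (i : G) (hfix : ∀ β : MulAut G, (∀ x, β (f x) = f x) → β i = i)
    (hG : closure (Set.range f ∪ {i}) = ⊤) (α : MulAut G) :
    ∃ g : G, ∀ x, α x = g * x * g⁻¹ := by
  have : Fact p.Prime := ⟨hp⟩
  have : Fact q.Prime := ⟨hq⟩
  have hfu : f u ^ p = 1 := by rw [← map_pow, hu, map_one]
  have hfu1 : f u ≠ 1 := fun h => hu1 (hf (by rw [h, map_one]))
  have hfv : f v ^ q = 1 := by rw [← map_pow, hv, map_one]
  have hfv1 : f v ≠ 1 := fun h => hv1 (hf (by rw [h, map_one]))
  -- step 1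
  obtain ⟨g₁, k, hk⟩ := Cfsg.Agent.Lib.Helper88.exists_conj_pow hpG hfu hfu1
    (b := α (f u)) (by rw [← map_pow, hfu, map_one]) (fun h => hfu1 (α.injective (by rw [h, map_one])))
  set α₁ : MulAut G := MulAut.conj g₁ * α with hα₁
  have h1u : α₁ (f u) = f u ^ k := by rw [hα₁, conj_mul_apply, hk]
  -- step 2: inside the normaliser of `⟨f u⟩`
  let N : Subgroup G :=
    { carrier := {y | ∃ e : ℕ, y * f u * y⁻¹ = f u ^ e ∧ f u ^ e ≠ 1}
      one_mem' := ⟨1, by simp, by simpa using hfu1⟩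
      mul_mem' := by
        rintro a b ⟨e, he, he1⟩ ⟨e', he', he1'⟩
        refine ⟨e * e', ?_, ?_⟩
        · have : a * b * f u * (a * b)⁻¹ = a * (b * f u * b⁻¹) * a⁻¹ := by group
          rw [this, he', ← conj_pow, he, ← pow_mul]
        · intro h
          apply he1'
          have h2 : a * (f u ^ e') * a⁻¹ = 1 := by rw [← conj_pow, he, ← pow_mul, h]
          have h3 : f u ^ e' = a⁻¹ * 1 * a := by rw [← h2]; group
          rw [h3]; group
      inv_mem' := by
        rintro a ⟨e, he, he1⟩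
        obtain ⟨s, hs⟩ := pow_gen_of_prime hp hfu he1
        refine ⟨s, ?_, ?_⟩
        · have h2 : a * f u ^ s * a⁻¹ = f u := by rw [← conj_pow, he, hs]
          have h3 : f u ^ s = a⁻¹ * (a * f u ^ s * a⁻¹) * a := by group
          rw [h2] at h3
          rw [inv_inv, h3]
        · intro h
          apply hfu1
          rw [← hs, ← pow_mul, mul_comm, pow_mul, h, one_pow] }
  have hN : ∀ y, y ∈ N ↔ ∃ e : ℕ, y * f u * y⁻¹ = f u ^ e ∧ f u ^ e ≠ 1 := fun y => Iff.rfl
  have conj_ne : ∀ y : G, y * f u * y⁻¹ ≠ 1 := by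
    intro y h
    apply hfu1
    have : f u = y⁻¹ * 1 * y := by rw [← h]; group
    rw [this]; group
  have hvN : f v ∈ N := by
    obtain ⟨m, hm⟩ := hvu
    have : f v * f u * (f v)⁻¹ = f u ^ m := by rw [← map_inv, ← map_mul, ← map_mul, hm, map_pow]
    exact ⟨m, this, this ▸ conj_ne _⟩
  have hv1N : α₁ (f v) ∈ N := by
    obtain ⟨m, hm, _⟩ := hvN
    obtain ⟨e', he'⟩ := normalises_of_aut hp hfu hfu1 α₁ h1u hm
    exact ⟨e', he', he' ▸ conj_ne _⟩
  have hqN : ¬ q ^ 2 ∣ Nat.card N := fun h => hqG (h.trans (Subgroup.card_subgroup_dvd_card N))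
  obtain ⟨n, l, hl⟩ := Cfsg.Agent.Lib.Helper88.exists_conj_pow (H := ↥N) hqN
    (a := ⟨f v, hvN⟩) (b := ⟨α₁ (f v), hv1N⟩)
    (Subtype.ext (by simpa using hfv)) (fun h => hfv1 (by simpa using congrArg Subtype.val h))
    (Subtype.ext (by
      show (α₁ (f v)) ^ q = 1
      rw [← map_pow, hfv, map_one]))
    (fun h => hfv1 (α₁.injective (by
      have := congrArg Subtype.val h
      rw [map_one]; exact this)))
  have hl' : (n : G) * α₁ (f v) * (n : G)⁻¹ = f v ^ l := by
    have := congrArg Subtype.val hl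
    simpa using this
  set α₂ : MulAut G := MulAut.conj (n : G) * α₁ with hα₂
  have h2v : α₂ (f v) = f v ^ l := by rw [hα₂, conj_mul_apply, hl']
  have h2u : α₂ (f u) ∈ f.range := by
    obtain ⟨e, he, _⟩ := n.2
    rw [hα₂, conj_mul_apply, h1u, ← conj_pow, he, ← pow_mul, ← map_pow]
    exact ⟨_, rfl⟩
  -- step 3
  have h2w : α₂ (f w) ∈ f.range := by
    apply hodd
    · obtain ⟨e, he⟩ := hwv
      have : f w * f v * (f w)⁻¹ = f v ^ e := by rw [← map_inv, ← map_mul, ← map_mul, he, map_pow]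
      exact normalises_of_aut hq hfv hfv1 α₂ h2v this
    · rw [← map_pow, ← map_pow, hw, map_one, map_one]
  -- step 4
  have hle : ∀ x : M₀, α₂ (f x) ∈ f.range := by
    intro x
    have hx : x ∈ closure ({u, v, w} : Set M₀) := by rw [hgen]; trivial
    induction hx using Subgroup.closure_induction with
    | mem x hx =>
      rcases hx with rfl | rfl | rfl
      · exact h2u
      · rw [h2v, ← map_pow]; exact ⟨_, rfl⟩
      · exact h2w
    | one => rw [map_one, map_one]; exact one_mem _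
    | mul x y _ _ hx hy => rw [map_mul, map_mul]; exact mul_mem hx hy
    | inv x _ hx => rw [map_inv, map_inv]; exact inv_mem hx
  have : Finite M₀ := Finite.of_injective f hf
  choose φ hφ using hle
  have hφinj : Function.Injective φ := by
    intro x y h
    apply hf
    apply α₂.injective
    rw [← hφ, ← hφ, h]
  have hφbij : Function.Bijective φ := ⟨hφinj, Finite.surjective_of_injective hφinj⟩
  let β : MulAut M₀ := MulEquiv.ofBijective
    (MonoidHom.mk' φ (by
      intro x y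
      apply hf
      rw [map_mul, hφ, hφ, hφ, map_mul, map_mul])) hφbij
  obtain ⟨m, hm⟩ := hinn β
  have hm' : ∀ x, α₂ (f x) = f m * f x * (f m)⁻¹ := by
    intro x
    have h3 : β x = φ x := rfl
    rw [← hφ, ← h3, hm, map_mul, map_mul, map_inv]
  set α₃ : MulAut G := MulAut.conj (f m)⁻¹ * α₂ with hα₃
  have h3 : ∀ x, α₃ (f x) = f x := by
    intro x
    rw [hα₃, conj_mul_apply, hm']
    group
  have h3i : α₃ i = i := hfix α₃ h3
  have h3all : ∀ x, α₃ x = x := by
    intro x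
    have hx : x ∈ closure (Set.range f ∪ {i}) := by rw [hG]; trivial
    induction hx using Subgroup.closure_induction with
    | mem x hx =>
      rcases hx with ⟨y, rfl⟩ | hx
      · exact h3 y
      · rw [Set.mem_singleton_iff] at hx
        rw [hx]; exact h3i
    | one => exact map_one _
    | mul x y _ _ hx hy => rw [map_mul, hx, hy]
    | inv x _ hx => rw [map_inv, hx]
  refine ⟨g₁⁻¹ * (n : G)⁻¹ * f m, fun x => ?_⟩
  have := h3all x
  rw [hα₃, conj_mul_apply, hα₂, conj_mul_apply, hα₁, conj_mul_apply] at this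
  have e : α x = g₁⁻¹ * ((n : G)⁻¹ * (f m * ((f m)⁻¹ * (↑n * (g₁ * α x * g₁⁻¹) * (↑n)⁻¹) * (f m)⁻¹⁻¹) * (f m)⁻¹) * ↑n) * g₁ := by
    group
  rw [e, this]
  group

/-- all automorphisms inner gives a trivial outer automorphism group -/
theorem card_out_of_inner {G : Type*} [Group G] (h : ∀ α : MulAut G, ∃ g : G, ∀ x, α x = g * x * g⁻¹) :
    Nat.card (Cfsg.Out G) = 1 := by
  show (Cfsg.Inn G).index = 1
  rw [Subgroup.index_eq_one, eq_top_iff]
  intro α _
  obtain ⟨g, hg⟩ := h α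
  refine ⟨g, ?_⟩
  ext x
  rw [hg x]
  rfl

theorem inner_congr {G H : Type*} [Group G] [Group H] (e : G ≃* H)
    (h : ∀ α : MulAut G, ∃ g : G, ∀ x, α x = g * x * g⁻¹) :
    ∀ α : MulAut H, ∃ g : H, ∀ x, α x = g * x * g⁻¹ := by
  intro α
  obtain ⟨g, hg⟩ := h ((e.trans α).trans e.symm)
  refine ⟨e g, fun x => ?_⟩
  have := hg (e.symm x)
  have h2 : ((e.trans α).trans e.symm) (e.symm x) = e.symm (α x) := by simp
  rw [h2] at this
  have h3 := congrArg e this
  simpa using h3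

/-- a lower bound for the order of a subgroup from part of an orbit -/
theorem card_ge_of_orbit {A X : Type*} [Group A] [Finite A] [MulAction A X] [DecidableEq X] (K : Subgroup A) (a : X)
    (S : Finset X) (hS : ∀ s ∈ S, ∃ g ∈ K, g • s = a) :
    S.card * Nat.card ↥(K ⊓ MulAction.stabilizer A a) ≤ Nat.card ↥K := by
  classical
  choose! g hgK hg using hS
  let F : ↥S × ↥(K ⊓ MulAction.stabilizer A a) → ↥K :=
    fun x => ⟨(g x.1.1)⁻¹ * x.2.1, K.mul_mem (K.inv_mem (hgK _ x.1.2)) x.2.2.1⟩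
  have hF : Function.Injective F := by
    rintro ⟨⟨s, hs⟩, ⟨k, hk⟩⟩ ⟨⟨s', hs'⟩, ⟨k', hk'⟩⟩ h
    have h1 : (g s)⁻¹ * k = (g s')⁻¹ * k' := congrArg Subtype.val h
    have ka : k • a = a := hk.2
    have ka' : k' • a = a := hk'.2
    have h2 : s = s' := by
      have e1 : ((g s)⁻¹ * k) • a = s := by rw [mul_smul, ka, inv_smul_eq_iff, hg s hs]
      have e2 : ((g s')⁻¹ * k') • a = s' := by rw [mul_smul, ka', inv_smul_eq_iff, hg s' hs']
      rw [← e1, ← e2, h1]
    subst h2
    have h3 : k = k' := mul_left_cancel h1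
    subst h3
    rfl
  have := Nat.card_le_card_of_injective F hF
  rw [Nat.card_prod] at this
  simpa using this

end Cfsg.Agent.Lib.Helper33
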