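import Cfsg.Agent.Lib.Helper33.OutAbs

set_option autoImplicit false

/-!
Abstract tools for groups whose outer automorphism group has order two.
-/

namespace Cfsg.Agent.Lib.Helper33

open Subgroup

/-- the order of the outer automorphism group is an isomorphism invariant -/
theorem card_out_congr33 {G G' : Type*} [Group G] [Group G'] (e : G ≃* G') :
    Nat.card (Cfsg.Out G) = Nat.card (Cfsg.Out G') := by
  have h : (Cfsg.Inn G).map (MulAut.congr e).toMonoidHom = Cfsg.Inn G' := by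
    ext φ
    constructor
    · rintro ⟨_, ⟨g, rfl⟩, rfl⟩
      refine ⟨e g, ?_⟩
      ext x
      simp [MulAut.congr, MulAut.conj_apply]
    · rintro ⟨g, rfl⟩
      refine ⟨MulAut.conj (e.symm g), ⟨e.symm g, rfl⟩, ?_⟩
      ext x
      simp [MulAut.congr, MulAut.conj_apply]
  exact Nat.card_congr (QuotientGroup.congr (Cfsg.Inn G) (Cfsg.Inn G') (MulAut.congr e) h).toEquiv

theorem conj_pow_pow {G : Type*} [Group G] {w v : G} {e : ℕ} (h : w * v * w⁻¹ = v ^ e) (d : ℕ) :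
    w ^ d * v * (w ^ d)⁻¹ = v ^ (e ^ d) := by
  induction d with
  | zero => simp
  | succ d ih =>
    have : w ^ (d + 1) * v * (w ^ (d + 1))⁻¹ = w * (w ^ d * v * (w ^ d)⁻¹) * w⁻¹ := by
      rw [pow_succ']; group
    rw [this, ih, ← conj_pow, h, ← pow_mul, pow_succ']

/-- the elements normalising the subgroup generated by an element of prime order -/
def normPow {G : Type*} [Group G] (p : ℕ) (hp : p.Prime) (u : G) (hu : u ^ p = 1) (hu1 : u ≠ 1) : Subgroup G where
  carrier := {y | ∃ e : ℕ, y * u * y⁻¹ = u ^ e ∧ u ^ e ≠ 1}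
  one_mem' := ⟨1, by simp, by simpa using hu1⟩
  mul_mem' := by
    rintro a b ⟨e, he, he1⟩ ⟨e', he', he1'⟩
    refine ⟨e * e', ?_, ?_⟩
    · have : a * b * u * (a * b)⁻¹ = a * (b * u * b⁻¹) * a⁻¹ := by group
      rw [this, he', ← conj_pow, he, ← pow_mul]
    · intro h
      apply he1'
      have h2 : a * (u ^ e') * a⁻¹ = 1 := by rw [← conj_pow, he, ← pow_mul, h]
      have h3 : u ^ e' = a⁻¹ * 1 * a := by rw [← h2]; group
      rw [h3]; group
  inv_mem' := by
    rintro a ⟨e, he, he1⟩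
    obtain ⟨s, hs⟩ := pow_gen_of_prime hp hu he1
    refine ⟨s, ?_, ?_⟩
    · have h2 : a * u ^ s * a⁻¹ = u := by rw [← conj_pow, he, hs]
      have h3 : u ^ s = a⁻¹ * (a * u ^ s * a⁻¹) * a := by group
      rw [h2] at h3
      rw [inv_inv, h3]
    · intro h
      apply hu1
      rw [← hs, ← pow_mul, mul_comm, pow_mul, h, one_pow]

theorem mem_normPow {G : Type*} [Group G] {p : ℕ} {hp : p.Prime} {u : G} {hu : u ^ p = 1} {hu1 : u ≠ 1} {y : G}
    {e : ℕ} (h : y * u * y⁻¹ = u ^ e) : y ∈ normPow p hp u hu hu1 := by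
  refine ⟨e, h, ?_⟩
  rw [← h]
  intro h2
  apply hu1
  have : u = y⁻¹ * (y * u * y⁻¹) * y := by group
  rw [this, h2]; group

theorem arith11 : ∀ r : Fin 11, r ≠ 0 → ∃ d : Fin 5, (r.1 * 3 ^ d.1) % 11 = 1 ∨ (r.1 * 3 ^ d.1) % 11 = 10 := by
  decide

/-- every automorphism can be normalised on a subgroup `11 : 5` by an inner automorphism -/
theorem reduce_aut {G : Type*} [Group G] [Finite G] (v w : G) (hv : v ^ 11 = 1) (hv1 : v ≠ 1)
    (h121 : ¬ 11 ^ 2 ∣ Nat.card G) (hwv : w * v * w⁻¹ = v ^ 3) (hw : w ^ 5 = 1) (hw1 : w ≠ 1)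
    (K : Subgroup G) (hK : ¬ 5 ^ 2 ∣ Nat.card K)
    (hN : ∀ y : G, (∃ k : ℕ, y * v * y⁻¹ = v ^ k) → y ∈ K) (α : MulAut G) :
    ∃ g : G, ((MulAut.conj g * α) v = v ∨ (MulAut.conj g * α) v = v ^ 10) ∧ (MulAut.conj g * α) w = w := by
  have hp11 : Nat.Prime 11 := by norm_num
  have : Fact (Nat.Prime 11) := ⟨hp11⟩
  have : Fact (Nat.Prime 5) := ⟨by norm_num⟩
  have hord : orderOf v = 11 := orderOf_eq_prime hv hv1
  obtain ⟨g₁, k, hk⟩ := Cfsg.Agent.Lib.Helper88.exists_conj_pow h121 hv hv1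
    (b := α v) (by rw [← map_pow, hv, map_one]) (fun h => hv1 (α.injective (by rw [h, map_one])))
  set α₁ : MulAut G := MulAut.conj g₁ * α with hα₁
  have h1v : α₁ v = v ^ k := by rw [hα₁, conj_mul_apply, hk]
  set N := normPow 11 hp11 v hv hv1 with hNdef
  have hwN : w ∈ N := mem_normPow hwv
  have hw1N : α₁ w ∈ N := by
    obtain ⟨e', he'⟩ := normalises_of_aut hp11 hv hv1 α₁ h1v hwv
    exact mem_normPow he'
  have hNK : N ≤ K := by
    rintro y ⟨e, he, _⟩
    exact hN y ⟨e, he⟩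
  have h25 : ¬ 5 ^ 2 ∣ Nat.card N := fun h => hK (h.trans (Subgroup.card_dvd_of_le hNK))
  obtain ⟨n, l, hl⟩ := Cfsg.Agent.Lib.Helper88.exists_conj_pow (H := ↥N) h25
    (a := ⟨w, hwN⟩) (b := ⟨α₁ w, hw1N⟩)
    (Subtype.ext (by simpa using hw)) (fun h => hw1 (by simpa using congrArg Subtype.val h))
    (Subtype.ext (by
      show (α₁ w) ^ 5 = 1
      rw [← map_pow, hw, map_one]))
    (fun h => hw1 (α₁.injective (by
      have := congrArg Subtype.val h
      rw [map_one]; exact this)))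
  have hl' : (n : G) * α₁ w * (n : G)⁻¹ = w ^ l := by
    have := congrArg Subtype.val hl
    simpa using this
  set α₂ : MulAut G := MulAut.conj (n : G) * α₁ with hα₂
  have h2w : α₂ w = w ^ (l % 5) := by
    rw [hα₂, conj_mul_apply, hl']
    conv_lhs => rw [← Nat.div_add_mod l 5, pow_add, pow_mul, hw, one_pow, one_mul]
  obtain ⟨e, he, _⟩ := n.2
  have h2v : α₂ v = v ^ (e * k) := by
    rw [hα₂, conj_mul_apply, h1v, ← conj_pow, he, ← pow_mul]
  set k₂ := e * k with hk₂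
  have hk2ne : ¬ 11 ∣ k₂ := by
    intro hd
    rw [← hord, orderOf_dvd_iff_pow_eq_one, ← h2v] at hd
    exact hv1 (α₂.injective (by rw [hd, map_one]))
  have hr : l % 5 < 5 := Nat.mod_lt _ (by norm_num)
  set r := l % 5 with hrdef
  have hrel : v ^ (3 ^ r * k₂) = v ^ (k₂ * 3) := by
    have h3 := congrArg α₂ hwv
    rw [map_mul, map_mul, map_inv, map_pow, h2w, h2v, ← conj_pow, conj_pow_pow hwv r, ← pow_mul, ← pow_mul] at h3
    exact h3
  rw [pow_eq_pow_iff_modEq, hord] at hrel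
  have hr1 : r = 1 := by
    unfold Nat.ModEq at hrel
    clear_value r k₂
    interval_cases r <;> first | rfl | (exfalso; norm_num at hrel; omega)
  rw [hr1, pow_one] at h2w
  -- the last normalisation
  have hk0 : (⟨k₂ % 11, Nat.mod_lt _ (by norm_num)⟩ : Fin 11) ≠ 0 := by
    intro h
    have := congrArg Fin.val h
    simp only [Fin.val_zero] at this
    exact hk2ne (Nat.dvd_of_mod_eq_zero this)
  obtain ⟨d, hd⟩ := arith11 _ hk0
  simp only at hd
  have hd' : (3 ^ d.1 * k₂) % 11 = 1 ∨ (3 ^ d.1 * k₂) % 11 = 10 := by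
    rw [mul_comm, Nat.mul_mod]
    rw [Nat.mul_mod, Nat.mod_mod] at hd
    exact hd
  set α₃ : MulAut G := MulAut.conj (w ^ d.1) * α₂ with hα₃
  have h3w : α₃ w = w := by
    rw [hα₃, conj_mul_apply, h2w, mul_inv_eq_iff_eq_mul, ← pow_succ, ← pow_succ']
  have h3v : α₃ v = v ^ ((3 ^ d.1 * k₂) % 11) := by
    rw [hα₃, conj_mul_apply, h2v, ← conj_pow, conj_pow_pow hwv, ← pow_mul]
    conv_lhs => rw [← Nat.div_add_mod (3 ^ d.1 * k₂) 11, pow_add, pow_mul, hv, one_pow, one_mul]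
  have hcomb : MulAut.conj (w ^ d.1 * (n : G) * g₁) * α = α₃ := by
    rw [hα₃, hα₂, hα₁, map_mul, map_mul, mul_assoc, mul_assoc]
  refine ⟨w ^ d.1 * (n : G) * g₁, ?_, ?_⟩
  · rw [hcomb, h3v]
    rcases hd' with h | h
    · left; rw [h, pow_one]
    · right; rw [h]
  · rw [hcomb, h3w]

theorem card_out_two_of {G : Type*} [Group G] (γ : MulAut G) (hγ : γ ∉ Cfsg.Inn G)
    (h : ∀ α : MulAut G, ∃ g : G, MulAut.conj g * α = 1 ∨ MulAut.conj g * α = γ) :
    Nat.card (Cfsg.Out G) = 2 := by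
  show (Cfsg.Inn G).index = 2
  have hc : ∀ g : G, MulAut.conj g ∈ Cfsg.Inn G := fun g => ⟨g, rfl⟩
  have hγγ : γ * γ ∈ Cfsg.Inn G := by
    obtain ⟨g, hg | hg⟩ := h (γ * γ)
    · have : γ * γ = (MulAut.conj g)⁻¹ := eq_inv_of_mul_eq_one_right hg
      rw [this]; exact inv_mem (hc g)
    · exfalso
      apply hγ
      have h2 : MulAut.conj g * γ = 1 := by
        have : (MulAut.conj g * γ) * γ = 1 * γ := by rw [mul_assoc, hg, one_mul]
        exact mul_right_cancel this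
      have : γ = (MulAut.conj g)⁻¹ := eq_inv_of_mul_eq_one_right h2
      rw [this]; exact inv_mem (hc g)
  rw [Subgroup.index_eq_two_iff]
  refine ⟨γ, fun β => ?_⟩
  obtain ⟨g, hg | hg⟩ := h β
  · have hb : β ∈ Cfsg.Inn G := by
      have : β = (MulAut.conj g)⁻¹ := eq_inv_of_mul_eq_one_right hg
      rw [this]; exact inv_mem (hc g)
    right
    refine ⟨hb, fun h2 => hγ ?_⟩
    have : γ = β⁻¹ * (β * γ) := by group
    rw [this]; exact mul_mem (inv_mem hb) h2
  · have hb : β = (MulAut.conj g)⁻¹ * γ := by rw [← hg]; group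
    left
    refine ⟨?_, fun h2 => hγ ?_⟩
    · rw [hb, mul_assoc]; exact mul_mem (inv_mem (hc g)) hγγ
    · rw [← hg]; exact mul_mem (hc g) h2

end Cfsg.Agent.Lib.Helper33
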