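import Cfsg.Agent.Lib.Helper33.OutCert
import Cfsg.Agent.Lib.Helper33.Oc2L1
import Cfsg.Agent.Lib.Helper33.Oc2L2

set_option autoImplicit false
set_option maxRecDepth 1000000

/-!
All automorphisms of the stabiliser of a vector of the shortest length are inner.
-/

namespace Cfsg.Agent.Lib.Helper33

open Cfsg MulAction Cfsg.Agent.Lib.Helper9 Cfsg.Agent.Lib.Helper11 Cfsg.Agent.Lib.Helper88
  Cfsg.Agent.Lib.Helper88.OChains Cfsg.Agent.Lib.Helper94

theorem oc2_m1 : allBelow (fun k => mvOK (matAt oc2G1 k) pX0 pX0 && mvOK (matAt oc2G1 k) pV pV) 6 = true := by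
  decide +kernel

theorem oc2_m2 : allBelow (fun k => mvOK (matAt oc2G2 k) pX0 pX0 && (mvOK (matAt oc2G2 k) pV pV &&
    mvOK (matAt oc2G2 k) pU1 pU1)) 6 = true := by decide +kernel

theorem oc2_m3 : mvOK (matAt oc2G2 6) pU1 pU1 = true := by decide +kernel

theorem oc2_p1 : prodOK (matAt oc2G2 4) (matAt oc2G1 6) (matAt oc2G3 0) = true := by decide +kernel

theorem oc2_p2 : prodOK (matAt oc2G1 6) (matAt oc2G3 0) (matAt oc2G2 6) = true := by decide +kernel

theorem oc2_ix : mvOK (matAt oc2G1 6) pX2 pX2 = true := by decide +kernel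

theorem oc2_i0 : mvOK (matAt oc2G1 6) pX0 pZ2 = true := by decide +kernel

theorem oc2_rv : relOK (matAt oc2G1 6) chBc (powM chBc 10) = true := by decide +kernel

theorem oc2_rw : relOK (matAt oc2G1 6) chDc chDc = true := by decide +kernel

theorem lX2_L2 : lX2 ∈ L2 := by
  rw [mem_L2_iff, ← lv_pX2, ldot_cst pX2_ok pX2_ok 10784 (by decide +kernel)]
  norm_num

theorem data2 : OutData lX2 (lv pZ2) (coEl (matAt oc2G1 6)) 10 := by
  have hCo0 := Cfsg.Agent.Lib.Helper11.card_Co0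
  have hco := (gensOK_spec oc2G1_ok 6 (by norm_num)).2
  obtain ⟨g1, g2⟩ := gens_mem oc2G1 oc2G2 oc2G3 pU1 oc2G1_ok oc2G2_ok oc2G3_ok pU1_ok oc2_m1 oc2_m2 oc2_m3
    oc2_p1 oc2_p2
  have ix : coEl (matAt oc2G1 6) • lX2 = lX2 := by
    have := move_of_mvOK oc2G1_ok (k := 6) (by norm_num) pX2_ok pX2_ok oc2_ix
    rwa [lv_pX2] at this
  have hN : Nat.card ↥(stabilizer ↥Co0 lX2) = 42305421312000 := by
    rw [card_stab_conj (to_la0 lX2_L2), card_co2 hCo0]
  refine ⟨iota_X2, V_of_X2, fun z h1 h2 h3 => fix2 z h1 h2 (by rw [h3, ldot_X2_x0]), pZ2_ne, ix, ?_, ?_, ?_,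
    ?_, ?_, ?_⟩
  · have := move_of_mvOK oc2G1_ok (k := 6) (by norm_num) pX0_ok pZ2_ok oc2_i0
    rwa [lv_pX0] at this
  · apply rel_of_table hco
    rw [Subgroup.coe_pow, code_pow, code_vB]
    exact oc2_rv
  · apply rel_of_table hco
    rw [code_wD]
    exact oc2_rw
  · apply gen_of_orbits hCo0 lX2 Spor.leechU' Spor.leechU _ 4600 20736 iota_X2 ix (Or.inr ⟨rfl, rfl⟩)
    · have := orbit_lower oc2L1Mem 4600 oc2G1 oc2L1R oc2L1Rts 4 _ oc2L1_mem oc2G1_ok g1 oc2L1_rt oc2L1_nodes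
      have e : lv (decV (get3 oc2L1Mem 20 (fld20 oc2L1Rts 0))) = Spor.leechU' := by
        show lv (oc2L1Nd (fld20 oc2L1Rts 0)) = _
        rw [oc2L1_root]
        exact lv_pU1
      rwa [e] at this
    · rw [lv_pU1] at g2
      have := orbit_lower oc2L2Mem 20736 oc2G2 oc2L2R oc2L2Rts 4 _ oc2L2_mem oc2G2_ok g2 oc2L2_rt oc2L2_nodes
      have e : lv (decV (get3 oc2L2Mem 20 (fld20 oc2L2Rts 0))) = Spor.leechU := by
        show lv (oc2L2Nd (fld20 oc2L2Rts 0)) = _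
        rw [oc2L2_root]
        exact lv_pU
      rwa [e] at this
    · rw [hN]
  · rw [hN]; norm_num
  · rw [hN]; norm_num

theorem inner_co2' : ∀ α : MulAut ↥(stabilizer ↥Co0 lX2), ∃ g, ∀ y, α y = g * y * g⁻¹ := by
  have := finite_co0 Cfsg.Agent.Lib.Helper11.card_Co0
  exact inner_of_outData data2

/-- the stabiliser, as a subgroup of the group of all permutations of the lattice -/
def outEquivCo2 : ↥(stabilizer ↥Co0 Spor.leechU) ≃* ↥Spor.Co2 where
  toFun g := ⟨g.1.1, g.1.2, g.2⟩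
  invFun g := ⟨⟨g.1, g.2.1⟩, g.2.2⟩
  left_inv _ := rfl
  right_inv _ := rfl
  map_mul' _ _ := rfl

theorem exists_X2_U : ∃ g : ↥Co0, g • lX2 = Spor.leechU := by
  obtain ⟨g1, h1⟩ := to_la0 lX2_L2
  obtain ⟨g2, h2⟩ := to_la0 ((mem_L2_iff _).2 dUU)
  exact ⟨g2⁻¹ * g1, by rw [mul_smul, h1, inv_smul_eq_iff, h2]⟩

theorem card_out_co2 : Nat.card (Cfsg.Out ↥Spor.Co2) = 1 := by
  obtain ⟨g, hg⟩ := exists_X2_U
  exact card_out_of_inner (inner_congr ((stabilizerEquivStabilizer hg.symm).trans outEquivCo2) inner_co2')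

end Cfsg.Agent.Lib.Helper33
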