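import Cfsg.Agent.Lib.Helper33.OutRig
import Cfsg.Agent.Lib.Helper33.OutCo2
import Cfsg.Agent.Lib.Helper9.CoCenter

set_option autoImplicit false
set_option maxRecDepth 100000

/-!
Abstract tools for the automorphisms of the quotient of the full automorphism group of the lattice by its centre.
-/

namespace Cfsg.Agent.Lib.Helper33

open Subgroup

theorem inner_of_data_set {G M₀ : Type*} [Group G] [Finite G] [Group M₀] (f : M₀ →* G)
    (hf : Function.Injective f) (p q r : ℕ) (hp : p.Prime) (hq : q.Prime)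
    (u v w : M₀) (hgen : closure ({u, v, w} : Set M₀) = ⊤)
    (hu : u ^ p = 1) (hu1 : u ≠ 1) (hpG : ¬ p ^ 2 ∣ Nat.card G)
    (hv : v ^ q = 1) (hv1 : v ≠ 1) (hqG : ¬ q ^ 2 ∣ Nat.card G)
    (hvu : ∃ m : ℕ, v * u * v⁻¹ = u ^ m)
    (hwv : ∃ e : ℕ, w * v * w⁻¹ = v ^ e) (hw : w ^ r = 1)
    (hodd : ∀ y : G, (∃ k : ℕ, y * f v * y⁻¹ = f v ^ k) → y ^ r = 1 → y ∈ f.range)
    (hinn : ∀ β : MulAut M₀, ∃ m : M₀, ∀ x, β x = m * x * m⁻¹)
    (I : Set G) (hfix : ∀ β : MulAut G, (∀ x, β (f x) = f x) → ∀ i ∈ I, β i = i)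
    (hG : closure (Set.range f ∪ I) = ⊤) (α : MulAut G) :
    ∃ g : G, ∀ x, α x = g * x * g⁻¹ := by
  have : Fact p.Prime := ⟨hp⟩
  have : Fact q.Prime := ⟨hq⟩
  have hfu : f u ^ p = 1 := by rw [← map_pow, hu, map_one]
  have hfu1 : f u ≠ 1 := fun h => hu1 (hf (by rw [h, map_one]))
  have hfv : f v ^ q = 1 := by rw [← map_pow, hv, map_one]
  have hfv1 : f v ≠ 1 := fun h => hv1 (hf (by rw [h, map_one]))
  -- step 1
  obtain ⟨g₁, k, hk⟩ := Cfsg.Agent.Lib.Helper88.exists_conj_pow hpG hfu hfu1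
    (b := α (f u)) (by rw [← map_pow, hfu, map_one]) (fun h => hfu1 (α.injective (by rw [h, map_one])))
  set α₁ : MulAut G := MulAut.conj g₁ * α with hα₁
  have h1u : α₁ (f u) = f u ^ k := by rw [hα₁, conj_mul_apply, hk]
  -- step 2: inside the normaliser of `⟨f u⟩`
  let N : Subgroup G :=
    { carrier := {y | ∃ e : ℕ, y * f u * y⁻¹ = f u ^ e ∧ f u ^ e ≠ 1}
      one_mem' := ⟨1, by simp, by simpa using hfu1⟩
      mul_mem' := by
        rintro a b ⟨e, he, he1⟩ ⟨e', he', he1'⟩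
        refine ⟨e * e', ?_, ?_⟩
        · have : a * b * f u * (a * b)⁻¹ = a * (b * f u * b⁻¹) * a⁻¹ := by group
          rw [this, he', ← conj_pow, he, ← pow_mul]
        · intro h
          apply he1'
          have h2 : a * (f u ^ e') * a⁻¹ = 1 := by rw [← conj_pow, he, ← pow_mul, h]
          have h3 : f u ^ e' = a⁻¹ * 1 * a := by rw [← h2]; group
          rw [h3]; group
      inv_mem' := by
        rintro a ⟨e, he, he1⟩
        obtain ⟨s, hs⟩ := pow_gen_of_prime hp hfu he1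
        refine ⟨s, ?_, ?_⟩
        · have h2 : a * f u ^ s * a⁻¹ = f u := by rw [← conj_pow, he, hs]
          have h3 : f u ^ s = a⁻¹ * (a * f u ^ s * a⁻¹) * a := by group
          rw [h2] at h3
          rw [inv_inv, h3]
        · intro h
          apply hfu1
          rw [← hs, ← pow_mul, mul_comm, pow_mul, h, one_pow] }
  have hN : ∀ y, y ∈ N ↔ ∃ e : ℕ, y * f u * y⁻¹ = f u ^ e ∧ f u ^ e ≠ 1 := fun y => Iff.rfl
  have conj_ne : ∀ y : G, y * f u * y⁻¹ ≠ 1 := by
    intro y h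
    apply hfu1
    have : f u = y⁻¹ * 1 * y := by rw [← h]; group
    rw [this]; group
  have hvN : f v ∈ N := by
    obtain ⟨m, hm⟩ := hvu
    have : f v * f u * (f v)⁻¹ = f u ^ m := by rw [← map_inv, ← map_mul, ← map_mul, hm, map_pow]
    exact ⟨m, this, this ▸ conj_ne _⟩
  have hv1N : α₁ (f v) ∈ N := by
    obtain ⟨m, hm, _⟩ := hvN
    obtain ⟨e', he'⟩ := normalises_of_aut hp hfu hfu1 α₁ h1u hm
    exact ⟨e', he', he' ▸ conj_ne _⟩
  have hqN : ¬ q ^ 2 ∣ Nat.card N := fun h => hqG (h.trans (Subgroup.card_subgroup_dvd_card N))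
  obtain ⟨n, l, hl⟩ := Cfsg.Agent.Lib.Helper88.exists_conj_pow (H := ↥N) hqN
    (a := ⟨f v, hvN⟩) (b := ⟨α₁ (f v), hv1N⟩)
    (Subtype.ext (by simpa using hfv)) (fun h => hfv1 (by simpa using congrArg Subtype.val h))
    (Subtype.ext (by
      show (α₁ (f v)) ^ q = 1
      rw [← map_pow, hfv, map_one]))
    (fun h => hfv1 (α₁.injective (by
      have := congrArg Subtype.val h
      rw [map_one]; exact this)))
  have hl' : (n : G) * α₁ (f v) * (n : G)⁻¹ = f v ^ l := by
    have := congrArg Subtype.val hl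
    simpa using this
  set α₂ : MulAut G := MulAut.conj (n : G) * α₁ with hα₂
  have h2v : α₂ (f v) = f v ^ l := by rw [hα₂, conj_mul_apply, hl']
  have h2u : α₂ (f u) ∈ f.range := by
    obtain ⟨e, he, _⟩ := n.2
    rw [hα₂, conj_mul_apply, h1u, ← conj_pow, he, ← pow_mul, ← map_pow]
    exact ⟨_, rfl⟩
  -- step 3
  have h2w : α₂ (f w) ∈ f.range := by
    apply hodd
    · obtain ⟨e, he⟩ := hwv
      have : f w * f v * (f w)⁻¹ = f v ^ e := by rw [← map_inv, ← map_mul, ← map_mul, he, map_pow]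
      exact normalises_of_aut hq hfv hfv1 α₂ h2v this
    · rw [← map_pow, ← map_pow, hw, map_one, map_one]
  -- step 4
  have hle : ∀ x : M₀, α₂ (f x) ∈ f.range := by
    intro x
    have hx : x ∈ closure ({u, v, w} : Set M₀) := by rw [hgen]; trivial
    induction hx using Subgroup.closure_induction with
    | mem x hx =>
      rcases hx with rfl | rfl | rfl
      · exact h2u
      · rw [h2v, ← map_pow]; exact ⟨_, rfl⟩
      · exact h2w
    | one => rw [map_one, map_one]; exact one_mem _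
    | mul x y _ _ hx hy => rw [map_mul, map_mul]; exact mul_mem hx hy
    | inv x _ hx => rw [map_inv, map_inv]; exact inv_mem hx
  have : Finite M₀ := Finite.of_injective f hf
  choose φ hφ using hle
  have hφinj : Function.Injective φ := by
    intro x y h
    apply hf
    apply α₂.injective
    rw [← hφ, ← hφ, h]
  have hφbij : Function.Bijective φ := ⟨hφinj, Finite.surjective_of_injective hφinj⟩
  let β : MulAut M₀ := MulEquiv.ofBijective
    (MonoidHom.mk' φ (by
      intro x y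
      apply hf
      rw [map_mul, hφ, hφ, hφ, map_mul, map_mul])) hφbij
  obtain ⟨m, hm⟩ := hinn β
  have hm' : ∀ x, α₂ (f x) = f m * f x * (f m)⁻¹ := by
    intro x
    have h3 : β x = φ x := rfl
    rw [← hφ, ← h3, hm, map_mul, map_mul, map_inv]
  set α₃ : MulAut G := MulAut.conj (f m)⁻¹ * α₂ with hα₃
  have h3 : ∀ x, α₃ (f x) = f x := by
    intro x
    rw [hα₃, conj_mul_apply, hm']
    group
  have h3i : ∀ i ∈ I, α₃ i = i := hfix α₃ h3
  have h3all : ∀ x, α₃ x = x := by
    intro x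
    have hx : x ∈ closure (Set.range f ∪ I) := by rw [hG]; trivial
    induction hx using Subgroup.closure_induction with
    | mem x hx =>
      rcases hx with ⟨y, rfl⟩ | hx
      · exact h3 y
      · exact h3i x hx
    | one => exact map_one _
    | mul x y _ _ hx hy => rw [map_mul, hx, hy]
    | inv x _ hx => rw [map_inv, hx]
  refine ⟨g₁⁻¹ * (n : G)⁻¹ * f m, fun x => ?_⟩
  have := h3all x
  rw [hα₃, conj_mul_apply, hα₂, conj_mul_apply, hα₁, conj_mul_apply] at this
  have e : α x = g₁⁻¹ * ((n : G)⁻¹ * (f m * ((f m)⁻¹ * (↑n * (g₁ * α x * g₁⁻¹) * (↑n)⁻¹) * (f m)⁻¹⁻¹) * (f m)⁻¹) * ↑n) * g₁ := by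
    group
  rw [e, this]
  group

end Cfsg.Agent.Lib.Helper33

namespace Cfsg.Agent.Lib.Helper33

open Cfsg MulAction Cfsg.Agent.Lib.Helper9 Cfsg.Agent.Lib.Helper11 Matrix

/-! ### overgroups of the stabiliser of a shortest vector -/

theorem neg_mem_C1' {τ : ℤ} {a y : ↥leechLattice} (h : y ∈ C1 τ a) : -y ∈ C1 (-τ) a := by
  refine ⟨?_, ?_⟩
  · rw [mem_L2_iff, ldot_neg_left, ldot_neg_right, neg_neg]
    exact (mem_L2_iff y).1 h.1
  · show ldot a (-y) = -τ
    rw [ldot_neg_right]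
    exact congrArg Neg.neg h.2

theorem OrbCls.negC1' {τ : ℤ} {a₀ : ↥leechLattice} {m : ℕ} (D : OrbCls ↥Co0 (C1 τ) a₀ m) :
    OrbCls ↥Co0 (C1 (-τ)) a₀ m := by
  refine ⟨C1_equi _, ?_, ?_⟩
  · intro y hy z hz
    have hy' := neg_mem_C1' hy
    have hz' := neg_mem_C1' hz
    rw [neg_neg] at hy' hz'
    obtain ⟨h, h0, h1⟩ := D.trans _ hy' _ hz'
    refine ⟨h, h0, ?_⟩
    rw [co0_smul_neg] at h1
    exact neg_injective h1
  · rw [← D.count]
    have : C1 (-τ) a₀ = (fun y => -y) '' C1 τ a₀ := by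
      ext y
      constructor
      · intro hy
        have hy' := neg_mem_C1' hy
        rw [neg_neg] at hy'
        exact ⟨-y, hy', neg_neg y⟩
      · rintro ⟨z, hz, rfl⟩
        exact neg_mem_C1' hz
    rw [this, Set.ncard_image_of_injective _ neg_injective]

theorem cls32' {a₀ : ↥leechLattice} (ha : a₀ ∈ L2) : OrbCls ↥Co0 (C1 32) a₀ 1 := by
  refine ⟨C1_equi _, ?_, ?_⟩
  · intro y hy z hz
    refine ⟨1, one_smul _ _, ?_⟩
    rw [one_smul, eq_of_ldot_32 ha hy.1 hy.2, eq_of_ldot_32 ha hz.1 hz.2]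
  · have : C1 32 a₀ = {a₀} := by
      ext y
      constructor
      · intro hy
        exact eq_of_ldot_32 ha hy.1 hy.2
      · rintro rfl
        exact ⟨ha, (mem_L2_iff _).1 ha⟩
    rw [this, Set.ncard_singleton]

def d1Vals : Finset ℤ := {32, -32, 16, -16, 8, -8, 0}
def d1C (τ : ℤ) : ℕ :=
  if τ = 32 then 1 else if τ = -32 then 1 else if τ = 16 then 4600 else if τ = -16 then 4600
  else if τ = 8 then 47104 else if τ = -8 then 47104 else if τ = 0 then 93150 else 0

theorem d1_cls : ∀ τ ∈ d1Vals, OrbCls ↥Co0 (C1 τ) (lv bA0) (d1C τ) := by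
  have c0 : OrbCls ↥Co0 (C1 0) (lv bA0) 93150 := by rw [← lv0_eq]; exact cls0
  have c16 : OrbCls ↥Co0 (C1 (-16)) (lv bA0) 4600 := by rw [← lv0_eq]; exact clsm16
  intro τ hτ
  simp only [d1Vals, Finset.mem_insert, Finset.mem_singleton] at hτ
  rcases hτ with rfl | rfl | rfl | rfl | rfl | rfl | rfl
  · exact cls32' bA0_L2
  · exact (cls32' bA0_L2).negC1'
  · have := c16.negC1'
    rwa [neg_neg] at this
  · exact c16
  · have := clsm8'.negC1'
    rwa [neg_neg] at this
  · exact clsm8'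
  · exact c0

/-- a subgroup containing the stabiliser of a shortest vector `a`, minus the identity, and an element not mapping
`a` to `a` or `-a`, is the full group -/
theorem top_of_stab_le (hCo0 : Nat.card ↥Co0 = 8315553613086720000) {a : ↥leechLattice} (ha : a ∈ L2)
    (H : Subgroup ↥Co0) (hle : stabilizer ↥Co0 a ≤ H) (hneg : negEl ∈ H) (h : ↥Co0) (hh : h ∈ H)
    (h1 : h • a ≠ a) (h2 : h • a ≠ -a) : H = ⊤ := by
  classical
  have hfin := finite_co0 hCo0
  have hconj := to_la0 ha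
  have horb : orbit ↥Co0 a = L2 := orbit_L2 ha
  have hfinL : L2.Finite := by rw [← horb]; exact Set.finite_range _
  have hcount : ∀ τ ∈ d1Vals, {y | y ∈ L2 ∧ ldot a y = τ}.ncard = d1C τ :=
    fun τ hτ => (d1_cls τ hτ).count' hconj
  have hvals : ∀ y ∈ L2, ldot a y ∈ d1Vals :=
    fiber_cover L2 hfinL (fun y => ldot a y) d1Vals (by
      rw [Finset.sum_congr rfl hcount, L2_ncard]; decide)
  let T := d1Vals.filter (fun τ => ∃ y ∈ orbit H a, ldot a y = τ)
  have hT : T ⊆ d1Vals := Finset.filter_subset _ _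
  have hsub : orbit H a ⊆ L2 := by rw [← horb]; exact orbit_sub_subset H a
  have hO : orbit H a = {y | y ∈ L2 ∧ ldot a y ∈ T} := by
    ext y
    constructor
    · intro hy
      exact ⟨hsub hy, Finset.mem_filter.2 ⟨hvals y (hsub hy), y, hy, rfl⟩⟩
    · rintro ⟨hy, hyT⟩
      obtain ⟨hτ, y', hy', e⟩ := Finset.mem_filter.1 hyT
      obtain ⟨k, hk, hk'⟩ := (d1_cls _ hτ).trans' hconj (y := y') (z := y) ⟨hsub hy', e⟩ ⟨hy, rfl⟩
      obtain ⟨n, hn⟩ := hy'
      have hn' : (n : ↥Co0) • a = y' := hn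
      refine ⟨⟨k, hle (mem_stabilizer_iff.2 hk)⟩ * n, ?_⟩
      show (k * (n : ↥Co0)) • a = y
      rw [mul_smul, hn']
      exact hk'
  have hc : (orbit H a).ncard = ∑ τ ∈ T, d1C τ := by
    rw [hO, ncard_fibers _ hfinL]
    exact Finset.sum_congr rfl (fun τ hτ => hcount τ (hT hτ))
  have h32 : (32 : ℤ) ∈ T := by
    have e : ldot a a = 32 := (mem_L2_iff _).1 ha
    exact Finset.mem_filter.2 ⟨by decide, a, mem_orbit_self a, e⟩
  have hdvd : (∑ τ ∈ T, d1C τ) ∣ 196560 := by
    rw [← hc]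
    have e1 := card_eq_orbit_mul H a
    have e2 := card_eq_orbit_mul' (G := ↥Co0) a
    rw [horb, L2_ncard] at e2
    have e3 : H ⊓ stabilizer ↥Co0 a = stabilizer ↥Co0 a := inf_eq_right.2 hle
    rw [e3] at e1
    have e4 : Nat.card H ∣ Nat.card ↥Co0 := Subgroup.card_subgroup_dvd_card H
    rw [e1, e2] at e4
    have hpos : 0 < Nat.card ↥(stabilizer ↥Co0 a) := Nat.card_pos
    exact Nat.dvd_of_mul_dvd_mul_left hpos e4
  have harith : ∀ T ∈ d1Vals.powerset, (32 : ℤ) ∈ T → (∑ τ ∈ T, d1C τ) ∣ 196560 →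
      (∑ τ ∈ T, d1C τ) = 1 ∨ (∑ τ ∈ T, d1C τ) = 2 ∨ (∑ τ ∈ T, d1C τ) = 196560 := by decide +kernel
  have hc3 := harith T (Finset.mem_powerset.2 hT) h32 hdvd
  rw [← hc] at hc3
  have hne0 : a ≠ -a := by
    intro e
    have e1 : ldot a a = 32 := (mem_L2_iff _).1 ha
    have e2 : ldot a (-a) = -32 := by rw [ldot_neg_right, e1]
    rw [← e, e1] at e2
    norm_num at e2
  have h3 : 3 ≤ (orbit H a).ncard := by
    have hs : ({a, -a, h • a} : Set ↥leechLattice) ⊆ orbit H a := by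
      rintro y (rfl | rfl | rfl)
      · exact mem_orbit_self _
      · exact ⟨⟨negEl, hneg⟩, negEl_apply a⟩
      · exact ⟨⟨h, hh⟩, rfl⟩
    have hcard : ({a, -a, h • a} : Set ↥leechLattice).ncard = 3 := by
      rw [Set.ncard_eq_three]
      exact ⟨a, -a, h • a, hne0, fun e => h1 e.symm, fun e => h2 e.symm, rfl⟩
    rw [← hcard]
    exact Set.ncard_le_ncard hs (Set.finite_range _)
  have e4 : (orbit H a).ncard = 196560 := by omega
  have e5 : orbit H a = L2 := by
    apply Set.eq_of_subset_of_ncard_le hsub _ hfinL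
    rw [e4, L2_ncard]
  rw [eq_top_iff]
  intro k _
  have : k • a ∈ orbit H a := by rw [e5]; exact L2_smul k a ha
  obtain ⟨n, hn⟩ := this
  have hn' : (n : ↥Co0) • a = k • a := hn
  have h3 : (n : ↥Co0)⁻¹ * k ∈ stabilizer ↥Co0 a := by
    rw [mem_stabilizer_iff, mul_smul, ← hn', inv_smul_smul]
  have := H.mul_mem n.2 (hle h3)
  rwa [mul_inv_cancel_left] at this

/-! ### words -/

/-- certificate: a word does not act as plus or minus the identity -/
noncomputable def pmChk (G : ℕ) (W : List ℕ) (k : ℕ) : Bool :=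
  Nat.blt k 24 && runK G (fun z => !(Nat.beq (dg z k) 16) && !(Nat.beq (dg z k) 0)) W.reverse (e8v k)

theorem not_center_of_chk {G np : ℕ} (hG : gensOK G np = true) {W : List ℕ} (hW : ∀ l ∈ W, l < 2 * np) {k : ℕ}
    (h : pmChk G W k = true) : ev (fun l => coEl (matAt G l)) W ∉ Subgroup.center ↥Co0 := by
  rw [pmChk, Bool.and_eq_true] at h
  have hk : k < 24 := blt_iff.1 h.1
  obtain ⟨z', k1, k2, k3, k4⟩ := runK_spec hG _ W.reverse (e8v k) (fun l hl => hW l (List.mem_reverse.1 hl))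
    (vecOK_spec (e8v_ok k hk)) (e8v_mem hk) h.2
  rw [List.reverse_reverse] at k4
  rw [Bool.and_eq_true, Bool.not_eq_true', Bool.not_eq_true'] at k1
  have c0 : ((lv z' : ↥leechLattice) : GolayPt → ℤ) (pt k) = (dg z' k : ℤ) - 8 := by
    rw [lv_coe k3]
    show (dg z' (idx (pt k)) : ℤ) - 8 = _
    rw [idx_pt hk]
  have c1 : ((lv (e8v k) : ↥leechLattice) : GolayPt → ℤ) (pt k) = 8 := by
    rw [lv_coe (e8v_mem hk)]
    show (dg (e8v k) (idx (pt k)) : ℤ) - 8 = _
    rw [idx_pt hk, e8v_dg k hk k hk, if_pos rfl]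
    norm_num
  intro hc
  rcases center_cases _ hc with h1 | h1
  · rw [h1, one_smul] at k4
    rw [← k4, c1] at c0
    have : dg z' k = 16 := by omega
    rw [this] at k1
    exact absurd k1.1 (by decide)
  · rw [h1, negEl_apply] at k4
    have c2 : ((-(lv (e8v k)) : ↥leechLattice) : GolayPt → ℤ) (pt k) = -8 := by
      show -(((lv (e8v k) : ↥leechLattice) : GolayPt → ℤ) (pt k)) = -8
      rw [c1]
    rw [← k4, c2] at c0
    have : dg z' k = 0 := by omega
    rw [this] at k1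
    exact absurd k1.2 (by decide)

/-- the image of a packed vector under a word -/
theorem move_word {G np : ℕ} (hG : gensOK G np = true) {W : List ℕ} (hW : ∀ l ∈ W, l < 2 * np) {a b : ℕ}
    (ha : cstOK a = true) (h : runK G (fun z => Nat.beq z b) W.reverse a = true) :
    ev (fun l => coEl (matAt G l)) W • lv a = lv b := by
  obtain ⟨z', k1, _, _, k4⟩ := runK_spec hG _ W.reverse a (fun l hl => hW l (List.mem_reverse.1 hl))
    (cst_small ha) (cst_mem ha) h
  rw [List.reverse_reverse] at k4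
  rw [k4, Nat.eq_of_beq_eq_true k1]

theorem eq_neg_of_ldot {a b : ↥leechLattice} {n : ℤ} (ha : ldot a a = n) (hb : ldot b b = n)
    (h : ldot a b = -n) : b = -a := by
  have h0 : ldot (b + a) (b + a) = 0 := by
    rw [ldot_add_right, ldot_comm (b + a) b, ldot_comm (b + a) a, ldot_add_right, ldot_add_right, hb, ha,
      ldot_comm b a, h]
    ring
  rw [ldot_self] at h0
  have h1 : ((b + a : ↥leechLattice) : GolayPt → ℤ) = 0 := by
    funext p
    unfold sqNorm at h0
    have := (Finset.sum_eq_zero_iff_of_nonneg (fun i _ => sq_nonneg _)).1 h0 p (Finset.mem_univ p)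
    exact pow_eq_zero_iff (two_ne_zero) |>.1 this
  have h2 : b + a = 0 := Subtype.ext h1
  exact eq_neg_of_add_eq_zero_left h2

/-! ### lifting from the quotient by the centre -/

theorem negEl_sq : negEl * negEl = 1 := by
  apply Helper9.co0_ext
  intro v
  rw [mul_smul, negEl_apply, negEl_apply, neg_neg, one_smul]

theorem negEl_center : negEl ∈ Subgroup.center ↥Co0 := Subgroup.mem_center_iff.2 negEl_comm

theorem negEl_pow_odd {n : ℕ} (hn : Odd n) : negEl ^ n = negEl := by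
  obtain ⟨m, rfl⟩ := hn
  rw [pow_succ, pow_mul, pow_two, negEl_sq, one_pow, one_mul]

theorem lift_eq {a b : ↥Co0} {n : ℕ} (hn : Odd n) (ha : a ^ n = 1) (hb : b ^ n = 1)
    (h : (QuotientGroup.mk a : ↥Co0 ⧸ Subgroup.center ↥Co0) = QuotientGroup.mk b) : a = b := by
  have hc : a⁻¹ * b ∈ Subgroup.center ↥Co0 := QuotientGroup.eq.1 h
  rcases center_cases _ hc with h1 | h1
  · exact (inv_mul_eq_one.1 h1)
  · exfalso
    have e : b = a * negEl := by rw [← h1]; group
    have e2 : b ^ n = a ^ n * negEl ^ n := by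
      rw [e]
      exact (show Commute a negEl from negEl_comm a).mul_pow n
    rw [hb, ha, one_mul, negEl_pow_odd hn] at e2
    exact negEl_ne_one e2.symm

end Cfsg.Agent.Lib.Helper33
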