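import Cfsg.Agent.Lib.Helper33.Oc1Gen

set_option autoImplicit false
set_option maxRecDepth 100000

/-!
The vectors of the lattice fixed by the element of order 11, and the elements of order 5 normalising it.
-/

namespace Cfsg.Agent.Lib.Helper33

open Cfsg MulAction Cfsg.Agent.Lib.Helper9 Cfsg.Agent.Lib.Helper11 Matrix

theorem dot_four4 (a b c d a' b' c' d' : ℤ) :
    dotInt (fourVec a b c d) (fourVec a' b' c' d') = a * a' + b * b' + 11 * (c * c') + 11 * (d * d') := by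
  unfold dotInt fourVec
  rw [sum_idx (fun j => fourFn a b c d j * fourFn a' b' c' d' j)]
  simp only [Finset.sum_range_succ, Finset.sum_range_zero]
  simp [fourFn, clsB]
  ring

def waFn (j : ℕ) : ℤ := if j = 0 ∨ j = 7 then 2 else if j ∈ [1, 2, 3, 4, 10, 12] then -2 else 0

theorem wa_vec : ∀ p : GolayPt, vec pWa p = waFn (idx p) := by decide +kernel

theorem dotWa (a b c d : ℤ) : dotInt (vec pWa) (fourVec a b c d) = 2 * b - 10 * c := by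
  unfold dotInt fourVec
  simp only [wa_vec]
  rw [sum_idx (fun j => waFn j * fourFn a b c d j)]
  simp only [Finset.sum_range_succ, Finset.sum_range_zero]
  simp [waFn, fourFn, clsB]
  ring

def wbFn (j : ℕ) : ℤ := if j = 0 then -3 else 1

theorem wb_vec : ∀ p : GolayPt, vec pWb p = wbFn (idx p) := by decide +kernel

theorem dotWb (a b c d : ℤ) : dotInt (vec pWb) (fourVec a b c d) = a - 3 * b + 11 * c + 11 * d := by
  unfold dotInt fourVec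
  simp only [wb_vec]
  rw [sum_idx (fun j => wbFn j * fourFn a b c d j)]
  simp only [Finset.sum_range_succ, Finset.sum_range_zero]
  simp [wbFn, fourFn, clsB]
  ring

/-- the twelve fixed vectors of type 4 -/
def q4 (i : ℕ) : ℤ × ℤ × ℤ × ℤ :=
  [(8, 0, 0, 0), (4, -2, 2, 0), (4, 2, -2, 0), (2, 4, 0, -2), (2, -4, 0, -2), (0, -8, 0, 0),
   (-8, 0, 0, 0), (-4, 2, -2, 0), (-4, -2, 2, 0), (-2, -4, 0, 2), (-2, 4, 0, 2), (0, 8, 0, 0)].getD i (0, 0, 0, 0)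

def fv4 (q : ℤ × ℤ × ℤ × ℤ) : GolayPt → ℤ := fourVec q.1 q.2.1 q.2.2.1 q.2.2.2

def g4 (i j : ℕ) : ℤ :=
  (q4 i).1 * (q4 j).1 + (q4 i).2.1 * (q4 j).2.1 + 11 * ((q4 i).2.2.1 * (q4 j).2.2.1) +
    11 * ((q4 i).2.2.2 * (q4 j).2.2.2)

theorem fvT : ∀ i < 12, ∀ p, fv4 (q4 i) p = vec (f384 oc1T i) p := by decide +kernel

theorem arith64 : ∀ a ∈ Finset.Icc (-8 : ℤ) 8, ∀ b ∈ Finset.Icc (-8 : ℤ) 8, ∀ c ∈ Finset.Icc (-2 : ℤ) 2,
    ∀ d ∈ Finset.Icc (-2 : ℤ) 2, a ^ 2 + b ^ 2 + 11 * c ^ 2 + 11 * d ^ 2 = 64 → (2 * b - 10 * c) % 8 = 0 →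
    (a - 3 * b + 11 * c + 11 * d) % 8 = 0 → ∃ i < 12, q4 i = (a, b, c, d) := by decide +kernel

theorem bounds64 {a b c d : ℤ} (h : a ^ 2 + b ^ 2 + 11 * c ^ 2 + 11 * d ^ 2 = 64) :
    b ∈ Finset.Icc (-8 : ℤ) 8 := by
  simp only [Finset.mem_Icc]
  refine ⟨?_, ?_⟩ <;> nlinarith [sq_nonneg a, sq_nonneg b, sq_nonneg c, sq_nonneg d]

theorem fix64 (z : ↥leechLattice) (hz : iota vB • z = z) (hn : sqNorm z.1 = 64) :
    ∃ i < 12, z.1 = fv4 (q4 i) := by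
  have e := eq_fourVec hz
  have w1 : (8 : ℤ) ∣ dotInt (vec pWa) z.1 := eight_dvd_dot' (cst_mem pWa_ok) z.2
  have w2 : (8 : ℤ) ∣ dotInt (vec pWb) z.1 := eight_dvd_dot' (cst_mem pWb_ok) z.2
  set a := z.1 (pt 23)
  set b := z.1 (pt 0)
  set c := z.1 (pt 1)
  set d := z.1 (pt 5)
  rw [e, sqNorm_fourVec] at hn
  rw [e, dotWa] at w1
  rw [e, dotWb] at w2
  obtain ⟨ha, hc, hd⟩ := bounds hn
  obtain ⟨i, hi, hq⟩ := arith64 a ha b (bounds64 hn) c hc d hd hn (Int.emod_eq_zero_of_dvd w1)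
    (Int.emod_eq_zero_of_dvd w2)
  refine ⟨i, hi, ?_⟩
  rw [hq]
  exact e

theorem arith48 : ∀ b ∈ Finset.Icc (-5 : ℤ) 5, ∀ c ∈ Finset.Icc (-2 : ℤ) 2,
    ∀ d ∈ Finset.Icc (-2 : ℤ) 2, (-5) ^ 2 + b ^ 2 + 11 * c ^ 2 + 11 * d ^ 2 = 48 → (2 * b - 10 * c) % 8 = 0 →
    (-5 - 3 * b + 11 * c + 11 * d) % 8 = 0 → (b = -1 ∧ c = -1 ∧ d = -1) ∨ (b = 1 ∧ c = 1 ∧ d = -1) := by
  decide +kernel

theorem fv_V : ∀ p, fourVec (-5) (-1) (-1) (-1) p = Spor.vecV p := by decide +kernel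
theorem fv_EV : ∀ p, fourVec (-5) 1 1 (-1) p = vec pEV p := by decide +kernel

theorem fix48 (z : ↥leechLattice) (hz : iota vB • z = z) (hn : sqNorm z.1 = 48) (h0 : ldot x0 z = -40) :
    z = Spor.leechV ∨ z = lv pEV := by
  have e := eq_fourVec hz
  have w1 : (8 : ℤ) ∣ dotInt (vec pWa) z.1 := eight_dvd_dot' (cst_mem pWa_ok) z.2
  have w2 : (8 : ℤ) ∣ dotInt (vec pWb) z.1 := eight_dvd_dot' (cst_mem pWb_ok) z.2
  have h0' : dotInt (x0 : GolayPt → ℤ) z.1 = -40 := h0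
  set a := z.1 (pt 23)
  set b := z.1 (pt 0)
  set c := z.1 (pt 1)
  set d := z.1 (pt 5)
  rw [e, sqNorm_fourVec] at hn
  rw [e, dotWa] at w1
  rw [e, dotWb] at w2
  rw [e, dotx0_fourVec] at h0'
  have ha : a = -5 := by omega
  rw [ha] at hn w2 e
  have hb : b ∈ Finset.Icc (-5 : ℤ) 5 := by
    simp only [Finset.mem_Icc]
    refine ⟨?_, ?_⟩ <;> nlinarith [sq_nonneg b, sq_nonneg c, sq_nonneg d]
  have hc : c ∈ Finset.Icc (-2 : ℤ) 2 := by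
    simp only [Finset.mem_Icc]
    refine ⟨?_, ?_⟩ <;> nlinarith [sq_nonneg b, sq_nonneg c, sq_nonneg d]
  have hd : d ∈ Finset.Icc (-2 : ℤ) 2 := by
    simp only [Finset.mem_Icc]
    refine ⟨?_, ?_⟩ <;> nlinarith [sq_nonneg b, sq_nonneg c, sq_nonneg d]
  rcases arith48 b hb c hc d hd hn (Int.emod_eq_zero_of_dvd w1) (Int.emod_eq_zero_of_dvd w2) with
    ⟨h1, h2, h3⟩ | ⟨h1, h2, h3⟩
  · left
    apply Subtype.ext
    rw [e, h1, h2, h3]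
    exact funext fv_V
  · right
    apply lv_of_coe pEV_ok
    rw [e, h1, h2, h3]
    exact funext fv_EV

theorem fixv_smul {y : ↥Co0} {k : ℕ} (hk : y * iota vB * y⁻¹ = iota vB ^ k) {z : ↥leechLattice}
    (h1 : iota vB • z = z) : iota vB • (y • z) = y • z := by
  have hk1 : iota vB ^ k ≠ 1 := by
    rw [← hk]
    intro h
    apply iota_vB_ne
    have : iota vB = y⁻¹ * (y * iota vB * y⁻¹) * y := by group
    rw [this, h]; group
  obtain ⟨s, hs⟩ := pow_gen_of_prime (by norm_num : Nat.Prime 11) iota_vB_pow hk1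
  have h4 : iota vB ^ k ∈ stabilizer ↥Co0 (y • z) := by
    rw [mem_stabilizer_iff, ← hk, mul_smul, mul_smul, inv_smul_smul, h1]
  have h5 := Subgroup.pow_mem _ h4 s
  rw [hs] at h5
  exact h5

def cycP (i1 i2 : ℕ) : Prop := ∀ i3 < 12, ∀ i4 < 12, (g4 0 i1 = g4 i1 i2 ∧ g4 i1 i2 = g4 i2 i3 ∧
    g4 0 i2 = g4 i1 i3 ∧ g4 i2 i3 = g4 i3 i4 ∧ g4 i3 i4 = g4 i4 0 ∧ g4 i1 i3 = g4 i2 i4 ∧ g4 i2 i4 = g4 i3 0 ∧
    g4 i3 0 = g4 i4 i1) → i1 = 0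

instance cycP_dec (i1 i2 : ℕ) : Decidable (cycP i1 i2) := by
  unfold cycP
  infer_instance

theorem cyc4' : ∀ i1 < 12, ∀ i2 < 12, cycP i1 i2 := by decide +kernel

theorem cyc4 : ∀ i1 < 12, ∀ i2 < 12, g4 0 i1 = g4 i1 i2 → ∀ i3 < 12, g4 i1 i2 = g4 i2 i3 → g4 0 i2 = g4 i1 i3 →
    ∀ i4 < 12, g4 i2 i3 = g4 i3 i4 → g4 i3 i4 = g4 i4 0 → g4 i1 i3 = g4 i2 i4 → g4 i2 i4 = g4 i3 0 →
    g4 i3 0 = g4 i4 i1 → i1 = 0 :=
  fun i1 h1 i2 h2 a1 i3 h3 a2 a3 i4 h4 a4 a5 a6 a7 a8 => cyc4' i1 h1 i2 h2 i3 h3 i4 h4 ⟨a1, a2, a3, a4, a5, a6, a7, a8⟩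

theorem ldot_g4 {z z' : ↥leechLattice} {i j : ℕ} (h : z.1 = fv4 (q4 i)) (h' : z'.1 = fv4 (q4 j)) :
    ldot z z' = g4 i j := by
  unfold ldot
  rw [h, h']
  exact dot_four4 _ _ _ _ _ _ _ _

theorem x0_fv4 : (x0 : ↥leechLattice).1 = fv4 (q4 0) := by
  rw [x0_val]
  exact (funext fv_x0).symm

/-- the vectors of type 3 -/
def InS3 (z : ↥leechLattice) : Prop := iota vB • z = z ∧ sqNorm z.1 = 48 ∧ ldot x0 z = -40

theorem InS3_V : InS3 Spor.leechV :=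
  ⟨iota_V vB, by rw [← ldot_self]; exact dVV, by rw [ldot_comm]; exact ldot_V_x0⟩

theorem InS3_smul {y : ↥Co0} {k : ℕ} (hk : y * iota vB * y⁻¹ = iota vB ^ k) (h0 : y • x0 = x0)
    {z : ↥leechLattice} (hz : InS3 z) : InS3 (y • z) := by
  refine ⟨fixv_smul hk hz.1, by rw [co0_sqNorm]; exact hz.2.1, ?_⟩
  rw [← hz.2.2]
  conv_lhs => rw [← h0]
  exact ldot_smul y x0 z

theorem five_fix {Y : ↥Co0} {k : ℕ} (hk : Y * iota vB * Y⁻¹ = iota vB ^ k) (h5 : Y ^ 5 = 1) :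
    Y • x0 = x0 ∧ Y • Spor.leechV = Spor.leechV := by
  have F : ∀ z : ↥leechLattice, (iota vB • z = z ∧ sqNorm z.1 = 64) →
      (iota vB • (Y • z) = Y • z ∧ sqNorm (Y • z).1 = 64) :=
    fun z h => ⟨fixv_smul hk h.1, by rw [co0_sqNorm]; exact h.2⟩
  have f0 : iota vB • x0 = x0 ∧ sqNorm x0.1 = 64 := ⟨iota_x0 vB, sqNorm_x0⟩
  have f1 := F _ f0
  have f2 := F _ f1
  have f3 := F _ f2
  have f4 := F _ f3
  obtain ⟨i1, hi1, e1⟩ := fix64 _ f1.1 f1.2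
  obtain ⟨i2, hi2, e2⟩ := fix64 _ f2.1 f2.2
  obtain ⟨i3, hi3, e3⟩ := fix64 _ f3.1 f3.2
  obtain ⟨i4, hi4, e4⟩ := fix64 _ f4.1 f4.2
  have e0 := x0_fv4
  have hz5 : Y • (Y • (Y • (Y • (Y • x0)))) = x0 := by
    have : Y ^ 5 • x0 = x0 := by rw [h5, one_smul]
    simpa only [pow_succ, pow_zero, one_mul, mul_smul] using this
  have h0 : Y • x0 = x0 := by
    have hi : i1 = 0 := by
      apply cyc4 i1 hi1 i2 hi2 _ i3 hi3 _ _ i4 hi4
      · rw [← ldot_g4 e2 e3, ← ldot_g4 e3 e4]; exact (ldot_smul Y _ _).symm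
      · rw [← ldot_g4 e3 e4, ← ldot_g4 e4 e0]
        have := ldot_smul Y (Y • Y • Y • x0) (Y • Y • Y • Y • x0)
        rw [hz5] at this
        exact this.symm
      · rw [← ldot_g4 e1 e3, ← ldot_g4 e2 e4]; exact (ldot_smul Y _ _).symm
      · rw [← ldot_g4 e2 e4, ← ldot_g4 e3 e0]
        have := ldot_smul Y (Y • Y • x0) (Y • Y • Y • Y • x0)
        rw [hz5] at this
        exact this.symm
      · rw [← ldot_g4 e3 e0, ← ldot_g4 e4 e1]; exact (ldot_smul Y _ _).symm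
      · rw [← ldot_g4 e0 e1, ← ldot_g4 e1 e2]; exact (ldot_smul Y _ _).symm
      · rw [← ldot_g4 e1 e2, ← ldot_g4 e2 e3]; exact (ldot_smul Y _ _).symm
      · rw [← ldot_g4 e0 e2, ← ldot_g4 e1 e3]; exact (ldot_smul Y _ _).symm
    apply Subtype.ext
    rw [e1, hi, ← e0]
  refine ⟨h0, ?_⟩
  have s1 := InS3_smul hk h0 InS3_V
  rcases fix48 _ s1.1 s1.2.1 s1.2.2 with h | h
  · exact h
  · have s2 := InS3_smul hk h0 s1
    rcases fix48 _ s2.1 s2.2.1 s2.2.2 with h' | h'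
    · have e5 : Y ^ 5 • Spor.leechV = Y • Spor.leechV := by
        simp only [pow_succ, pow_zero, one_mul, mul_smul]
        rw [h', h']
      rw [h5, one_smul] at e5
      exact e5.symm
    · rw [← h] at h'
      exact smul_left_cancel Y h'

end Cfsg.Agent.Lib.Helper33
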