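import Cfsg.Agent.Lib.Helper33.OutC1b

set_option autoImplicit false
set_option maxRecDepth 100000

/-!
The elements of the full automorphism group of the lattice centralising or inverting the element of order 11 and
centralising the element of order 5.
-/

namespace Cfsg.Agent.Lib.Helper33

open Cfsg MulAction Cfsg.Agent.Lib.Helper9 Cfsg.Agent.Lib.Helper11 Cfsg.Agent.Lib.Helper88
  Cfsg.Agent.Lib.Helper88.OChains Cfsg.Agent.Lib.Helper94

/-- the letters -/
noncomputable abbrev X1 : ℕ → ↥Co0 := fun l => coEl (matAt oc1G l)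

def PP (g : ↥Co0) (e : ℕ) : Prop := g * iota vB * g⁻¹ = iota vB ^ e ∧ g * iota wD = iota wD * g

theorem PP_one : PP 1 1 := ⟨by simp, by simp⟩

theorem PP_mul {g h : ↥Co0} {e e' : ℕ} (hg : PP g e) (hh : PP h e') : PP (g * h) (e * e') := by
  constructor
  · have : g * h * iota vB * (g * h)⁻¹ = g * (h * iota vB * h⁻¹) * g⁻¹ := by group
    rw [this, hh.1, ← conj_pow, hg.1, ← pow_mul]
  · rw [mul_assoc, hh.2, ← mul_assoc, hg.2, mul_assoc]

theorem iota_vB_100 : iota vB ^ 100 = iota vB := by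
  calc iota vB ^ 100 = (iota vB ^ 11) ^ 9 * iota vB := by rw [← pow_mul, ← pow_succ]
    _ = iota vB := by rw [iota_vB_pow, one_pow, one_mul]

theorem PP_inv {c : ↥Co0} {e : ℕ} (he : e = 1 ∨ e = 10) (hc : PP c e) : PP c⁻¹ e := by
  constructor
  · have h1 : c * (iota vB ^ e) * c⁻¹ = iota vB := by
      rw [← conj_pow, hc.1, ← pow_mul]
      rcases he with rfl | rfl
      · simp
      · exact iota_vB_100
    rw [inv_inv]
    calc c⁻¹ * iota vB * c = c⁻¹ * (c * (iota vB ^ e) * c⁻¹) * c := by rw [h1]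
      _ = iota vB ^ e := by group
  · calc c⁻¹ * iota wD = c⁻¹ * (iota wD * c) * c⁻¹ := by group
      _ = c⁻¹ * (c * iota wD) * c⁻¹ := by rw [hc.2]
      _ = iota wD * c⁻¹ := by group

theorem PP_of_comm {g : ↥Co0} (h1 : g * iota vB = iota vB * g) (h2 : g * iota wD = iota wD * g) : PP g 1 :=
  ⟨by rw [h1, pow_one]; group, h2⟩

theorem PP_A : PP (X1 6) 1 := by
  have hco := (gensOK_spec oc1G_ok 6 (by norm_num)).2
  exact PP_of_comm (rel_of_table hco vB vB (by rw [code_vB]; exact oc1_Av))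
    (rel_of_table hco wD wD (by rw [code_wD]; exact oc1_Aw))

theorem PP_E : PP (X1 10) 1 := by
  have hco := (gensOK_spec oc1G_ok 10 (by norm_num)).2
  exact PP_of_comm (rel_of_table hco vB vB (by rw [code_vB]; exact oc1_Ev))
    (rel_of_table hco wD wD (by rw [code_wD]; exact oc1_Ew))

theorem X1_8 : X1 8 = coEl (matAt oc2G1 6) := by
  show coEl (matAt oc1G 8) = _
  rw [oc1_B]

theorem PP_B : PP (X1 8) 10 := by
  rw [X1_8]
  refine ⟨?_, data2.iw⟩
  rw [data2.iv, map_pow]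
  group

theorem PP_neg : PP negEl 1 := PP_of_comm (negEl_comm _).symm (negEl_comm _).symm

theorem E_x0 : X1 10 • x0 = x0 := by
  have := move_of_mvOK oc1G_ok (k := 10) (by norm_num) pX0_ok pX0_ok oc1_E0
  rwa [lv_pX0] at this

theorem E_V : X1 10 • Spor.leechV = lv pEV := by
  have := move_of_mvOK oc1G_ok (k := 10) (by norm_num) pV_ok pEV_ok oc1_EV
  rwa [lv_pV] at this

theorem iota_PP {σ : ↥M23g} {e : ℕ} (h : PP (iota σ) e) : (e = 1 → σ = 1) ∧ (e = 10 → False) := by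
  have h1 : σ * vB * σ⁻¹ = vB ^ e := by
    apply iota_injective
    rw [map_mul, map_mul, map_inv, map_pow]
    exact h.1
  have h2 : σ * wD = wD * σ := by
    apply iota_injective
    rw [map_mul, map_mul]
    exact h.2
  constructor
  · rintro rfl
    apply eq_one_of_comm _ h2
    rw [pow_one] at h1
    exact mul_inv_eq_iff_eq_mul.1 h1
  · rintro rfl
    have h3 : σ * vB = vB ^ 10 * σ := by rw [← h1]; group
    exact inv_vB (M23g_le σ.2) (congrArg Subtype.val h3) (M23g_none σ)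

theorem stab_cases {s : ↥Co0} {k : ℕ} (h0 : s • x0 = x0) (hs : PP s k) :
    (k = 1 → s = 1 ∨ s = X1 10) ∧ (k = 10 → False) := by
  have s1 := InS3_smul hs.1 h0 InS3_V
  rcases fix48 _ s1.1 s1.2.1 s1.2.2 with h | h
  · obtain ⟨σ, hσ⟩ := mem_range_iota h0 h
    rw [← hσ] at hs
    have := iota_PP hs
    refine ⟨fun hk => Or.inl ?_, this.2⟩
    rw [← hσ, this.1 hk, map_one]
  · have t0 : ((X1 10)⁻¹ * s) • x0 = x0 := by rw [mul_smul, h0, inv_smul_eq_iff, E_x0]
    have tV : ((X1 10)⁻¹ * s) • Spor.leechV = Spor.leechV := by rw [mul_smul, h, inv_smul_eq_iff, E_V]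
    obtain ⟨σ, hσ⟩ := mem_range_iota t0 tV
    have hp : PP ((X1 10)⁻¹ * s) (1 * k) := PP_mul (PP_inv (Or.inl rfl) PP_E) hs
    rw [← hσ, one_mul] at hp
    have := iota_PP hp
    refine ⟨fun hk => Or.inr ?_, this.2⟩
    have e : (X1 10)⁻¹ * s = 1 := by rw [← hσ, this.1 hk, map_one]
    exact (inv_mul_eq_one.1 e).symm

theorem cand_of {g c : ↥Co0} {e e' : ℕ} (he : e = 1 ∨ e = 10) (he' : e' = 1 ∨ e' = 10) (hg : PP g e)
    (hc : PP c e') (h : g • x0 = c • x0) : e = e' ∧ (g = c ∨ g = c * X1 10) := by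
  have h0 : (c⁻¹ * g) • x0 = x0 := by rw [mul_smul, h, inv_smul_smul]
  have hs : PP (c⁻¹ * g) (e' * e) := PP_mul (PP_inv he' hc) hg
  have fin : (c⁻¹ * g = 1 ∨ c⁻¹ * g = X1 10) → (g = c ∨ g = c * X1 10) := by
    rintro (h1 | h1)
    · left; exact (inv_mul_eq_one.1 h1).symm
    · right; rw [← h1]; group
  rcases he with rfl | rfl <;> rcases he' with rfl | rfl
  · exact ⟨rfl, fin ((stab_cases h0 hs).1 rfl)⟩
  · exact ((stab_cases h0 hs).2 rfl).elim
  · exact ((stab_cases h0 hs).2 rfl).elim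
  · refine ⟨rfl, fin ?_⟩
    have hs' : PP (c⁻¹ * g) 1 := ⟨by rw [hs.1, pow_one]; exact iota_vB_100, hs.2⟩
    exact (stab_cases h0 hs').1 rfl

def eI (i : ℕ) : ℕ := if i < 3 then 1 else 10

theorem rep_lt : ∀ i < 6, ∀ l ∈ oc1Rep i, l < 2 * 6 := by decide

theorem rep_PP : ∀ i < 6, PP (ev X1 (oc1Rep i)) (eI i) := by
  intro i hi
  interval_cases i
  · exact PP_one
  · exact PP_mul PP_A PP_one
  · exact PP_mul PP_E (PP_mul PP_A PP_one)
  · exact PP_mul PP_B PP_one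
  · exact PP_mul PP_E (PP_mul PP_B PP_one)
  · exact PP_mul PP_A (PP_mul PP_B PP_one)

theorem rep_x0 {i : ℕ} (hi : i < 6) : ev X1 (oc1Rep i) • x0 = lv (f384 oc1T i) := by
  have h := (allBelow_iff _ _).1 oc1_mv i hi
  have := move_word oc1G_ok (rep_lt i hi) pX0_ok h
  rwa [lv_pX0] at this

theorem T_ok {i : ℕ} (hi : i < 12) : cstOK (f384 oc1T i) = true := (allBelow_iff _ _).1 oc1T_ok i hi

theorem T_neg {i : ℕ} (hi : i < 6) : lv (f384 oc1T (i + 6)) = -lv (f384 oc1T i) := by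
  have h := (allBelow_iff _ _).1 oc1T_neg i hi
  rw [Bool.and_eq_true, Bool.and_eq_true] at h
  have o1 := T_ok (i := i) (by omega)
  have o2 := T_ok (i := i + 6) (by omega)
  apply eq_neg_of_ldot (n := 64)
  · rw [ldot_cst o1 o1 10816 h.1]; norm_num
  · rw [ldot_cst o2 o2 10816 h.2.1]; norm_num
  · rw [ldot_cst o1 o2 10688 h.2.2]; norm_num

theorem eI_cases (i : ℕ) : eI i = 1 ∨ eI i = 10 := by
  unfold eI
  split_ifs
  · exact Or.inl rfl
  · exact Or.inr rfl

theorem classify {g : ↥Co0} {e : ℕ} (he : e = 1 ∨ e = 10) (hg : PP g e) :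
    ∃ i < 6, e = eI i ∧
      ((QuotientGroup.mk g : ↥Co0 ⧸ Subgroup.center ↥Co0) = QuotientGroup.mk (ev X1 (oc1Rep i)) ∨
       (QuotientGroup.mk g : ↥Co0 ⧸ Subgroup.center ↥Co0) = QuotientGroup.mk (ev X1 (oc1Rep i ++ [10]))) := by
  have core : ∀ g' : ↥Co0, PP g' e → ∀ i < 6, g' • x0 = lv (f384 oc1T i) →
      e = eI i ∧ (g' = ev X1 (oc1Rep i) ∨ g' = ev X1 (oc1Rep i ++ [10])) := by
    intro g' hg' i hi h
    have := cand_of he (eI_cases i) hg' (rep_PP i hi) (by rw [h, rep_x0 hi])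
    refine ⟨this.1, ?_⟩
    rw [ev_append]
    have e1 : ev X1 [10] = X1 10 := mul_one _
    rw [e1]
    exact this.2
  obtain ⟨i, hi, hz⟩ := fix64 (g • x0) (fixv_smul hg.1 (iota_x0 vB)) (by rw [co0_sqNorm]; exact sqNorm_x0)
  have hz' : g • x0 = lv (f384 oc1T i) := by
    apply lv_of_coe (T_ok hi)
    rw [hz]
    exact funext (fvT i hi)
  by_cases h6 : i < 6
  · obtain ⟨h1, h2⟩ := core g hg i h6 hz'
    refine ⟨i, h6, h1, ?_⟩
    rcases h2 with h2 | h2
    · left; rw [h2]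
    · right; rw [h2]
  · obtain ⟨j, rfl⟩ : ∃ j, i = j + 6 := ⟨i - 6, by omega⟩
    have hj : j < 6 := by omega
    have hp : PP (negEl * g) (1 * e) := PP_mul PP_neg hg
    rw [one_mul] at hp
    obtain ⟨h1, h2⟩ := core (negEl * g) hp j hj (by rw [mul_smul, hz', negEl_apply, T_neg hj, neg_neg])
    have hm : (QuotientGroup.mk g : ↥Co0 ⧸ Subgroup.center ↥Co0) = QuotientGroup.mk (negEl * g) := by
      rw [QuotientGroup.mk_mul, (QuotientGroup.eq_one_iff _).2 negEl_center, one_mul]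
    refine ⟨j, hj, h1, ?_⟩
    rw [hm]
    rcases h2 with h2 | h2
    · left; rw [h2]
    · right; rw [h2]

end Cfsg.Agent.Lib.Helper33
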