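import Cfsg.Agent.Lib.Helper33.OutMain

set_option autoImplicit false
set_option maxRecDepth 100000

/-!
From the certificates to the membership of the generators.
-/

namespace Cfsg.Agent.Lib.Helper33

open Cfsg MulAction Cfsg.Agent.Lib.Helper9 Cfsg.Agent.Lib.Helper11 Matrix

theorem gens_mem (G1 G2 G3 pa : ℕ) (h1 : gensOK G1 4 = true) (h2 : gensOK G2 4 = true)
    (h3 : gensOK G3 1 = true) (hpa : cstOK pa = true)
    (m1 : allBelow (fun k => mvOK (matAt G1 k) pX0 pX0 && mvOK (matAt G1 k) pV pV) 6 = true)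
    (m2 : allBelow (fun k => mvOK (matAt G2 k) pX0 pX0 && (mvOK (matAt G2 k) pV pV &&
      mvOK (matAt G2 k) pa pa)) 6 = true)
    (m3 : mvOK (matAt G2 6) pa pa = true)
    (p1 : prodOK (matAt G2 4) (matAt G1 6) (matAt G3 0) = true)
    (p2 : prodOK (matAt G1 6) (matAt G3 0) (matAt G2 6) = true) :
    (∀ k < 2 * 4, coEl (matAt G1 k) ∈ Subgroup.closure (Set.range iota ∪ {coEl (matAt G1 6)})) ∧
    (∀ k < 2 * 4, coEl (matAt G2 k) ∈
      Subgroup.closure (Set.range iota ∪ {coEl (matAt G1 6)}) ⊓ stabilizer ↥Co0 (lv pa)) := by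
  set H := Subgroup.closure (Set.range iota ∪ {coEl (matAt G1 6)}) with hH
  have hr : ∀ g : ↥Co0, g ∈ iota.range → g ∈ H := by
    rintro g ⟨σ, hσ⟩
    exact Subgroup.subset_closure (Or.inl ⟨σ, hσ⟩)
  have hX : coEl (matAt G1 6) ∈ H := Subgroup.subset_closure (Or.inr rfl)
  rw [allBelow_iff] at m1 m2
  have a1 : ∀ k < 6, coEl (matAt G1 k) ∈ H := by
    intro k hk
    have := m1 k hk
    rw [Bool.and_eq_true] at this
    exact hr _ (mono_of_mvOK h1 (by omega) this.1 this.2)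
  have a2 : ∀ k < 6, coEl (matAt G2 k) ∈ H ⊓ stabilizer ↥Co0 (lv pa) := by
    intro k hk
    have := m2 k hk
    simp only [Bool.and_eq_true] at this
    exact ⟨hr _ (mono_of_mvOK h2 (by omega) this.1 this.2.1),
      move_of_mvOK h2 (by omega) hpa hpa this.2.2⟩
  have i1 : coEl (matAt G1 7) = (coEl (matAt G1 6))⁻¹ :=
    coEl_inv (gensOK_pair h1 (i := 3) (by norm_num))
  have i2 : coEl (matAt G2 7) = (coEl (matAt G2 6))⁻¹ :=
    coEl_inv (gensOK_pair h2 (i := 3) (by norm_num))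
  have q1 : coEl (matAt G2 4) * coEl (matAt G1 6) = coEl (matAt G3 0) :=
    coEl_mul (gensOK_spec h2 4 (by norm_num)).2 (gensOK_spec h1 6 (by norm_num)).2
      (gensOK_spec h3 0 (by norm_num)).2 (mul_of_prodOK (gensOK_spec h2 4 (by norm_num)).1 p1)
  have q2 : coEl (matAt G1 6) * coEl (matAt G3 0) = coEl (matAt G2 6) :=
    coEl_mul (gensOK_spec h1 6 (by norm_num)).2 (gensOK_spec h3 0 (by norm_num)).2
      (gensOK_spec h2 6 (by norm_num)).2 (mul_of_prodOK (gensOK_spec h1 6 (by norm_num)).1 p2)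
  have a3 : coEl (matAt G2 6) ∈ H ⊓ stabilizer ↥Co0 (lv pa) := by
    refine ⟨?_, move_of_mvOK h2 (by norm_num) hpa hpa m3⟩
    rw [← q2, ← q1]
    exact H.mul_mem hX (H.mul_mem (a2 4 (by norm_num)).1 hX)
  constructor
  · intro k hk
    rcases Nat.lt_or_ge k 6 with h | h
    · exact a1 k h
    · have : k = 6 ∨ k = 7 := by omega
      rcases this with rfl | rfl
      · exact hX
      · rw [i1]; exact H.inv_mem hX
  · intro k hk
    rcases Nat.lt_or_ge k 6 with h | h
    · exact a2 k h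
    · have : k = 6 ∨ k = 7 := by omega
      rcases this with rfl | rfl
      · exact a3
      · rw [i2]; exact Subgroup.inv_mem _ a3

end Cfsg.Agent.Lib.Helper33
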