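import Cfsg.Agent.Lib.Helper33.OutC1c

set_option autoImplicit false
set_option maxRecDepth 100000

/-!
All automorphisms of the quotient of the automorphism group of the lattice by its centre are inner.
-/

namespace Cfsg.Agent.Lib.Helper33

open Cfsg MulAction Cfsg.Agent.Lib.Helper9 Cfsg.Agent.Lib.Helper11 Cfsg.Agent.Lib.Helper88
  Cfsg.Agent.Lib.Helper88.OChains Cfsg.Agent.Lib.Helper94

abbrev Q1 : Type := ↥Co0 ⧸ Subgroup.center ↥Co0

noncomputable def mk1 : ↥Co0 →* Q1 := QuotientGroup.mk' (Subgroup.center ↥Co0)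

theorem mk1_surj : Function.Surjective mk1 := QuotientGroup.mk'_surjective _

theorem mk1_eq_one {g : ↥Co0} : mk1 g = 1 ↔ g ∈ Subgroup.center ↥Co0 := QuotientGroup.eq_one_iff g

theorem mk1_neg : mk1 negEl = 1 := mk1_eq_one.2 negEl_center

theorem lift_eq1 {a b : ↥Co0} {n : ℕ} (hn : Odd n) (ha : a ^ n = 1) (hb : b ^ n = 1) (h : mk1 a = mk1 b) : a = b :=
  lift_eq hn ha hb h

noncomputable def f1 : ↥M23g →* Q1 := mk1.comp iota

theorem f1_apply (σ : ↥M23g) : f1 σ = mk1 (iota σ) := rfl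

theorem x0_ne_neg : x0 ≠ -x0 := by
  intro e
  have e2 : ldot x0 (-x0) = -64 := by rw [ldot_neg_right, ldot_x0_x0]
  rw [← e, ldot_x0_x0] at e2
  norm_num at e2

theorem f1_inj : Function.Injective f1 := by
  rw [injective_iff_map_eq_one]
  intro σ h
  rcases center_cases _ (mk1_eq_one.1 h) with h1 | h1
  · exact iota_injective (by rw [h1, map_one])
  · exfalso
    have := iota_x0 σ
    rw [h1, negEl_apply] at this
    exact x0_ne_neg this.symm

theorem card_Q1 : Nat.card Q1 = 4157776806543360000 := by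
  have := Subgroup.card_eq_card_quotient_mul_card_subgroup (Subgroup.center ↥Co0)
  rw [card_Co0, card_center_Co0] at this
  show Nat.card (↥Co0 ⧸ Subgroup.center ↥Co0) = _
  omega

theorem iota_wD_pow : iota wD ^ 5 = 1 := by rw [← map_pow, wD_pow, map_one]

theorem conj_pow_one {G : Type*} [Group G] {a : G} {n : ℕ} (h : a ^ n = 1) (g : G) : (g * a * g⁻¹) ^ n = 1 := by
  rw [conj_pow, h]; group

/-- lifting the relations with the elements of orders 11 and 5 -/
theorem lift_v {g : ↥Co0} {e : ℕ} (h : mk1 g * mk1 (iota vB) * (mk1 g)⁻¹ = mk1 (iota vB) ^ e) :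
    g * iota vB * g⁻¹ = iota vB ^ e := by
  apply lift_eq1 (n := 11) (by decide) (conj_pow_one iota_vB_pow g)
  · rw [← pow_mul, mul_comm, pow_mul, iota_vB_pow, one_pow]
  · rw [map_mul, map_mul, map_inv, map_pow]
    exact h

theorem lift_w {g : ↥Co0} (h : mk1 g * mk1 (iota wD) = mk1 (iota wD) * mk1 g) :
    g * iota wD = iota wD * g := by
  have : g * iota wD * g⁻¹ = iota wD := by
    apply lift_eq1 (n := 5) (by decide) (conj_pow_one iota_wD_pow g) iota_wD_pow
    rw [map_mul, map_mul, map_inv, h]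
    group
  exact mul_inv_eq_iff_eq_mul.1 this

theorem odd1 (y : Q1) (hk : ∃ k : ℕ, y * f1 vB * y⁻¹ = f1 vB ^ k) (h5 : y ^ 5 = 1) : y ∈ f1.range := by
  obtain ⟨k, hk⟩ := hk
  obtain ⟨Y0, rfl⟩ := mk1_surj y
  obtain ⟨Y, hY, hY5⟩ : ∃ Y : ↥Co0, mk1 Y = mk1 Y0 ∧ Y ^ 5 = 1 := by
    rw [← map_pow] at h5
    rcases center_cases _ (mk1_eq_one.1 h5) with h1 | h1
    · exact ⟨Y0, rfl, h1⟩
    · refine ⟨Y0 * negEl, by rw [map_mul, mk1_neg, mul_one], ?_⟩
      rw [(show Commute Y0 negEl from negEl_comm Y0).mul_pow, h1, negEl_pow_odd (by decide), negEl_sq]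
  rw [← hY] at hk ⊢
  have hv := lift_v (g := Y) (e := k) hk
  obtain ⟨h0, hV⟩ := five_fix hv hY5
  obtain ⟨σ, hσ⟩ := mem_range_iota h0 hV
  exact ⟨σ, by rw [f1_apply, hσ]⟩

theorem X1_0 : X1 0 = iota uT :=
  coEl_eq_iota (gensOK_spec oc1G_ok 0 (by norm_num)).2 uT (by rw [code_uT]; exact oc1_e0)

/-- a candidate for the image of a letter is excluded by a relation -/
theorem kill (β : MulAut Q1) (hβ : β (mk1 (X1 0)) = mk1 (X1 0)) {l0 : ℕ} (W R : List ℕ) (k : ℕ)
    (hW : β (mk1 (X1 l0)) = mk1 (ev X1 W)) (hR : ∀ l ∈ R, l = 0 ∨ l = l0) (h0 : l0 ≠ 0)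
    (hlt : ∀ l ∈ R, l < 2 * 6) (hrel : relChk oc1G R = true)
    (hlt2 : ∀ l ∈ R.flatMap (sb l0 W), l < 2 * 6) (hne : pmChk oc1G (R.flatMap (sb l0 W)) k = true) : False := by
  apply not_center_of_chk oc1G_ok hlt2 hne
  rw [← mk1_eq_one]
  have h1 : ev X1 R = 1 := rel_of_chk oc1G_ok hlt hrel
  have h2 := ev_flatMap (fun l => mk1 (X1 l)) (fun l => β (mk1 (X1 l))) (sb l0 W) R (by
    intro l hl
    rcases hR l hl with rfl | rfl
    · have : sb l0 W 0 = [0] := if_neg (fun e => h0 e.symm)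
      rw [this]
      show β (mk1 (X1 0)) = mk1 (X1 0) * 1
      rw [hβ, mul_one]
    · have : sb l W l = W := if_pos rfl
      rw [this, ← ev_map mk1 X1 W]
      exact hW)
  rw [← ev_map mk1 X1 (R.flatMap (sb l0 W))] at h2
  rw [← h2]
  have h3 := ev_map (β.toMonoidHom.comp mk1) X1 R
  rw [h1, map_one] at h3
  exact h3.symm

theorem PP_image (β : MulAut Q1) (hβ : ∀ x, β (f1 x) = f1 x) {X g : ↥Co0} {e : ℕ} (hX : PP X e)
    (hg : β (mk1 X) = mk1 g) : PP g e := by
  constructor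
  · apply lift_v
    have := congrArg (fun t => β (mk1 t)) hX.1
    simp only [map_mul, map_inv, map_pow] at this
    rw [hg] at this
    have e1 : β (mk1 (iota vB)) = mk1 (iota vB) := hβ vB
    rwa [e1] at this
  · apply lift_w
    have := congrArg (fun t => β (mk1 t)) hX.2
    simp only [map_mul] at this
    rw [hg] at this
    have e1 : β (mk1 (iota wD)) = mk1 (iota wD) := hβ wD
    rwa [e1] at this

theorem fixA (β : MulAut Q1) (hβ : ∀ x, β (f1 x) = f1 x) : β (mk1 (X1 6)) = mk1 (X1 6) := by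
  obtain ⟨g, hg⟩ := mk1_surj (β (mk1 (X1 6)))
  have hb0 : β (mk1 (X1 0)) = mk1 (X1 0) := by rw [X1_0]; exact hβ uT
  obtain ⟨i, hi, he, hc⟩ := classify (Or.inl rfl) (PP_image β hβ PP_A hg.symm)
  have hc' : β (mk1 (X1 6)) = mk1 (ev X1 (oc1Rep i)) ∨ β (mk1 (X1 6)) = mk1 (ev X1 (oc1Rep i ++ [10])) := by
    rw [← hg]; exact hc
  clear hc
  interval_cases i
  · rcases hc' with h | h
    · exact (kill β hb0 [] oc1RA2 0 h (by decide) (by decide) (by decide) oc1_RA2 (by decide) oc1_k0).elim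
    · exact (kill β hb0 [10] oc1RA2 0 h (by decide) (by decide) (by decide) oc1_RA2 (by decide) oc1_k1).elim
  · rcases hc' with h | h
    · rw [h]
      show mk1 (X1 6 * 1) = _
      rw [mul_one]
    · exact (kill β hb0 [6, 10] oc1RA1 0 h (by decide) (by decide) (by decide) oc1_RA1 (by decide) oc1_k2).elim
  · rcases hc' with h | h
    · exact (kill β hb0 [10, 6] oc1RA1 0 h (by decide) (by decide) (by decide) oc1_RA1 (by decide) oc1_k3).elim
    · exact (kill β hb0 [10, 6, 10] oc1RA2 0 h (by decide) (by decide) (by decide) oc1_RA2 (by decide)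
        oc1_k4).elim
  · exact absurd he (by decide)
  · exact absurd he (by decide)
  · exact absurd he (by decide)

theorem fixB (β : MulAut Q1) (hβ : ∀ x, β (f1 x) = f1 x) : β (mk1 (X1 8)) = mk1 (X1 8) := by
  obtain ⟨g, hg⟩ := mk1_surj (β (mk1 (X1 8)))
  have hb0 : β (mk1 (X1 0)) = mk1 (X1 0) := by rw [X1_0]; exact hβ uT
  obtain ⟨i, hi, he, hc⟩ := classify (Or.inr rfl) (PP_image β hβ PP_B hg.symm)
  have hc' : β (mk1 (X1 8)) = mk1 (ev X1 (oc1Rep i)) ∨ β (mk1 (X1 8)) = mk1 (ev X1 (oc1Rep i ++ [10])) := by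
    rw [← hg]; exact hc
  clear hc
  interval_cases i
  · exact absurd he (by decide)
  · exact absurd he (by decide)
  · exact absurd he (by decide)
  · rcases hc' with h | h
    · rw [h]
      show mk1 (X1 8 * 1) = _
      rw [mul_one]
    · exact (kill β hb0 [8, 10] oc1RB1 0 h (by decide) (by decide) (by decide) oc1_RB1 (by decide) oc1_k5).elim
  · rcases hc' with h | h
    · exact (kill β hb0 [10, 8] oc1RB1 0 h (by decide) (by decide) (by decide) oc1_RB1 (by decide) oc1_k6).elim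
    · exact (kill β hb0 [10, 8, 10] oc1RB2 0 h (by decide) (by decide) (by decide) oc1_RB2 (by decide)
        oc1_k7).elim
  · rcases hc' with h | h
    · exact (kill β hb0 [6, 8] oc1RB3 0 h (by decide) (by decide) (by decide) oc1_RB3 (by decide) oc1_k8).elim
    · exact (kill β hb0 [6, 8, 10] oc1RB3 0 h (by decide) (by decide) (by decide) oc1_RB3 (by decide)
        oc1_k9).elim

theorem gen1 : Subgroup.closure (Set.range f1 ∪ {mk1 (X1 6), mk1 (X1 8)}) = ⊤ := by
  set Hb := Subgroup.closure (Set.range f1 ∪ {mk1 (X1 6), mk1 (X1 8)}) with hHb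
  have hA : X1 6 • lX2 = lv pAX2 := by
    have := move_of_mvOK oc1G_ok (k := 6) (by norm_num) pX2_ok pAX2_ok oc1_AX2
    rwa [lv_pX2] at this
  have hd : ldot lX2 (lv pAX2) = 0 := by
    rw [← lv_pX2, ldot_cst pX2_ok pAX2_ok 10752 oc1_dAX2]; norm_num
  have h32 : ldot lX2 lX2 = 32 := (mem_L2_iff _).1 lX2_L2
  have htop : Hb.comap mk1 = ⊤ := by
    apply top_of_stab_le card_Co0 lX2_L2 _ _ _ (X1 6)
    · exact Subgroup.subset_closure (Or.inr (Or.inl rfl))
    · rw [hA]
      intro e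
      rw [e, h32] at hd
      norm_num at hd
    · rw [hA]
      intro e
      rw [e, ldot_neg_right, h32] at hd
      norm_num at hd
    · rw [← data2.gen, Subgroup.closure_le]
      rintro g (⟨σ, rfl⟩ | hg)
      · exact Subgroup.subset_closure (Or.inl ⟨σ, rfl⟩)
      · rw [Set.mem_singleton_iff] at hg
        rw [hg, ← X1_8]
        exact Subgroup.subset_closure (Or.inr (Or.inr rfl))
    · show mk1 negEl ∈ Hb
      rw [mk1_neg]; exact one_mem _
  rw [eq_top_iff]
  intro y _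
  obtain ⟨g, rfl⟩ := mk1_surj y
  have : g ∈ Hb.comap mk1 := by rw [htop]; trivial
  exact this

theorem inner_co1 : ∀ α : MulAut Q1, ∃ g, ∀ y, α y = g * y * g⁻¹ := by
  have := finite_co0 card_Co0
  apply inner_of_data_set f1 f1_inj 23 11 5 (by norm_num) (by norm_num) uT vB wD gen23 uT_pow uT_ne
    (by rw [card_Q1]; norm_num) vB_pow vB_ne (by rw [card_Q1]; norm_num) ⟨2, vB_uT⟩ ⟨3, wD_vB⟩ wD_pow odd1 inner23
    {mk1 (X1 6), mk1 (X1 8)} ?_ gen1
  intro β hβ i hi
  rcases hi with rfl | hi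
  · exact fixA β hβ
  · rw [Set.mem_singleton_iff] at hi
    rw [hi]; exact fixB β hβ

theorem card_out_co1 : Nat.card (Cfsg.Out Spor.Co1) = 1 := card_out_of_inner inner_co1

end Cfsg.Agent.Lib.Helper33
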