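import Cfsg.Agent.Lib.Helper33.OutCert
import Cfsg.Agent.Lib.Helper33.Oc3L1
import Cfsg.Agent.Lib.Helper33.Oc3L2

set_option autoImplicit false
set_option maxRecDepth 1000000

/-!
All automorphisms of the stabiliser of the vector `(-5, -1, ..., -1)` are inner.
-/

namespace Cfsg.Agent.Lib.Helper33

open Cfsg MulAction Cfsg.Agent.Lib.Helper9 Cfsg.Agent.Lib.Helper11 Cfsg.Agent.Lib.Helper88
  Cfsg.Agent.Lib.Helper88.OChains Cfsg.Agent.Lib.Helper94

theorem oc3_m1 : allBelow (fun k => mvOK (matAt oc3G1 k) pX0 pX0 && mvOK (matAt oc3G1 k) pV pV) 6 = true := by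
  decide +kernel

theorem oc3_m2 : allBelow (fun k => mvOK (matAt oc3G2 k) pX0 pX0 && (mvOK (matAt oc3G2 k) pV pV &&
    mvOK (matAt oc3G2 k) pU pU)) 6 = true := by decide +kernel

theorem oc3_m3 : mvOK (matAt oc3G2 6) pU pU = true := by decide +kernel

theorem oc3_p1 : prodOK (matAt oc3G2 4) (matAt oc3G1 6) (matAt oc3G3 0) = true := by decide +kernel

theorem oc3_p2 : prodOK (matAt oc3G1 6) (matAt oc3G3 0) (matAt oc3G2 6) = true := by decide +kernel

theorem oc3_ix : mvOK (matAt oc3G1 6) pV pV = true := by decide +kernel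

theorem oc3_i0 : mvOK (matAt oc3G1 6) pX0 pZ3 = true := by decide +kernel

theorem oc3_rv : relOK (matAt oc3G1 6) chBc chBc = true := by decide +kernel

theorem oc3_rw : relOK (matAt oc3G1 6) chDc chDc = true := by decide +kernel

theorem data3 : OutData Spor.leechV (lv pZ3) (coEl (matAt oc3G1 6)) 1 := by
  have hCo0 := Cfsg.Agent.Lib.Helper11.card_Co0
  have hco := (gensOK_spec oc3G1_ok 6 (by norm_num)).2
  obtain ⟨g1, g2⟩ := gens_mem oc3G1 oc3G2 oc3G3 pU oc3G1_ok oc3G2_ok oc3G3_ok pU_ok oc3_m1 oc3_m2 oc3_m3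
    oc3_p1 oc3_p2
  have ix : coEl (matAt oc3G1 6) • Spor.leechV = Spor.leechV := by
    have := move_of_mvOK oc3G1_ok (k := 6) (by norm_num) pV_ok pV_ok oc3_ix
    rwa [lv_pV] at this
  have hN : Nat.card ↥(stabilizer ↥Co0 Spor.leechV) = 495766656000 := by
    rw [card_stab_conj (to_lu0 dVV), card_co3 hCo0]
  refine ⟨iota_V, fun g h _ => h, fun z h1 h2 h3 => fix3 z h1 h2 (by rw [h3, ldot_V_x0]), pZ3_ne, ix, ?_, ?_, ?_,
    ?_, ?_, ?_⟩
  · have := move_of_mvOK oc3G1_ok (k := 6) (by norm_num) pX0_ok pZ3_ok oc3_i0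
    rwa [lv_pX0] at this
  · rw [pow_one]
    apply rel_of_table hco
    rw [code_vB]
    exact oc3_rv
  · apply rel_of_table hco
    rw [code_wD]
    exact oc3_rw
  · apply gen_of_orbits hCo0 Spor.leechV Spor.leechU Spor.leechU' _ 552 2025 iota_V ix (Or.inl ⟨rfl, rfl⟩)
    · have := orbit_lower oc3L1Mem 552 oc3G1 oc3L1R oc3L1Rts 4 _ oc3L1_mem oc3G1_ok g1 oc3L1_rt oc3L1_nodes
      have e : lv (decV (get3 oc3L1Mem 20 (fld20 oc3L1Rts 0))) = Spor.leechU := by
        show lv (oc3L1Nd (fld20 oc3L1Rts 0)) = _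
        rw [oc3L1_root]
        exact lv_pU
      rwa [e] at this
    · rw [lv_pU] at g2
      have := orbit_lower oc3L2Mem 2025 oc3G2 oc3L2R oc3L2Rts 4 _ oc3L2_mem oc3G2_ok g2 oc3L2_rt oc3L2_nodes
      have e : lv (decV (get3 oc3L2Mem 20 (fld20 oc3L2Rts 0))) = Spor.leechU' := by
        show lv (oc3L2Nd (fld20 oc3L2Rts 0)) = _
        rw [oc3L2_root]
        exact lv_pU1
      rwa [e] at this
    · rw [hN]
  · rw [hN]; norm_num
  · rw [hN]; norm_num

theorem inner_co3 : ∀ α : MulAut ↥(stabilizer ↥Co0 Spor.leechV), ∃ g, ∀ y, α y = g * y * g⁻¹ := by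
  have := finite_co0 Cfsg.Agent.Lib.Helper11.card_Co0
  exact inner_of_outData data3

/-- the stabiliser, as a subgroup of the group of all permutations of the lattice -/
def outEquivCo3 : ↥(stabilizer ↥Co0 Spor.leechV) ≃* ↥Spor.Co3 where
  toFun g := ⟨g.1.1, g.1.2, g.2⟩
  invFun g := ⟨⟨g.1, g.2.1⟩, g.2.2⟩
  left_inv _ := rfl
  right_inv _ := rfl
  map_mul' _ _ := rfl

theorem card_out_co3 : Nat.card (Cfsg.Out ↥Spor.Co3) = 1 :=
  card_out_of_inner (inner_congr outEquivCo3 inner_co3)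

end Cfsg.Agent.Lib.Helper33
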