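import Cfsg.Agent.Lib.Helper88.O23
import Cfsg.Agent.Lib.Helper88.MGroups

set_option autoImplicit false
set_option maxRecDepth 100000

/-!
The facts on the stabiliser of a point in the group of the length 24 code which are used for the
outer automorphism groups of two stabilisers of lattice vectors (from the certificates of helper88).
-/

namespace Cfsg.Agent.Lib.Helper33

open Cfsg Cfsg.Agent.Lib.Helper94 Cfsg.Agent.Lib.Helper88 Cfsg.Agent.Lib.Helper88.OChains

/-- the stabiliser of the extra point -/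
abbrev M23g : Subgroup (Equiv.Perm GolayPt) := GG 8388608 16777215

theorem hD24 : 16777215 < 2 ^ 24 := by norm_num

theorem chD_in : inGG 8388608 16777215 chDc = true := by decide +kernel

noncomputable def uT : ↥M23g := mkG hD24 chTc O23.hu
noncomputable def vB : ↥M23g := mkG hD24 chBc O23.hv
noncomputable def wD : ↥M23g := mkG hD24 chDc chD_in

theorem code_uT : code (uT : Equiv.Perm GolayPt) = chTc := code_mkG _ _ _
theorem code_vB : code (vB : Equiv.Perm GolayPt) = chBc := code_mkG _ _ _
theorem code_wD : code (wD : Equiv.Perm GolayPt) = chDc := code_mkG _ _ _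

theorem eq_of_code {g h : ↥M23g} (e : code (g : Equiv.Perm GolayPt) = code (h : Equiv.Perm GolayPt)) : g = h :=
  Subtype.ext (code_injective e)

theorem M23g_le : M23g ≤ M24 := fun _ hg => (mem_GG.1 hg).1

theorem M23g_none (g : ↥M23g) : (g : Equiv.Perm GolayPt) none = none :=
  (fixM_inf_iff _).1 (mem_GG.1 g.2).2.1

theorem mem_M23g {g : Equiv.Perm GolayPt} (h : g ∈ M24) (h' : g none = none) : g ∈ M23g :=
  mem_GG.2 ⟨h, (fixM_inf_iff _).2 h', Inv.full g⟩

theorem wcs_eq : O23.wcs = [chDc] := by decide +kernel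

theorem gen23 : Subgroup.closure ({uT, vB, wD} : Set ↥M23g) = ⊤ := by
  rw [eq_top_iff, ← O23.cert.closure_top, Subgroup.closure_le]
  rintro x (hx | hx)
  · apply Subgroup.subset_closure
    rcases hx with rfl | hx
    · left; rfl
    · rw [Set.mem_singleton_iff] at hx
      right; left; rw [hx]; rfl
  · apply Subgroup.subset_closure
    right; right
    rw [Set.mem_singleton_iff]
    have h1 : code (x : Equiv.Perm GolayPt) ∈
        (mkL O23.cert.hD O23.wcs O23.cert.hw).map (fun g : ↥M23g => code (g : Equiv.Perm GolayPt)) :=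
      List.mem_map.2 ⟨x, hx, rfl⟩
    rw [map_code_mkL, wcs_eq, List.mem_singleton] at h1
    exact eq_of_code (by rw [h1, code_wD])

theorem uT_pow : uT ^ 23 = 1 := by
  apply eq_of_code
  rw [Subgroup.coe_pow, code_pow, code_uT, Subgroup.coe_one, code_one]
  exact O23.h7

theorem uT_ne : uT ≠ 1 := by
  intro h
  apply O23.h8
  rw [← code_uT, h, Subgroup.coe_one, code_one]

theorem chB_pow : powM chBc 11 = idM := by decide +kernel
theorem chB_ne : chBc ≠ idM := by decide +kernel
theorem chD_pow : powM chDc 5 = idM := by decide +kernel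
theorem chDB : mulM chDc chBc = mulM (powM chBc 3) chDc := by decide +kernel

theorem vB_pow : vB ^ 11 = 1 := by
  apply eq_of_code
  rw [Subgroup.coe_pow, code_pow, code_vB, Subgroup.coe_one, code_one]
  exact chB_pow

theorem vB_ne : vB ≠ 1 := by
  intro h
  apply chB_ne
  rw [← code_vB, h, Subgroup.coe_one, code_one]

theorem wD_pow : wD ^ 5 = 1 := by
  apply eq_of_code
  rw [Subgroup.coe_pow, code_pow, code_wD, Subgroup.coe_one, code_one]
  exact chD_pow

theorem vB_uT : vB * uT * vB⁻¹ = uT ^ 2 := by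
  rw [mul_inv_eq_iff_eq_mul]
  apply eq_of_code
  rw [Subgroup.coe_mul, Subgroup.coe_mul, Subgroup.coe_pow, code_mul, code_mul, code_pow, code_uT, code_vB]
  exact O23.h9

theorem wD_vB : wD * vB * wD⁻¹ = vB ^ 3 := by
  rw [mul_inv_eq_iff_eq_mul]
  apply eq_of_code
  rw [Subgroup.coe_mul, Subgroup.coe_mul, Subgroup.coe_pow, code_mul, code_mul, code_pow, code_wD, code_vB]
  exact chDB

theorem inner23 (β : MulAut ↥M23g) : ∃ m : ↥M23g, ∀ x, β x = m * x * m⁻¹ := by
  obtain ⟨h, hh, n, hn, hb⟩ := O23.cert.rigid.aut β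
  rw [List.mem_singleton, ← code_one] at hn
  have hn1 : n = 1 := code_injective hn
  refine ⟨⟨h, hh⟩, fun x => Subtype.ext ?_⟩
  rw [hb x, hn1, mul_one]
  rfl

theorem centB_chk : (intertw chBc chBc (chBsegs.map Prod.fst) chBlvs).all
    (fun c => (List.range 11).any fun k => Nat.beq c (powM chBc k)) = true := by decide +kernel

/-- the centraliser of `vB` in the group of the code -/
theorem cent_vB {y : Equiv.Perm GolayPt} (hy : y ∈ M24)
    (h : y * (vB : Equiv.Perm GolayPt) = (vB : Equiv.Perm GolayPt) * y) :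
    ∃ k : ℕ, y = (vB : Equiv.Perm GolayPt) ^ k := by
  have h1 := mem_intertw chB_chain (by rw [code_vB]; exact chB_base) chB_segs hy h
  rw [code_vB] at h1
  have h2 := (List.all_eq_true.1 centB_chk) _ h1
  rw [List.any_eq_true] at h2
  obtain ⟨k, _, hk⟩ := h2
  rw [Nat.beq_eq] at hk
  refine ⟨k, code_injective ?_⟩
  rw [hk, code_pow, code_vB]

theorem invB_chk : (intertw chBc (powM chBc 10) (chBsegs.map Prod.fst) chBlvs).all
    (fun c => !Nat.beq (applyM c 8388608) 8388608) = true := by decide +kernel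

/-- an element of the group of the code inverting `vB` moves the extra point -/
theorem inv_vB {y : Equiv.Perm GolayPt} (hy : y ∈ M24)
    (h : y * (vB : Equiv.Perm GolayPt) = (vB : Equiv.Perm GolayPt) ^ 10 * y) : y none ≠ none := by
  have h1 := mem_intertw chB_chain (by rw [code_vB]; exact chB_base) chB_segs hy h
  rw [code_pow, code_vB] at h1
  have h2 := (List.all_eq_true.1 invB_chk) _ h1
  intro hn
  have h3 := applyM_code_pt y none
  rw [hn] at h3
  have e : (2 : ℕ) ^ enc (none : GolayPt) = 8388608 := by decide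
  rw [e] at h3
  rw [h3] at h2
  simp at h2

/-- representatives of the orbits of `vB` -/
def clsB (i : ℕ) : ℕ :=
  if i = 23 then 23 else if i = 0 then 0 else if i ∈ [1, 2, 3, 4, 6, 8, 9, 12, 13, 16, 18] then 1 else 5

theorem clsB_chk : (List.range 24).all (fun i => (List.range 11).any fun k =>
    Nat.beq (applyM (powM chBc k) (Nat.pow 2 (clsB i))) (Nat.pow 2 i)) = true := by decide +kernel

theorem clsB_lt (i : ℕ) : clsB i < 24 := by
  unfold clsB
  split_ifs <;> norm_num

theorem clsB_spec {i : ℕ} (hi : i < 24) : ∃ k : ℕ, ((vB : Equiv.Perm GolayPt) ^ k) (Helper94.pt (clsB i)) = Helper94.pt i := by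
  have h := (List.all_eq_true.1 clsB_chk) i (List.mem_range.2 hi)
  rw [List.any_eq_true] at h
  obtain ⟨k, _, hk⟩ := h
  rw [Nat.beq_eq] at hk
  refine ⟨k, ?_⟩
  have h3 := applyM_code_pt ((vB : Equiv.Perm GolayPt) ^ k) (Helper94.pt (clsB i))
  rw [code_pow, code_vB, enc_pt (clsB_lt i)] at h3
  have h4 : (2 : ℕ) ^ i = 2 ^ enc (((vB : Equiv.Perm GolayPt) ^ k) (Helper94.pt (clsB i))) := by
    rw [← h3]; exact hk.symm
  have h5 := Nat.pow_right_injective (le_refl 2) h4
  rw [← pt_enc (((vB : Equiv.Perm GolayPt) ^ k) (Helper94.pt (clsB i))), ← h5]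

end Cfsg.Agent.Lib.Helper33
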