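import Cfsg.Agent.Lib.Helper33.OutLat
import Cfsg.Agent.Lib.Helper33.OutM23

set_option autoImplicit false
set_option maxRecDepth 100000

/-!
The lattice vectors of sum of squares 64 fixed by the element of order 11.
-/

namespace Cfsg.Agent.Lib.Helper33

open Cfsg MulAction Cfsg.Agent.Lib.Helper9 Cfsg.Agent.Lib.Helper11

/-- the coordinate permutations fixing the extra point -/
noncomputable def iota : ↥M23g →* ↥Co0 := perm24.comp (Subgroup.inclusion M23g_le)

theorem iota_apply (σ : ↥M23g) (v : ↥leechLattice) (i : GolayPt) :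
    ((iota σ • v : ↥leechLattice) : GolayPt → ℤ) i = (v : GolayPt → ℤ) (σ.1.symm i) :=
  perm24_apply _ v i

theorem iota_injective : Function.Injective iota :=
  perm24_injective.comp (Subgroup.inclusion_injective M23g_le)

theorem symm_none (σ : ↥M23g) (i : GolayPt) : σ.1.symm i = none ↔ i = none := by
  rw [Equiv.symm_apply_eq, M23g_none]

theorem iota_x0 (σ : ↥M23g) : iota σ • x0 = x0 := by
  apply Subtype.ext
  funext i
  rw [iota_apply, x0_val, Pi.single_apply, Pi.single_apply]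
  simp only [symm_none]

theorem iota_V (σ : ↥M23g) : iota σ • Spor.leechV = Spor.leechV := by
  apply Subtype.ext
  funext i
  rw [iota_apply]
  show Spor.vecV _ = Spor.vecV _
  unfold Spor.vecV
  simp only [symm_none]

theorem mem_range_iota {g : ↥Co0} (h0 : g • x0 = x0) (hV : g • Spor.leechV = Spor.leechV) :
    g ∈ iota.range := by
  obtain ⟨σ, hσ, rfl⟩ := mono_of_fix g h0 hV
  exact ⟨⟨σ.1, mem_M23g σ.2 hσ⟩, rfl⟩

/-- a vector fixed by the element of order 11 is constant on its orbits -/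
theorem const_of_fix {z : ↥leechLattice} (h : iota vB • z = z) {i : ℕ} (hi : i < 24) :
    z.1 (pt i) = z.1 (pt (clsB i)) := by
  have h1 : ∀ p, z.1 ((vB : Equiv.Perm GolayPt) p) = z.1 p := by
    intro p
    have := congrFun (congrArg Subtype.val h) ((vB : Equiv.Perm GolayPt) p)
    rw [iota_apply, Equiv.symm_apply_apply] at this
    exact this.symm
  have h2 : ∀ (k : ℕ) p, z.1 (((vB : Equiv.Perm GolayPt) ^ k) p) = z.1 p := by
    intro k
    induction k with
    | zero => intro p; rfl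
    | succ k ih =>
      intro p
      rw [pow_succ', Equiv.Perm.mul_apply, h1, ih]
  obtain ⟨k, hk⟩ := clsB_spec hi
  have e : (pt i : GolayPt) = ((vB : Equiv.Perm GolayPt) ^ k) (pt (clsB i)) := hk.symm
  rw [e, h2]

/-- the vector with given values on the four orbits -/
def fourFn (a b c d : ℤ) (j : ℕ) : ℤ :=
  if clsB j = 23 then a else if clsB j = 0 then b else if clsB j = 1 then c else d

def fourVec (a b c d : ℤ) : GolayPt → ℤ := fun p => fourFn a b c d (idx p)

theorem eq_fourVec {z : ↥leechLattice} (h : iota vB • z = z) :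
    z.1 = fourVec (z.1 (pt 23)) (z.1 (pt 0)) (z.1 (pt 1)) (z.1 (pt 5)) := by
  funext p
  have h1 := const_of_fix h (idx_lt p)
  rw [pt_idx] at h1
  rw [h1]
  unfold fourVec fourFn
  have h2 : clsB (idx p) = 23 ∨ clsB (idx p) = 0 ∨ clsB (idx p) = 1 ∨ clsB (idx p) = 5 := by
    unfold clsB
    split_ifs <;> simp
  rcases h2 with h2 | h2 | h2 | h2 <;> rw [h2] <;> simp

theorem sqNorm_fourVec (a b c d : ℤ) : sqNorm (fourVec a b c d) = a ^ 2 + b ^ 2 + 11 * c ^ 2 + 11 * d ^ 2 := by
  unfold sqNorm fourVec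
  rw [sum_idx (fun j => fourFn a b c d j ^ 2)]
  simp only [Finset.sum_range_succ, Finset.sum_range_zero]
  simp [fourFn, clsB]
  ring

theorem vecV_idx : ∀ p : GolayPt, Spor.vecV p = if idx p = 23 then -5 else -1 := by decide

theorem dotV_fourVec (a b c d : ℤ) : dotInt Spor.vecV (fourVec a b c d) = -(5 * a + b + 11 * c + 11 * d) := by
  unfold dotInt fourVec
  simp only [vecV_idx]
  rw [sum_idx (fun j => (if j = 23 then (-5 : ℤ) else -1) * fourFn a b c d j)]
  simp only [Finset.sum_range_succ, Finset.sum_range_zero]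
  simp [fourFn, clsB]
  ring

theorem x0_idx : ∀ p : GolayPt, (Pi.single none 8 : GolayPt → ℤ) p = if idx p = 23 then 8 else 0 := by decide

theorem dotx0_fourVec (a b c d : ℤ) : dotInt (x0 : GolayPt → ℤ) (fourVec a b c d) = 8 * a := by
  rw [x0_val]
  unfold dotInt fourVec
  simp only [x0_idx]
  rw [sum_idx (fun j => (if j = 23 then (8 : ℤ) else 0) * fourFn a b c d j)]
  simp only [Finset.sum_range_succ, Finset.sum_range_zero]
  simp [fourFn, clsB]

def pZ3 : ℕ := 0xc0008000800080008000a0008000a00080008000a000a00080008000a000a0008000a0008000a000a000a000a0006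
def pZ2 : ℕ := 0xa0006000600060006000800060008000600060008000800060006000800080006000800060008000800080008000c
def pBad0 : ℕ := 0xc000a000a000a000a0008000a0008000a000a00080008000a000a00080008000a0008000a00080008000800080006
def pWit0 : ℕ := 0x700070009000700090007000900090007000900070007000900090009000900090009000900090009000700090005
def pBad1 : ℕ := 0x500070007000700070006000700060007000700060006000700070006000600070006000700060006000600060008
def pWit1 : ℕ := 0x900090009000900090009000900090009000900090009000900090009000900090009000900090009000900090005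
def pBad2 : ℕ := 0x500060006000600060007000600070006000600070007000600060007000700060007000600070007000700070008
def pBad3 : ℕ := 0xa00080008000800080007000800070008000800070007000800080007000700080007000800070007000700070001
def pBad4 : ℕ := 0xa00070007000700070008000700080007000700080008000700070008000800070008000700080008000800080001
def pBad5 : ℕ := 0xa0008000800080008000600080006000800080006000600080008000600060008000600080006000600060006000c

theorem not_mem_of_dot {a y : ℕ} (ha : vecOK a = true) (hy : cstOK y = true)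
    (h : Nat.beq (Nat.mod (dotC a y) 8) 0 = false) : vec a ∉ leechLattice := by
  intro hm
  have h1 := eight_dvd_dot' hm (cst_mem hy)
  rw [dotC_spec (vecOK_spec ha) (cst_small hy)] at h1
  have h2 : dotC a y % 8 = 0 := by omega
  have h3 : Nat.mod (dotC a y) 8 = 0 := h2
  rw [h3] at h
  exact absurd h (by decide)

theorem bad0 : vec pBad0 ∉ leechLattice := not_mem_of_dot (y := pWit0) (by decide +kernel) (by decide +kernel) (by decide +kernel)
theorem bad1 : vec pBad1 ∉ leechLattice := not_mem_of_dot (y := pWit1) (by decide +kernel) (by decide +kernel) (by decide +kernel)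
theorem bad2 : vec pBad2 ∉ leechLattice := not_mem_of_dot (y := pWit1) (by decide +kernel) (by decide +kernel) (by decide +kernel)
theorem bad3 : vec pBad3 ∉ leechLattice := not_mem_of_dot (y := pWit1) (by decide +kernel) (by decide +kernel) (by decide +kernel)
theorem bad4 : vec pBad4 ∉ leechLattice := not_mem_of_dot (y := pWit1) (by decide +kernel) (by decide +kernel) (by decide +kernel)
theorem bad5 : vec pBad5 ∉ leechLattice := not_mem_of_dot (y := pWit0) (by decide +kernel) (by decide +kernel) (by decide +kernel)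

theorem pZ3_ok : cstOK pZ3 = true := by decide +kernel
theorem pZ2_ok : cstOK pZ2 = true := by decide +kernel

theorem fv_x0 : ∀ p, fourVec 8 0 0 0 p = (Pi.single none 8 : GolayPt → ℤ) p := by decide +kernel
theorem fv_Z3 : ∀ p, fourVec 4 (-2) 2 0 p = vec pZ3 p := by decide +kernel
theorem fv_Z2 : ∀ p, fourVec 2 4 0 (-2) p = vec pZ2 p := by decide +kernel
theorem fv_bad0 : ∀ p, fourVec 4 (-2) 0 2 p = vec pBad0 p := by decide +kernel
theorem fv_bad1 : ∀ p, fourVec (-3) 0 (-2) (-1) p = vec pBad1 p := by decide +kernel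
theorem fv_bad2 : ∀ p, fourVec (-3) 0 (-1) (-2) p = vec pBad2 p := by decide +kernel
theorem fv_bad3 : ∀ p, fourVec 2 (-7) (-1) 0 p = vec pBad3 p := by decide +kernel
theorem fv_bad4 : ∀ p, fourVec 2 (-7) 0 (-1) p = vec pBad4 p := by decide +kernel
theorem fv_bad5 : ∀ p, fourVec 2 4 (-2) 0 p = vec pBad5 p := by decide +kernel

theorem arith3 : ∀ a ∈ Finset.Icc (-8 : ℤ) 8, ∀ c ∈ Finset.Icc (-2 : ℤ) 2, ∀ d ∈ Finset.Icc (-2 : ℤ) 2,
    a ^ 2 + (40 - 5 * a - 11 * c - 11 * d) ^ 2 + 11 * c ^ 2 + 11 * d ^ 2 = 64 →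
    (a = 8 ∧ c = 0 ∧ d = 0) ∨ (a = 4 ∧ c = 2 ∧ d = 0) ∨ (a = 4 ∧ c = 0 ∧ d = 2) := by decide +kernel

theorem arith2 : ∀ a ∈ Finset.Icc (-8 : ℤ) 8, ∀ c ∈ Finset.Icc (-2 : ℤ) 2, ∀ d ∈ Finset.Icc (-2 : ℤ) 2,
    a ^ 2 + (-24 + 3 * a - 11 * c - 11 * d) ^ 2 + 11 * c ^ 2 + 11 * d ^ 2 = 64 →
    (a = 8 ∧ c = 0 ∧ d = 0) ∨ (a = 2 ∧ c = 0 ∧ d = -2) ∨ (a = -3 ∧ c = -2 ∧ d = -1) ∨
    (a = -3 ∧ c = -1 ∧ d = -2) ∨ (a = 2 ∧ c = -1 ∧ d = 0) ∨ (a = 2 ∧ c = 0 ∧ d = -1) ∨
    (a = 2 ∧ c = -2 ∧ d = 0) := by decide +kernel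

theorem bounds {a b c d : ℤ} (h : a ^ 2 + b ^ 2 + 11 * c ^ 2 + 11 * d ^ 2 = 64) :
    a ∈ Finset.Icc (-8 : ℤ) 8 ∧ c ∈ Finset.Icc (-2 : ℤ) 2 ∧ d ∈ Finset.Icc (-2 : ℤ) 2 := by
  simp only [Finset.mem_Icc]
  refine ⟨⟨?_, ?_⟩, ⟨?_, ?_⟩, ⟨?_, ?_⟩⟩ <;> nlinarith [sq_nonneg a, sq_nonneg b, sq_nonneg c, sq_nonneg d]

theorem lv_of_coe {z : ↥leechLattice} {b : ℕ} (hb : cstOK b = true) (h : z.1 = vec b) : z = lv b := by
  apply Subtype.ext
  rw [lv_coe (cst_mem hb)]
  exact h

/-- the case of the vector `(-5, -1, ..., -1)` -/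
theorem fix3 (z : ↥leechLattice) (hz : iota vB • z = z) (hn : sqNorm z.1 = 64)
    (hd : ldot Spor.leechV z = -40) : z = x0 ∨ z = lv pZ3 := by
  have e := eq_fourVec hz
  set a := z.1 (pt 23)
  set b := z.1 (pt 0)
  set c := z.1 (pt 1)
  set d := z.1 (pt 5)
  rw [e, sqNorm_fourVec] at hn
  have hd' : dotInt Spor.vecV z.1 = -40 := hd
  rw [e, dotV_fourVec] at hd'
  have hb : b = 40 - 5 * a - 11 * c - 11 * d := by linarith
  obtain ⟨ha, hc, hd2⟩ := bounds hn
  rw [hb] at hn
  rcases arith3 a ha c hc d hd2 hn with ⟨h1, h2, h3⟩ | ⟨h1, h2, h3⟩ | ⟨h1, h2, h3⟩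
  · left
    apply Subtype.ext
    rw [e, hb, h1, h2, h3, x0_val]
    exact funext fv_x0
  · right
    apply lv_of_coe pZ3_ok
    rw [e, hb, h1, h2, h3]
    exact funext fv_Z3
  · exfalso
    apply bad0
    have : z.1 = vec pBad0 := by
      rw [e, hb, h1, h2, h3]
      exact funext fv_bad0
    rw [← this]
    exact z.2

/-- the vector `(-3, 1, ..., 1)` -/
noncomputable def lX2 : ↥leechLattice := -Spor.leechV - x0

theorem fix2 (z : ↥leechLattice) (hz : iota vB • z = z) (hn : sqNorm z.1 = 64)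
    (hd : ldot lX2 z = -24) : z = x0 ∨ z = lv pZ2 := by
  have e := eq_fourVec hz
  set a := z.1 (pt 23)
  set b := z.1 (pt 0)
  set c := z.1 (pt 1)
  set d := z.1 (pt 5)
  rw [e, sqNorm_fourVec] at hn
  have hd' : -dotInt Spor.vecV z.1 - dotInt (x0 : GolayPt → ℤ) z.1 = -24 := by
    rw [lX2, ldot_sub_left, ldot_neg_left] at hd
    exact hd
  rw [e, dotV_fourVec, dotx0_fourVec] at hd'
  have hb : b = -24 + 3 * a - 11 * c - 11 * d := by linarith
  obtain ⟨ha, hc, hd2⟩ := bounds hn
  rw [hb] at hn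
  have key : ∀ {p : ℕ}, vec p ∉ leechLattice → z.1 = vec p → False := by
    intro p hp h
    apply hp
    rw [← h]
    exact z.2
  rcases arith2 a ha c hc d hd2 hn with ⟨h1, h2, h3⟩ | ⟨h1, h2, h3⟩ | ⟨h1, h2, h3⟩ | ⟨h1, h2, h3⟩ |
    ⟨h1, h2, h3⟩ | ⟨h1, h2, h3⟩ | ⟨h1, h2, h3⟩
  · left
    apply Subtype.ext
    rw [e, hb, h1, h2, h3, x0_val]
    exact funext fv_x0
  · right
    apply lv_of_coe pZ2_ok
    rw [e, hb, h1, h2, h3]
    exact funext fv_Z2
  · exact (key bad1 (by rw [e, hb, h1, h2, h3]; exact funext fv_bad1)).elim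
  · exact (key bad2 (by rw [e, hb, h1, h2, h3]; exact funext fv_bad2)).elim
  · exact (key bad3 (by rw [e, hb, h1, h2, h3]; exact funext fv_bad3)).elim
  · exact (key bad4 (by rw [e, hb, h1, h2, h3]; exact funext fv_bad4)).elim
  · exact (key bad5 (by rw [e, hb, h1, h2, h3]; exact funext fv_bad5)).elim

end Cfsg.Agent.Lib.Helper33
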