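import Cfsg.Agent.Lib.Helper33.OutRig3

set_option autoImplicit false
set_option maxRecDepth 100000

namespace Cfsg.Agent.Lib.Helper33

open Cfsg MulAction Cfsg.Agent.Lib.Helper9 Cfsg.Agent.Lib.Helper11 Matrix

/-- the points fixed by the element of order 5, from the certificates -/
theorem fixw_of (b p0 : ↥leechLattice) (τV τb : ℤ) (m : ℕ) (hm : m ≠ 0) (hP : (Pts b τV τb).ncard = m)
    (MEM G R rts C5 : ℕ)
    (hmem : allBelow (memOK decV valV 197760 0 0 0 MEM m) m = true)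
    (hG : gensOK G 4 = true) (hfix : ∀ l < 8, coEl (matAt G l) ∈ GS b)
    (hrt : Nat.blt (fld20 rts 0) m = true)
    (hnode : allBelow (cNode (fun t => decV (get3 MEM 20 t)) (fun _ => true) G R rts (2 * 4) 1 m) m = true)
    (hroot : lv (decV (get3 MEM 20 (fld20 rts 0))) = p0) (hp0 : p0 ∈ Pts b τV τb)
    (hfx : allBelow (fixChk (fun t => decV (get3 MEM 20 t)) C5) m = true)
    (h0 : lv (f384 C5 0) = p0)
    (hc : allBelow (fun j => cstOK (f384 C5 j)) 5 = true)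
    (hs : allBelow (fun j => mvOK (matAt G 6) (f384 C5 j) (f384 C5 (Nat.succ j))) 4 = true) :
    ∀ z ∈ L2, ldot Spor.leechV z = ldot Spor.leechV p0 → ldot b z = ldot b p0 → iota wD • z = z →
      ∃ j < 5, z = coEl (matAt G 6) ^ j • p0 := by
  obtain ⟨hl, hinj⟩ := orbit_list MEM m G R rts 4 (GS b) hmem hG hfix hrt hnode
  have cover := pts_cover hm hP (fun t => decV (get3 MEM 20 t)) (fld20 rts 0) (by rw [hroot]; exact hp0)
    (fun t ht => (hl t ht).2) hinj
  intro z hz h1 h2 h3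
  obtain ⟨t, ht, rfl⟩ := cover z ⟨hz, by rw [h1]; exact hp0.2.1, by rw [h2]; exact hp0.2.2⟩
  obtain ⟨j, hj, e⟩ := fix_spec hfx ht (hl t ht).1 h3
  exact ⟨j, hj, by rw [e, chain5 hG h0 hc hs j hj]⟩

/-- the stabiliser of two vectors, as a subgroup of the group of all permutations of the lattice -/
def gsEquiv (b : ↥leechLattice) : ↥(GS b) ≃*
    ↥(Spor.Co3 ⊓ MulAction.stabilizer (Equiv.Perm leechLattice) b) where
  toFun g := ⟨g.1.1, ⟨g.1.2, (mem_GS.1 g.2).1⟩, (mem_GS.1 g.2).2⟩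
  invFun g := ⟨⟨g.1, g.2.1.1⟩, mem_GS.2 ⟨g.2.1.2, g.2.2⟩⟩
  left_inv _ := rfl
  right_inv _ := rfl
  map_mul' _ _ := rfl

end Cfsg.Agent.Lib.Helper33
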