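import Cfsg.Agent.Lib.Helper33.OhFix
import Cfsg.Agent.Lib.Helper33.OutRig4

set_option autoImplicit false
set_option maxRecDepth 1000000

/-!
The outer automorphism group of the stabiliser of `(-5, -1, ..., -1)` and `(4, -4, 0, ..., 0)` has order two.
-/

namespace Cfsg.Agent.Lib.Helper33

open Cfsg MulAction Cfsg.Agent.Lib.Helper9 Cfsg.Agent.Lib.Helper11 Cfsg.Agent.Lib.Helper88
  Cfsg.Agent.Lib.Helper88.OChains Cfsg.Agent.Lib.Helper94

theorem nC_symm_none (p : GolayPt) : (nC : Equiv.Perm GolayPt).symm p = none ↔ p = some 0 := by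
  rw [Equiv.symm_apply_eq, nC_none]

theorem nC_symm_zero (p : GolayPt) : (nC : Equiv.Perm GolayPt).symm p = some 0 ↔ p = none := by
  rw [Equiv.symm_apply_eq, nC_zero]

theorem nH_V : perm24 nC • Spor.leechV = Spor.leechV + Spor.leechU' := by
  apply Subtype.ext
  funext p
  rw [perm24_apply]
  show Spor.vecV _ = Spor.vecV p + Spor.vecU' p
  unfold Spor.vecV Spor.vecU'
  simp only [nC_symm_none]
  rcases p with _ | x
  · simp
  · by_cases hx : x = 0
    · subst hx; simp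
    · simp [hx]

theorem nH_U1 : perm24 nC • Spor.leechU' = -Spor.leechU' := by
  apply Subtype.ext
  funext p
  rw [perm24_apply]
  show Spor.vecU' _ = -Spor.vecU' p
  unfold Spor.vecU'
  simp only [nC_symm_none, nC_symm_zero]
  rcases p with _ | x
  · simp
  · by_cases hx : x = 0
    · subst hx; simp
    · simp [hx]

theorem U_mem_pts : Spor.leechU ∈ Pts Spor.leechU' (-24) 0 :=
  ⟨(mem_L2_iff _).2 dUU, dVU, by rw [ldot_comm]; exact dUU'⟩

theorem nH_vB : perm24 nC * iota vB = iota vB ^ 10 * perm24 nC := by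
  have h : nC * (⟨vB.1, M23g_le vB.2⟩ : ↥M24) = (⟨vB.1, M23g_le vB.2⟩ : ↥M24) ^ 10 * nC :=
    Subtype.ext nC_vB
  have := congrArg perm24 h
  rwa [map_mul, map_mul, map_pow, ← iota_eq_perm24] at this

theorem nH_wD : perm24 nC * iota wD = iota wD * perm24 nC := by
  have h : nC * (⟨wD.1, M23g_le wD.2⟩ : ↥M24) = (⟨wD.1, M23g_le wD.2⟩ : ↥M24) * nC :=
    Subtype.ext nC_wD
  have := congrArg perm24 h
  rwa [map_mul, map_mul, ← iota_eq_perm24] at this

theorem rigHS : RigData Spor.leechU' Spor.leechU ohG ohRels 25 4 (perm24 nC) := by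
  have hCo0 := Cfsg.Agent.Lib.Helper11.card_Co0
  have e0 : coEl (matAt ohG 0) = iota vB :=
    coEl_eq_iota (gensOK_spec ohG_ok 0 (by norm_num)).2 vB (by rw [code_vB]; exact oh_e0)
  have e2 : coEl (matAt ohG 2) = iota wD :=
    coEl_eq_iota (gensOK_spec ohG_ok 2 (by norm_num)).2 wD (by rw [code_wD]; exact oh_e2)
  have e4 : coEl (matAt ohG 4) = iota sS :=
    coEl_eq_iota (gensOK_spec ohG_ok 4 (by norm_num)).2 sS (by rw [code_sS]; exact oh_e4)
  have fixVb : ∀ l < 8, coEl (matAt ohG l) ∈ GS Spor.leechU' := by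
    have := fixVb_of ohG_ok pU1_ok oh_fixVb
    rwa [lv_pU1] at this
  have hroot : lv (decV (get3 ohPMem 20 (fld20 ohPRts 0))) = Spor.leechU := by
    show lv (ohPNd (fld20 ohPRts 0)) = _
    rw [ohP_root]
    exact lv_pU
  have hN := card_GS_hs hCo0
  have gfix : ∀ g ∈ GS Spor.leechU', g • (Spor.leechV + Spor.leechU') = Spor.leechV + Spor.leechU' := by
    intro g hg
    rw [co0_smul_add, (mem_GS.1 hg).1, (mem_GS.1 hg).2]
  have gfix2 : ∀ g ∈ GS Spor.leechU', g • (-Spor.leechU') = -Spor.leechU' := by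
    intro g hg
    rw [co0_smul_neg, (mem_GS.1 hg).2]
  refine
    { gok := ohG_ok
      e0 := e0
      e2 := e2
      e4 := e4
      fixVb := fixVb
      tw := rel_of_table (gensOK_spec ohG_ok 6 (by norm_num)).2 wD wD (by rw [code_wD]; exact oh_tw)
      hbp := Or.inl ⟨rfl, rfl⟩
      fixw := fixw_of Spor.leechU' Spor.leechU (-24) 0 100 (by norm_num) pts_hs ohPMem ohG ohPR ohPRts ohC5
        ohP_mem ohG_ok fixVb ohP_rt ohP_nodes hroot U_mem_pts oh_fix (by rw [oh_c50]; exact lv_pU) oh_c5ok oh_c5st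
      gen := gen4 hCo0 Spor.leechU' Spor.leechU ohG 100 ohG_ok e0 e2 e4 fixVb (Or.inl ⟨rfl, rfl⟩)
        (fun H hH => by
          have := orbit_lower ohPMem 100 ohG ohPR ohPRts 4 H ohP_mem ohG_ok hH ohP_rt ohP_nodes
          rwa [hroot] at this) hN
      c121 := by rw [hN]; norm_num
      rel := rel_of_all ohG_ok oh_rel
      tup := tup_of_chk ohG_ok ohRels ohT1 ohQ ohT2 25 4 (by rw [e2, ← map_pow, wD_pow, map_one])
        (pow5_of_chk ohG_ok oh_t5) oh_s1 oh_s2 oh_fin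
      nN := fun g hg => ⟨conj_mem_GS (Spor.leechV + Spor.leechU') (-Spor.leechU')
          (by rw [co0_smul_add, nH_V, nH_U1]; abel) (by rw [co0_smul_neg, nH_U1, neg_neg]) gfix gfix2 g hg,
        conj_mem_GS' (by rw [nH_V]; exact gfix) (by rw [nH_U1]; exact gfix2) g hg⟩
      nv := Or.inr (by rw [mul_inv_eq_iff_eq_mul]; exact nH_vB)
      nw := by rw [mul_inv_eq_iff_eq_mul]; exact nH_wD
      nout := ?_ }
  rintro ⟨h, hh, H⟩
  have hvG : iota vB ∈ GS Spor.leechU' := by rw [← e0]; exact fixVb 0 (by norm_num)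
  have h1 : h * iota vB * h⁻¹ = iota vB ^ 10 := by
    rw [← H _ hvG, mul_inv_eq_iff_eq_mul]; exact nH_vB
  have h0 := norm_fix_x0 ldot_U1_Z3 (mem_GS.1 hh).1 (mem_GS.1 hh).2 h1
  obtain ⟨m, rfl⟩ := mem_range_iota h0 (mem_GS.1 hh).1
  have h2 : m * vB = vB ^ 10 * m := by
    apply iota_injective
    rw [map_mul, map_mul, map_pow, ← h1]
    group
  exact inv_vB (M23g_le m.2) (congrArg Subtype.val h2) (M23g_none m)

theorem card_out_hs : Nat.card (Cfsg.Out ↥Spor.HS) = 2 :=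
  (card_out_congr33 (gsEquiv Spor.leechU')).symm.trans (card_out_of_rig Cfsg.Agent.Lib.Helper11.card_Co0 rigHS)

end Cfsg.Agent.Lib.Helper33
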