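import Cfsg.Agent.Lib.Helper33.CoM22
import Cfsg.Agent.Lib.Helper33.OutAbs
import Cfsg.Agent.Lib.Helper11.Co0Card

set_option autoImplicit false

/-!
Lattice side tools for the outer automorphism groups of the stabilisers of short vectors.
-/

namespace Cfsg.Agent.Lib.Helper33

open Cfsg MulAction Cfsg.Agent.Lib.Helper9 Cfsg.Agent.Lib.Helper11 Matrix

/-- the coordinate permutations, as a homomorphism -/
noncomputable def perm24 : ↥M24 →* ↥Co0 where
  toFun σ := permEl σ.1 σ.2
  map_one' := by
    apply Helper9.co0_ext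
    intro v
    apply Subtype.ext
    funext i
    rw [permEl_apply, one_smul]
    rfl
  map_mul' σ τ := by
    apply Helper9.co0_ext
    intro v
    apply Subtype.ext
    funext i
    rw [mul_smul, permEl_apply, permEl_apply, permEl_apply]
    rfl

theorem perm24_apply (σ : ↥M24) (v : ↥leechLattice) (i : GolayPt) :
    ((perm24 σ • v : ↥leechLattice) : GolayPt → ℤ) i = (v : GolayPt → ℤ) (σ.1.symm i) :=
  permEl_apply σ.1 σ.2 v i

theorem perm24_injective : Function.Injective perm24 := by
  rw [injective_iff_map_eq_one]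
  intro σ h
  apply Subtype.ext
  apply Equiv.ext
  intro i
  have h1 : perm24 σ • uv i = uv i := by rw [h, one_smul]
  have h2 := congrFun (congrArg Subtype.val h1) (σ.1 i)
  rw [perm24_apply, Equiv.symm_apply_apply, uv_val, Pi.single_eq_same] at h2
  by_contra hne
  have hne' : σ.1 i ≠ i := hne
  rw [Pi.single_eq_of_ne hne'] at h2
  omega

/-- an automorphism fixing `8 e` and `(-5, -1, ..., -1)` is a coordinate permutation fixing the extra point -/
theorem mono_of_fix (g : ↥Co0) (h0 : g • x0 = x0) (hV : g • Spor.leechV = Spor.leechV) :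
    ∃ σ : ↥M24, σ.1 none = none ∧ g = perm24 σ := by
  obtain ⟨σ, hσ, c, hc, hform⟩ := fixCross_monomial g (stab_le_crossStab (mem_stabilizer_iff.2 h0))
  have key : ∀ i, signedPerm σ c Spor.vecV i = Spor.vecV i := fun i => by
    have := congrFun (congrArg Subtype.val hV) i
    rw [hform] at this
    exact this
  have hc' : ∀ i, i ∉ c := by
    intro i hi
    have := key i
    unfold signedPerm Spor.vecV at this
    rw [if_pos hi] at this
    split_ifs at this <;> omega
  have hs : σ.symm none = none := by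
    have := key none
    unfold signedPerm Spor.vecV at this
    rw [if_neg (hc' none)] at this
    by_contra hne
    rw [if_neg hne, if_pos rfl] at this
    omega
  refine ⟨⟨σ, hσ⟩, ?_, ?_⟩
  · show σ none = none
    have := congrArg σ hs
    rw [Equiv.apply_symm_apply] at this
    exact this.symm
  · apply Helper9.co0_ext
    intro v
    apply Subtype.ext
    funext i
    rw [hform, perm24_apply]
    unfold signedPerm
    rw [if_neg (hc' i)]

theorem eight_dvd_dot' {y z : GolayPt → ℤ} (hy : y ∈ leechLattice) (hz : z ∈ leechLattice) :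
    (8 : ℤ) ∣ dotInt y z := by
  have h1 := leech_even (leechLattice.add_mem hy hz)
  have h2 := leech_even hy
  have h3 := leech_even hz
  rw [sqNorm_add] at h1
  omega

/-! ### products of packed matrices -/

/-- `A * B = 8 C` for packed matrices -/
noncomputable def prodOK (A B C : ℕ) : Bool :=
  allBelow (fun k => vecOK (lowcol B k) && (vecOK (lowcol C k) && mvOK A (lowcol B k) (lowcol C k))) 24

theorem mul_of_prodOK {A B C : ℕ} (hA : matOK A = true) (h : prodOK A B C = true) :
    matOf A * matOf B = (8 : ℤ) • matOf C := by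
  rw [prodOK, allBelow_iff] at h
  ext p q
  have := h (idx q) (idx_lt q)
  simp only [Bool.and_eq_true] at this
  have key := congrFun (mv_vec hA this.1 this.2.1 this.2.2) p
  rw [Matrix.mul_apply, Matrix.smul_apply]
  have e1 : (matOf A *ᵥ vec (lowcol B (idx q))) p = ∑ r, matOf A p r * matOf B r q := by
    show ∑ r, matOf A p r * vec (lowcol B (idx q)) r = _
    apply Finset.sum_congr rfl
    intro r _
    congr 1
    show (dg (lowcol B (idx q)) (idx r) : ℤ) - 8 = (ment B (idx r) (idx q) : ℤ) - 8
    rw [lowcol_dg _ _ (idx_lt r)]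
  rw [← e1, key]
  show (8 : ℤ) • ((dg (lowcol C (idx q)) (idx p) : ℤ) - 8) = (8 : ℤ) • ((ment C (idx p) (idx q) : ℤ) - 8)
  rw [lowcol_dg _ _ (idx_lt p)]

theorem coEl_mul {A B C : ℕ} (hA : IsCoMat (matOf A)) (hB : IsCoMat (matOf B)) (hC : IsCoMat (matOf C))
    (h : matOf A * matOf B = (8 : ℤ) • matOf C) : coEl A * coEl B = coEl C := by
  apply Helper9.co0_ext
  intro v
  apply Subtype.ext
  apply smul8_inj
  apply smul8_inj
  rw [mul_smul, ← coEl_spec hA, ← mulVec_smul, ← coEl_spec hB, mulVec_mulVec, h, smul_mulVec, coEl_spec hC]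

theorem coEl_inv {M M' : ℕ} (h : coOK M M' = true) : coEl M' = (coEl M)⁻¹ := by
  obtain ⟨h1, h2, hT⟩ := coOK_spec h
  rw [eq_inv_iff_mul_eq_one]
  apply Helper9.co0_ext
  intro v
  apply Subtype.ext
  apply smul8_inj
  apply smul8_inj
  rw [mul_smul, ← coEl_spec h2, ← mulVec_smul, ← coEl_spec h1, mulVec_mulVec, ← hT, h1.orth, smul_mulVec,
    one_mulVec, one_smul, smul_smul]
  norm_num

theorem gensOK_pair {G np : ℕ} (h : gensOK G np = true) {i : ℕ} (hi : i < np) :
    coOK (matAt G (2 * i)) (matAt G (2 * i + 1)) = true := by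
  rw [gensOK, allBelow_iff] at h
  exact h i hi

/-! ### lower bounds for orbits -/

theorem inj_of_step (f : ℕ → ℕ) (m : ℕ) (hmono : ∀ t, t + 1 < m → f t < f (t + 1)) :
    ∀ t < m, ∀ t' < m, f t = f t' → t = t' := by
  have hlt : ∀ d t, t + d + 1 < m → f t < f (t + d + 1) := by
    intro d
    induction d with
    | zero => intro t ht; exact hmono t ht
    | succ d ih =>
      intro t ht
      exact lt_trans (ih t (by omega)) (hmono (t + d + 1) (by omega))
  intro t ht t' ht' h
  by_contra hne
  rcases Nat.lt_or_gt_of_ne hne with h1 | h1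
  · have := hlt (t' - t - 1) t (by omega)
    rw [show t + (t' - t - 1) + 1 = t' by omega] at this
    omega
  · have := hlt (t - t' - 1) t' (by omega)
    rw [show t' + (t - t' - 1) + 1 = t by omega] at this
    omega

theorem orbit_lower (MEM m G R rts np : ℕ) (H : Subgroup ↥Co0)
    (hmem : allBelow (memOK decV valV 197760 0 0 0 MEM m) m = true)
    (hG : gensOK G np = true) (hH : ∀ i < 2 * np, coEl (matAt G i) ∈ H)
    (hrt : Nat.blt (fld20 rts 0) m = true)
    (hnode : allBelow (cNode (fun t => decV (get3 MEM 20 t)) (fun _ => true) G R rts (2 * np) 1 m) m = true) :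
    ∃ S : Finset ↥leechLattice, S.card = m ∧
      ∀ s ∈ S, ∃ g ∈ H, g • s = lv (decV (get3 MEM 20 (fld20 rts 0))) := by
  classical
  rw [allBelow_iff] at hmem
  have hm : ∀ t < m, get3 MEM 20 t < 197760 ∧ valV (get3 MEM 20 t) = true ∧
      (t + 1 < m → get3 MEM 20 t < get3 MEM 20 (t + 1)) := by
    intro t ht
    have := hmem t ht
    simp only [memOK, force_eq, Bool.and_eq_true, Bool.or_eq_true] at this
    refine ⟨blt_iff.1 this.1, this.2.1, fun h => ?_⟩
    rcases this.2.2.2 with h1 | h1
    · have := Nat.le_of_ble_eq_true h1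
      have h2 : m ≤ t + 1 := this
      omega
    · exact blt_iff.1 h1
  have hF := co_forest (fun t => decV (get3 MEM 20 t)) (fun _ => true) G R rts np 1 m H
    (fun t ht _ => decV_small (hm t ht).1 (hm t ht).2.1) hG hH
    (fun j hj => by
      have : j = 0 := by omega
      subst this
      exact decV_mem (hm _ (blt_iff.1 hrt)).1 (hm _ (blt_iff.1 hrt)).2.1) ((allBelow_iff _ _).1 hnode)
  have hinj0 := inj_of_step (fun t => get3 MEM 20 t) m (fun t ht => (hm t (by omega)).2.2 ht)
  have hinj : Set.InjOn (fun t => lv (decV (get3 MEM 20 t))) (Finset.range m : Set ℕ) := by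
    intro t ht t' ht' h
    have ht1 : t < m := by simpa using ht
    have ht2 : t' < m := by simpa using ht'
    exact hinj0 t ht1 t' ht2
      (enumL2.inj _ (hm t ht1).1 (hm t ht1).2.1 _ (hm t' ht2).1 (hm t' ht2).2.1 h)
  refine ⟨(Finset.range m).image (fun t => lv (decV (get3 MEM 20 t))),
    by rw [Finset.card_image_of_injOn hinj, Finset.card_range], ?_⟩
  intro s hs
  rw [Finset.mem_image] at hs
  obtain ⟨t, ht, rfl⟩ := hs
  obtain ⟨h1, _, g, hg, e⟩ := hF t (Finset.mem_range.1 ht) rfl
  have h0 : rLab (get3 R 40 t) = 0 := by omega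
  rw [h0] at e
  exact ⟨g, hg, e⟩

end Cfsg.Agent.Lib.Helper33
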