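import Cfsg.Agent.Lib.Helper88.O22
import Cfsg.Agent.Lib.Helper33.OutM23

set_option autoImplicit false
set_option maxRecDepth 100000

/-!
Facts on the stabiliser of two points in the group of the length 24 code (from the certificates of helper88).
-/

namespace Cfsg.Agent.Lib.Helper33

open Cfsg Cfsg.Agent.Lib.Helper94 Cfsg.Agent.Lib.Helper88 Cfsg.Agent.Lib.Helper88.OChains

def chSc : ℕ := 1037378907678398332147026938683444568635575645995925284614783843127063750218454739222509432056916924292881204217989503176833193830071305399548402052427446281467859902504869063294977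

theorem wcs22_eq : O22.wcs = [chSc] := by decide +kernel

theorem chS_in : inGG 8388608 16777215 chSc = true := by decide +kernel

noncomputable def sS : ↥M23g := mkG hD24 chSc chS_in

theorem code_sS : code (sS : Equiv.Perm GolayPt) = chSc := code_mkG _ _ _

theorem chSD : mulM chSc chDc = mulM (powM chDc 2) chSc := by decide +kernel

theorem sS_wD : sS * wD * sS⁻¹ = wD ^ 2 := by
  rw [mul_inv_eq_iff_eq_mul]
  apply eq_of_code
  rw [Subgroup.coe_mul, Subgroup.coe_mul, Subgroup.coe_pow, code_mul, code_mul, code_pow, code_sS, code_wD]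
  exact chSD

theorem chD_ne : chDc ≠ idM := by decide +kernel

theorem wD_ne : wD ≠ 1 := by
  intro h
  apply chD_ne
  rw [← code_wD, h, Subgroup.coe_one, code_one]

/-- the stabiliser of two points -/
abbrev M22g : Subgroup (Equiv.Perm GolayPt) := GG 8388609 16777215

theorem mem_M22g {g : Equiv.Perm GolayPt} (h : g ∈ M24) (h' : g none = none) (h0 : g (some 0) = some 0) :
    g ∈ M22g :=
  mem_GG.2 ⟨h, (fixM_inf_zero_iff _).2 ⟨h', h0⟩, Inv.full g⟩

theorem gen22 : M22g ≤ Subgroup.closure
    {(vB : Equiv.Perm GolayPt), (wD : Equiv.Perm GolayPt), (sS : Equiv.Perm GolayPt)} := by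
  have h := congrArg (Subgroup.map M22g.subtype) O22.cert.closure_top
  rw [MonoidHom.map_closure, ← MonoidHom.range_eq_map, Subgroup.range_subtype] at h
  rw [← h, Subgroup.closure_le]
  rintro _ ⟨x, hx, rfl⟩
  apply Subgroup.subset_closure
  rcases hx with hx | hx
  · rcases hx with rfl | hx
    · left
      apply code_injective
      rw [Subgroup.subtype_apply, code_mkG, code_vB]
    · rw [Set.mem_singleton_iff] at hx
      right; left
      apply code_injective
      rw [hx, Subgroup.subtype_apply, code_mkG, code_wD]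
  · right; right
    rw [Set.mem_singleton_iff]
    have h1 : code (x : Equiv.Perm GolayPt) ∈
        (mkL O22.cert.hD O22.wcs O22.cert.hw).map (fun g : ↥M22g => code (g : Equiv.Perm GolayPt)) :=
      List.mem_map.2 ⟨x, hx, rfl⟩
    rw [map_code_mkL, wcs22_eq, List.mem_singleton] at h1
    apply code_injective
    rw [Subgroup.subtype_apply, h1, code_sS]

theorem centD_chk : (intertw chDc chDc (chDsegs.map Prod.fst) chDlvs).all
    (fun c => !(Nat.beq (applyM c 8388608) 8388608) || (!(Nat.beq (applyM c 1) 1) ||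
      (List.range 5).any fun k => Nat.beq c (powM chDc k))) = true := by decide +kernel

/-- the centraliser of `wD` in the stabiliser of two points -/
theorem cent_wD {y : Equiv.Perm GolayPt} (hy : y ∈ M24)
    (h : y * (wD : Equiv.Perm GolayPt) = (wD : Equiv.Perm GolayPt) * y) (h1 : y none = none)
    (h0 : y (some 0) = some 0) : ∃ k < 5, y = (wD : Equiv.Perm GolayPt) ^ k := by
  have h2 := mem_intertw chD_chain (by rw [code_wD]; exact chD_base) chD_segs hy h
  rw [code_wD] at h2
  have h3 := (List.all_eq_true.1 centD_chk) _ h2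
  have e1 := applyM_code_pt y none
  rw [h1] at e1
  have e1' : (2 : ℕ) ^ enc (none : GolayPt) = 8388608 := by decide
  rw [e1'] at e1
  have e0 := applyM_code_pt y (some 0)
  rw [h0] at e0
  have e0' : (2 : ℕ) ^ enc (some 0 : GolayPt) = 1 := by decide
  rw [e0'] at e0
  rw [e1, e0] at h3
  rw [Nat.beq_refl, Nat.beq_refl] at h3
  simp only [Bool.not_true, Bool.false_or] at h3
  rw [List.any_eq_true] at h3
  obtain ⟨k, hk, hk'⟩ := h3
  rw [Nat.beq_eq] at hk'
  refine ⟨k, List.mem_range.1 hk, code_injective ?_⟩
  rw [hk', code_pow, code_wD]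

/-- the element interchanging the two points -/
noncomputable def nC : ↥M24 := ⟨permOf O22.nc, permOf_mem_M24 O22.hn24⟩

theorem code_mk24 (c : ℕ) (h : inM24 c = true) :
    code ((⟨permOf c, permOf_mem_M24 h⟩ : ↥M24) : Equiv.Perm GolayPt) = c := code_permOf (validM_of_inM24 h)

theorem code_nC : code (nC : Equiv.Perm GolayPt) = O22.nc := code_mk24 O22.nc O22.hn24

theorem nC_chk : mulM O22.nc chBc = mulM (powM chBc 10) O22.nc ∧ mulM O22.nc chDc = mulM chDc O22.nc ∧
    applyM O22.nc 8388608 = 1 ∧ applyM O22.nc 1 = 8388608 ∧ mulM O22.nc O22.nc = idM := by decide +kernel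

theorem nC_vB : (nC : Equiv.Perm GolayPt) * (vB : Equiv.Perm GolayPt) =
    (vB : Equiv.Perm GolayPt) ^ 10 * (nC : Equiv.Perm GolayPt) := by
  apply code_injective
  rw [code_mul, code_mul, code_pow, code_nC, code_vB]
  exact nC_chk.1

theorem nC_wD : (nC : Equiv.Perm GolayPt) * (wD : Equiv.Perm GolayPt) =
    (wD : Equiv.Perm GolayPt) * (nC : Equiv.Perm GolayPt) := by
  apply code_injective
  rw [code_mul, code_mul, code_nC, code_wD]
  exact nC_chk.2.1

theorem nC_sq : (nC : Equiv.Perm GolayPt) * (nC : Equiv.Perm GolayPt) = 1 := by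
  apply code_injective
  rw [code_mul, code_nC, code_one]
  exact nC_chk.2.2.2.2

theorem nC_none : (nC : Equiv.Perm GolayPt) none = some 0 := by
  have h := applyM_code_pt (nC : Equiv.Perm GolayPt) none
  have e1' : (2 : ℕ) ^ enc (none : GolayPt) = 8388608 := by decide
  rw [code_nC, e1', nC_chk.2.2.1] at h
  have h2 : (2 : ℕ) ^ 0 = 2 ^ enc ((nC : Equiv.Perm GolayPt) none) := h
  have h3 := Nat.pow_right_injective (le_refl 2) h2
  rw [← pt_enc ((nC : Equiv.Perm GolayPt) none), ← h3]
  decide

theorem nC_zero : (nC : Equiv.Perm GolayPt) (some 0) = none := by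
  have h := congrFun (congrArg DFunLike.coe nC_sq) none
  rw [Equiv.Perm.mul_apply, nC_none] at h
  exact h

end Cfsg.Agent.Lib.Helper33
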