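import Cfsg.Agent.Lib.Helper33.OutFix

set_option autoImplicit false
set_option maxRecDepth 100000

/-!
The generic part of the determination of the automorphisms of the stabilisers of two short lattice vectors.
-/

namespace Cfsg.Agent.Lib.Helper33

open Cfsg MulAction Cfsg.Agent.Lib.Helper9 Cfsg.Agent.Lib.Helper11 Matrix

/-- the data for the stabiliser of the vector `x` -/
structure OutData (x z2 : ↥leechLattice) (i : ↥Co0) (e : ℕ) : Prop where
  hx : ∀ σ, iota σ • x = x
  hV : ∀ g : ↥Co0, g • x = x → g • x0 = x0 → g • Spor.leechV = Spor.leechV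
  hS : ∀ z : ↥leechLattice, iota vB • z = z → sqNorm z.1 = 64 → ldot x z = ldot x x0 → z = x0 ∨ z = z2
  hne : z2 ≠ x0
  ix : i • x = x
  i0 : i • x0 = z2
  iv : i * iota vB = iota (vB ^ e) * i
  iw : i * iota wD = iota wD * i
  gen : Subgroup.closure (Set.range iota ∪ {i}) = stabilizer ↥Co0 x
  c23 : ¬ 23 ^ 2 ∣ Nat.card ↥(stabilizer ↥Co0 x)
  c11 : ¬ 11 ^ 2 ∣ Nat.card ↥(stabilizer ↥Co0 x)

/-- the set of the two vectors -/
def InS (x z : ↥leechLattice) : Prop := iota vB • z = z ∧ sqNorm z.1 = 64 ∧ ldot x z = ldot x x0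

theorem InS_x0 (x : ↥leechLattice) : InS x x0 := ⟨iota_x0 vB, sqNorm_x0, rfl⟩

theorem iota_vB_pow : iota vB ^ 11 = 1 := by rw [← map_pow, vB_pow, map_one]

theorem iota_vB_ne : iota vB ≠ 1 := fun h => vB_ne (iota_injective (by rw [h, map_one]))

theorem InS_smul {x z : ↥leechLattice} {y : ↥Co0} (hyx : y • x = x) {k : ℕ}
    (hk : y * iota vB * y⁻¹ = iota vB ^ k) (hz : InS x z) : InS x (y • z) := by
  obtain ⟨h1, h2, h3⟩ := hz
  have hk1 : iota vB ^ k ≠ 1 := by
    rw [← hk]
    intro h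
    apply iota_vB_ne
    have : iota vB = y⁻¹ * (y * iota vB * y⁻¹) * y := by group
    rw [this, h]; group
  obtain ⟨s, hs⟩ := pow_gen_of_prime (by norm_num : Nat.Prime 11) iota_vB_pow hk1
  refine ⟨?_, ?_, ?_⟩
  · have h4 : iota vB ^ k ∈ stabilizer ↥Co0 (y • z) := by
      rw [mem_stabilizer_iff, ← hk, mul_smul, mul_smul, inv_smul_smul, h1]
    have h5 := Subgroup.pow_mem _ h4 s
    rw [hs] at h5
    exact h5
  · rw [← ldot_self, ldot_smul, ldot_self]
    exact h2
  · rw [← h3]
    conv_lhs => rw [← hyx]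
    exact ldot_smul y x z

theorem fix_x0_of_odd {x z2 : ↥leechLattice} {i : ↥Co0} {e : ℕ} (D : OutData x z2 i e) {y : ↥Co0}
    (hyx : y • x = x) {k : ℕ} (hk : y * iota vB * y⁻¹ = iota vB ^ k) (h5 : y ^ 5 = 1) : y • x0 = x0 := by
  have s1 := InS_smul hyx hk (InS_x0 x)
  rcases D.hS _ s1.1 s1.2.1 s1.2.2 with h | h
  · exact h
  · have s2 := InS_smul hyx hk s1
    rcases D.hS _ s2.1 s2.2.1 s2.2.2 with h' | h'
    · have e5 : y ^ 5 • x0 = y • x0 := by
        simp only [pow_succ, pow_zero, one_mul, mul_smul]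
        rw [h', h']
      rw [h5, one_smul] at e5
      exact e5.symm
    · rw [← h] at h'
      exact smul_left_cancel y h'

theorem pow_eq_one_of {G : Type*} [Group G] {a : G} (h2 : a ^ 2 = 1) (h11 : a ^ 11 = 1) : a = 1 := by
  calc a = a ^ 11 * ((a ^ 2) ^ 5)⁻¹ := by group
    _ = 1 := by rw [h2, h11]; simp

/-- an element of the monomial subgroup commuting with `vB` and `wD` is trivial -/
theorem eq_one_of_comm {σ : ↥M23g} (h1 : σ * vB = vB * σ) (h2 : σ * wD = wD * σ) : σ = 1 := by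
  obtain ⟨k, hk⟩ := cent_vB (M23g_le σ.2) (congrArg Subtype.val h1)
  have hk' : σ = vB ^ k := Subtype.ext hk
  have h3 : wD * σ * wD⁻¹ = σ ^ 3 := by
    rw [hk', ← conj_pow, wD_vB, ← pow_mul, ← pow_mul, mul_comm]
  have h4 : wD * σ * wD⁻¹ = σ := by rw [← h2]; group
  have h5 : σ ^ 2 = 1 := by
    have : σ ^ 3 = σ := by rw [← h3, h4]
    calc σ ^ 2 = σ ^ 3 * σ⁻¹ := by group
      _ = 1 := by rw [this]; group
  have h6 : σ ^ 11 = 1 := by rw [hk', ← pow_mul, mul_comm, pow_mul, vB_pow, one_pow]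
  exact pow_eq_one_of h5 h6

theorem inner_of_outData [Finite ↥Co0] {x z2 : ↥leechLattice} {i : ↥Co0} {e : ℕ} (D : OutData x z2 i e) :
    ∀ α : MulAut ↥(stabilizer ↥Co0 x), ∃ g, ∀ y, α y = g * y * g⁻¹ := by
  let f : ↥M23g →* ↥(stabilizer ↥Co0 x) :=
    iota.codRestrict (stabilizer ↥Co0 x) (fun σ => mem_stabilizer_iff.2 (D.hx σ))
  have hfv : ∀ σ, (f σ : ↥Co0) = iota σ := fun _ => rfl
  have hf : Function.Injective f := fun a b h => iota_injective (congrArg Subtype.val h)
  have hrange : ∀ y : ↥(stabilizer ↥Co0 x), (y : ↥Co0) • x0 = x0 → y ∈ f.range := by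
    intro y h0
    obtain ⟨σ, hσ⟩ := mem_range_iota h0 (D.hV _ y.2 h0)
    exact ⟨σ, Subtype.ext hσ⟩
  let iG : ↥(stabilizer ↥Co0 x) := ⟨i, D.ix⟩
  apply inner_of_data f hf 23 11 5 (by norm_num) (by norm_num) uT vB wD gen23 uT_pow uT_ne D.c23
    vB_pow vB_ne D.c11 ⟨2, vB_uT⟩ ⟨3, wD_vB⟩ wD_pow ?_ inner23 iG ?_ ?_
  · rintro y ⟨k, hk⟩ h5
    apply hrange
    exact fix_x0_of_odd D y.2 (k := k) (congrArg Subtype.val hk) (congrArg Subtype.val h5)
  · intro β hβ
    have r1 : β iG * f vB = f (vB ^ e) * β iG := by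
      have : iG * f vB = f (vB ^ e) * iG := Subtype.ext D.iv
      have h := congrArg β this
      rwa [map_mul, map_mul, hβ, hβ] at h
    have r2 : β iG * f wD = f wD * β iG := by
      have : iG * f wD = f wD * iG := Subtype.ext D.iw
      have h := congrArg β this
      rwa [map_mul, map_mul, hβ] at h
    have r1' : (β iG : ↥Co0) * iota vB = iota (vB ^ e) * (β iG : ↥Co0) := congrArg Subtype.val r1
    have r2' : (β iG : ↥Co0) * iota wD = iota wD * (β iG : ↥Co0) := congrArg Subtype.val r2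
    have hn : (β iG : ↥Co0) * iota vB * (β iG : ↥Co0)⁻¹ = iota vB ^ e := by
      rw [r1', map_pow]; group
    have s1 := InS_smul (β iG).2 hn (InS_x0 x)
    rcases D.hS _ s1.1 s1.2.1 s1.2.2 with h | h
    · exfalso
      obtain ⟨σ, hσ⟩ := hrange _ h
      have h1 : β (β iG) = β iG := by rw [← hσ, hβ]
      have h2 : β iG = iG := β.injective h1
      rw [h2] at h
      exact D.hne (by rw [← D.i0]; exact h)
    · have hm0 : (i⁻¹ * (β iG : ↥Co0)) • x0 = x0 := by
        rw [mul_smul, h, inv_smul_eq_iff, D.i0]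
      have hmx : (i⁻¹ * (β iG : ↥Co0)) • x = x := by
        rw [mul_smul, (β iG).2, inv_smul_eq_iff, D.ix]
      obtain ⟨σ, hσ⟩ := mem_range_iota hm0 (D.hV _ hmx hm0)
      have c1 : σ * vB = vB * σ := by
        apply iota_injective
        rw [map_mul, map_mul, hσ]
        have e1 : i⁻¹ * iota (vB ^ e) = iota vB * i⁻¹ := by
          have : iota (vB ^ e) = i * iota vB * i⁻¹ := by rw [D.iv]; group
          rw [this]; group
        calc i⁻¹ * (β iG : ↥Co0) * iota vB = i⁻¹ * ((β iG : ↥Co0) * iota vB) := by group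
          _ = i⁻¹ * iota (vB ^ e) * (β iG : ↥Co0) := by rw [r1']; group
          _ = iota vB * (i⁻¹ * (β iG : ↥Co0)) := by rw [e1]; group
      have c2 : σ * wD = wD * σ := by
        apply iota_injective
        rw [map_mul, map_mul, hσ]
        have e1 : i⁻¹ * iota wD = iota wD * i⁻¹ := by
          have : iota wD = i * iota wD * i⁻¹ := by rw [D.iw]; group
          conv_lhs => rw [this]
          group
        calc i⁻¹ * (β iG : ↥Co0) * iota wD = i⁻¹ * ((β iG : ↥Co0) * iota wD) := by group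
          _ = i⁻¹ * iota wD * (β iG : ↥Co0) := by rw [r2']; group
          _ = iota wD * (i⁻¹ * (β iG : ↥Co0)) := by rw [e1]; group
      have h1 := eq_one_of_comm c1 c2
      rw [h1, map_one] at hσ
      apply Subtype.ext
      show (β iG : ↥Co0) = i
      have : (β iG : ↥Co0) = i * (i⁻¹ * (β iG : ↥Co0)) := by group
      rw [this, ← hσ, mul_one]
  · apply Subgroup.map_injective (stabilizer ↥Co0 x).subtype_injective
    rw [MonoidHom.map_closure, ← MonoidHom.range_eq_map, Subgroup.range_subtype, Set.image_union,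
      Set.image_singleton, ← Set.range_comp]
    exact D.gen

/-! ### generation -/

theorem x0_eq_add : x0 = Spor.leechU + Spor.leechU' := by
  apply Subtype.ext
  rw [x0_val]
  funext p
  show _ = Spor.vecU p + Spor.vecU' p
  revert p
  decide +kernel

theorem stab_tMc_le_range : stabilizer ↥Co0 tMc ≤ iota.range := by
  intro g hg
  obtain ⟨h1, h2, h3⟩ := (mem_stab_tMc g).1 hg
  exact mem_range_iota (by rw [x0_eq_add, co0_smul_add, h2, h3]) h1

theorem gen_of_orbits (hCo0 : Nat.card ↥Co0 = 8315553613086720000) (x a1 a2 : ↥leechLattice) (i : ↥Co0)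
    (n1 n2 : ℕ) (hx : ∀ σ, iota σ • x = x) (hi : i • x = x)
    (ha : (a1 = Spor.leechU ∧ a2 = Spor.leechU') ∨ (a1 = Spor.leechU' ∧ a2 = Spor.leechU))
    (S1 : ∃ S : Finset ↥leechLattice, S.card = n1 ∧
      ∀ s ∈ S, ∃ g ∈ Subgroup.closure (Set.range iota ∪ {i}), g • s = a1)
    (S2 : ∃ S : Finset ↥leechLattice, S.card = n2 ∧
      ∀ s ∈ S, ∃ g ∈ Subgroup.closure (Set.range iota ∪ {i}) ⊓ stabilizer ↥Co0 a1, g • s = a2)
    (hN : Nat.card ↥(stabilizer ↥Co0 x) = n1 * (n2 * 443520)) :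
    Subgroup.closure (Set.range iota ∪ {i}) = stabilizer ↥Co0 x := by
  classical
  have hfin := finite_co0 hCo0
  set H := Subgroup.closure (Set.range iota ∪ {i}) with hH
  have hle : H ≤ stabilizer ↥Co0 x := by
    rw [hH, Subgroup.closure_le]
    rintro g (⟨σ, rfl⟩ | hg)
    · exact hx σ
    · rw [Set.mem_singleton_iff] at hg
      rw [hg]; exact hi
  obtain ⟨T1, c1, h1⟩ := S1
  obtain ⟨T2, c2, h2⟩ := S2
  have b1 := card_ge_of_orbit H a1 T1 h1
  have b2 := card_ge_of_orbit (H ⊓ stabilizer ↥Co0 a1) a2 T2 h2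
  have b3 : stabilizer ↥Co0 tMc ≤ (H ⊓ stabilizer ↥Co0 a1) ⊓ stabilizer ↥Co0 a2 := by
    intro g hg
    have hr : g ∈ H := by
      obtain ⟨σ, hσ⟩ := stab_tMc_le_range hg
      exact Subgroup.subset_closure (Or.inl ⟨σ, hσ⟩)
    obtain ⟨_, k2, k3⟩ := (mem_stab_tMc g).1 hg
    rcases ha with ⟨rfl, rfl⟩ | ⟨rfl, rfl⟩
    · exact ⟨⟨hr, k2⟩, k3⟩
    · exact ⟨⟨hr, k3⟩, k2⟩
  have b4 : 443520 ≤ Nat.card ↥((H ⊓ stabilizer ↥Co0 a1) ⊓ stabilizer ↥Co0 a2) := by
    rw [← card_m22b hCo0, ← card_stab_conj tMc_base]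
    exact Subgroup.card_le_of_le b3
  apply Subgroup.eq_of_le_of_card_ge hle
  rw [hN]
  rw [c1] at b1
  rw [c2] at b2
  calc n1 * (n2 * 443520) ≤ n1 * (n2 * Nat.card ↥((H ⊓ stabilizer ↥Co0 a1) ⊓ stabilizer ↥Co0 a2)) :=
        Nat.mul_le_mul_left _ (Nat.mul_le_mul_left _ b4)
    _ ≤ n1 * Nat.card ↥(H ⊓ stabilizer ↥Co0 a1) := Nat.mul_le_mul_left _ b2
    _ ≤ Nat.card ↥H := b1

/-! ### relations between a matrix and coordinate permutations -/

/-- the image of the point number `i` under the permutation with code `c` -/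
def tabOf (c i : ℕ) : ℕ := Nat.log2 (Helper94.applyM c (Nat.pow 2 i))

theorem idx_apply (g : Equiv.Perm GolayPt) (p : GolayPt) : idx (g p) = tabOf (Helper94.code g) (idx p) := by
  have h := Helper94.applyM_code_pt g p
  have e : ∀ q : GolayPt, Helper94.enc q = idx q := fun q => by cases q <;> rfl
  rw [e, e] at h
  unfold tabOf
  show _ = Nat.log2 (Helper94.applyM (Helper94.code g) (2 ^ idx p))
  rw [h, Nat.log2_two_pow]

/-- `M (τ p) (σ q) = M p q` -/
noncomputable def relOK (M c c' : ℕ) : Bool :=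
  allBelow (fun a => allBelow (fun b => Nat.beq (ment M (tabOf c' a) (tabOf c b)) (ment M a b)) 24) 24

theorem rel_of_table {M : ℕ} (hM : IsCoMat (matOf M)) (σ τ : ↥M23g)
    (h : relOK M (Helper94.code σ.1) (Helper94.code τ.1) = true) : coEl M * iota σ = iota τ * coEl M := by
  have key : ∀ p q, matOf M (τ.1 p) (σ.1 q) = matOf M p q := by
    intro p q
    rw [relOK, allBelow_iff] at h
    have := Nat.eq_of_beq_eq_true ((allBelow_iff _ _).1 (h (idx p) (idx_lt p)) (idx q) (idx_lt q))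
    show (ment M (idx (τ.1 p)) (idx (σ.1 q)) : ℤ) - 8 = (ment M (idx p) (idx q) : ℤ) - 8
    rw [idx_apply, idx_apply, this]
  apply Helper9.co0_ext
  intro v
  apply Subtype.ext
  apply smul8_inj
  funext p
  rw [mul_smul, mul_smul, ← coEl_spec hM]
  show _ = (8 : ℤ) • ((iota τ • (coEl M • v) : ↥leechLattice) : GolayPt → ℤ) p
  rw [iota_apply]
  have h2 := congrFun (coEl_spec hM v) (τ.1.symm p)
  have h3 : (8 : ℤ) • ((coEl M • v : ↥leechLattice) : GolayPt → ℤ) (τ.1.symm p) =
      (matOf M *ᵥ (v : GolayPt → ℤ)) (τ.1.symm p) := h2.symm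
  rw [h3]
  show ∑ q, matOf M p q * ((iota σ • v : ↥leechLattice) : GolayPt → ℤ) q =
    ∑ q, matOf M (τ.1.symm p) q * (v : GolayPt → ℤ) q
  rw [← Equiv.sum_comp σ.1]
  apply Finset.sum_congr rfl
  intro q _
  rw [iota_apply, Equiv.symm_apply_apply]
  have := key (τ.1.symm p) q
  rw [Equiv.apply_symm_apply] at this
  rw [this]

/-! ### tools for the certificates -/

theorem move_of_mvOK {G np k a b : ℕ} (hG : gensOK G np = true) (hk : k < 2 * np) (ha : cstOK a = true)
    (hb : cstOK b = true) (h : mvOK (matAt G k) a b = true) : coEl (matAt G k) • lv a = lv b :=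
  (coEl_edge (gensOK_spec hG k hk).1 (gensOK_spec hG k hk).2 (cst_small ha) (cst_small hb) h (cst_mem hb)).2

def pX0 : ℕ := 0x1000080008000800080008000800080008000800080008000800080008000800080008000800080008000800080008
def pU : ℕ := 0xc0008000800080008000800080008000800080008000800080008000800080008000800080008000800080008000c
def pU1 : ℕ := 0xc00080008000800080008000800080008000800080008000800080008000800080008000800080008000800080004
def pV : ℕ := 0x300070007000700070007000700070007000700070007000700070007000700070007000700070007000700070007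
def pX2 : ℕ := 0x500090009000900090009000900090009000900090009000900090009000900090009000900090009000900090009

theorem pX0_ok : cstOK pX0 = true := by decide +kernel
theorem pU_ok : cstOK pU = true := by decide +kernel
theorem pU1_ok : cstOK pU1 = true := by decide +kernel
theorem pV_ok : cstOK pV = true := by decide +kernel
theorem pX2_ok : cstOK pX2 = true := by decide +kernel

theorem lv_pX0 : lv pX0 = x0 := by
  symm
  apply lv_of_coe pX0_ok
  rw [x0_val]
  funext p
  revert p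
  decide +kernel

theorem lv_pU : lv pU = Spor.leechU := by
  symm
  apply lv_of_coe pU_ok
  funext p
  show Spor.vecU p = _
  revert p
  decide +kernel

theorem lv_pU1 : lv pU1 = Spor.leechU' := by
  symm
  apply lv_of_coe pU1_ok
  funext p
  show Spor.vecU' p = _
  revert p
  decide +kernel

theorem lv_pV : lv pV = Spor.leechV := by
  symm
  apply lv_of_coe pV_ok
  funext p
  show Spor.vecV p = _
  revert p
  decide +kernel

theorem lv_pX2 : lv pX2 = lX2 := by
  symm
  apply lv_of_coe pX2_ok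
  funext p
  show -Spor.vecV p - (x0 : GolayPt → ℤ) p = _
  rw [x0_val]
  revert p
  decide +kernel

/-- a matrix fixing the two base vectors is a coordinate permutation -/
theorem mono_of_mvOK {G np k : ℕ} (hG : gensOK G np = true) (hk : k < 2 * np)
    (h0 : mvOK (matAt G k) pX0 pX0 = true) (hV : mvOK (matAt G k) pV pV = true) :
    coEl (matAt G k) ∈ iota.range := by
  apply mem_range_iota
  · have := move_of_mvOK hG hk pX0_ok pX0_ok h0
    rwa [lv_pX0] at this
  · have := move_of_mvOK hG hk pV_ok pV_ok hV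
    rwa [lv_pV] at this

theorem ldot_V_x0 : ldot Spor.leechV x0 = -40 := by
  show dotInt Spor.vecV (x0 : GolayPt → ℤ) = -40
  rw [x0_val]
  decide +kernel

theorem ldot_x0_x0 : ldot x0 x0 = 64 := by rw [ldot_self]; exact sqNorm_x0

theorem ldot_X2_x0 : ldot lX2 x0 = -24 := by
  rw [lX2, ldot_sub_left, ldot_neg_left, ldot_V_x0, ldot_x0_x0]
  norm_num

theorem pZ3_ne : lv pZ3 ≠ x0 := by
  intro h
  have := congrFun (congrArg Subtype.val h) none
  rw [lv_coe (cst_mem pZ3_ok), x0_val] at this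
  revert this
  decide +kernel

theorem pZ2_ne : lv pZ2 ≠ x0 := by
  intro h
  have := congrFun (congrArg Subtype.val h) none
  rw [lv_coe (cst_mem pZ2_ok), x0_val] at this
  revert this
  decide +kernel

theorem iota_X2 (σ : ↥M23g) : iota σ • lX2 = lX2 := by
  rw [lX2, co0_smul_sub, co0_smul_neg, iota_V, iota_x0]

theorem V_of_X2 (g : ↥Co0) (h : g • lX2 = lX2) (h0 : g • x0 = x0) : g • Spor.leechV = Spor.leechV := by
  have e : Spor.leechV = -lX2 - x0 := by rw [lX2]; abel
  rw [e, co0_smul_sub, co0_smul_neg, h, h0]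

end Cfsg.Agent.Lib.Helper33
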