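import Cfsg.Agent.Lib.Helper33.OmFix
import Cfsg.Agent.Lib.Helper33.OutRig4
import Cfsg.Agent.Lib.Helper33.OutCo3

set_option autoImplicit false
set_option maxRecDepth 1000000

/-!
The outer automorphism group of the stabiliser of `(-5, -1, ..., -1)` and `(4, 4, 0, ..., 0)` has order two.
-/

namespace Cfsg.Agent.Lib.Helper33

open Cfsg MulAction Cfsg.Agent.Lib.Helper9 Cfsg.Agent.Lib.Helper11 Cfsg.Agent.Lib.Helper88
  Cfsg.Agent.Lib.Helper88.OChains Cfsg.Agent.Lib.Helper94

def pMU : ℕ := 0x900090009000900090009000900090009000900090009000900090009000900090009000900090009000900090005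

theorem pMU_ok : cstOK pMU = true := by decide +kernel

theorem lv_pMU : lv pMU = -Spor.leechV - Spor.leechU := by
  symm
  apply lv_of_coe pMU_ok
  funext p
  show -Spor.vecV p - Spor.vecU p = _
  revert p
  decide +kernel

theorem om_nU : mvOK (matAt oc3G1 6) pU pMU = true := by decide +kernel

theorem nM_U : coEl (matAt oc3G1 6) • Spor.leechU = -Spor.leechV - Spor.leechU := by
  have := move_of_mvOK oc3G1_ok (k := 6) (by norm_num) pU_ok pMU_ok om_nU
  rwa [lv_pU, lv_pMU] at this

theorem U1_mem_pts : Spor.leechU' ∈ Pts Spor.leechU (-16) 0 := ⟨(mem_L2_iff _).2 dU'U', dVU', dUU'⟩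

theorem sS_Z3 : fixedBy chSc pZ3 = false := by decide +kernel

theorem rigMcL : RigData Spor.leechU Spor.leechU' omG omRels 3 4 (coEl (matAt oc3G1 6)) := by
  have hCo0 := Cfsg.Agent.Lib.Helper11.card_Co0
  have e0 : coEl (matAt omG 0) = iota vB :=
    coEl_eq_iota (gensOK_spec omG_ok 0 (by norm_num)).2 vB (by rw [code_vB]; exact om_e0)
  have e2 : coEl (matAt omG 2) = iota wD :=
    coEl_eq_iota (gensOK_spec omG_ok 2 (by norm_num)).2 wD (by rw [code_wD]; exact om_e2)
  have e4 : coEl (matAt omG 4) = iota sS :=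
    coEl_eq_iota (gensOK_spec omG_ok 4 (by norm_num)).2 sS (by rw [code_sS]; exact om_e4)
  have fixVb : ∀ l < 8, coEl (matAt omG l) ∈ GS Spor.leechU := by
    have := fixVb_of omG_ok pU_ok om_fixVb
    rwa [lv_pU] at this
  have hroot : lv (decV (get3 omPMem 20 (fld20 omPRts 0))) = Spor.leechU' := by
    show lv (omPNd (fld20 omPRts 0)) = _
    rw [omP_root]
    exact lv_pU1
  have hN := card_GS_mcl hCo0
  have gfix : ∀ g ∈ GS Spor.leechU, g • Spor.leechV = Spor.leechV := fun g hg => (mem_GS.1 hg).1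
  have gfix2 : ∀ g ∈ GS Spor.leechU, g • (-Spor.leechV - Spor.leechU) = -Spor.leechV - Spor.leechU := by
    intro g hg
    rw [co0_smul_sub, co0_smul_neg, (mem_GS.1 hg).1, (mem_GS.1 hg).2]
  have nv : coEl (matAt oc3G1 6) * iota vB = iota vB * coEl (matAt oc3G1 6) := by
    have := data3.iv
    rwa [pow_one] at this
  refine
    { gok := omG_ok
      e0 := e0
      e2 := e2
      e4 := e4
      fixVb := fixVb
      tw := rel_of_table (gensOK_spec omG_ok 6 (by norm_num)).2 wD wD (by rw [code_wD]; exact om_tw)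
      hbp := Or.inr ⟨rfl, rfl⟩
      fixw := fixw_of Spor.leechU Spor.leechU' (-16) 0 2025 (by norm_num) pts_mcl omPMem omG omPR omPRts omC5
        omP_mem omG_ok fixVb omP_rt omP_nodes hroot U1_mem_pts om_fix (by rw [om_c50]; exact lv_pU1) om_c5ok om_c5st
      gen := gen4 hCo0 Spor.leechU Spor.leechU' omG 2025 omG_ok e0 e2 e4 fixVb (Or.inr ⟨rfl, rfl⟩)
        (fun H hH => by
          have := orbit_lower omPMem 2025 omG omPR omPRts 4 H omP_mem omG_ok hH omP_rt omP_nodes
          rwa [hroot] at this) hN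
      c121 := by rw [hN]; norm_num
      rel := rel_of_all omG_ok om_rel
      tup := tup_of_chk omG_ok omRels omT1 omQ omT2 3 4 (by rw [e2, ← map_pow, wD_pow, map_one])
        (pow5_of_chk omG_ok om_t5) om_s1 om_s2 om_fin
      nN := fun g hg => ⟨conj_mem_GS Spor.leechV (-Spor.leechV - Spor.leechU) data3.ix
          (by rw [co0_smul_sub, co0_smul_neg, data3.ix, nM_U]; abel) gfix gfix2 g hg,
        conj_mem_GS' (by rw [data3.ix]; exact gfix) (by rw [nM_U]; exact gfix2) g hg⟩
      nv := Or.inl (by rw [mul_inv_eq_iff_eq_mul]; exact nv)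
      nw := by rw [mul_inv_eq_iff_eq_mul]; exact data3.iw
      nout := ?_ }
  rintro ⟨h, hh, H⟩
  have hvG : iota vB ∈ GS Spor.leechU := by rw [← e0]; exact fixVb 0 (by norm_num)
  have hwG : iota wD ∈ GS Spor.leechU := by rw [← e2]; exact fixVb 2 (by norm_num)
  have hsG : iota sS ∈ GS Spor.leechU := by rw [← e4]; exact fixVb 4 (by norm_num)
  have h1 : h * iota vB * h⁻¹ = iota vB := by
    rw [← H _ hvG, mul_inv_eq_iff_eq_mul]; exact nv
  have h2 : h * iota wD * h⁻¹ = iota wD := by
    rw [← H _ hwG, mul_inv_eq_iff_eq_mul]; exact data3.iw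
  have h0 := norm_fix_x0 ldot_U_Z3 (mem_GS.1 hh).1 (mem_GS.1 hh).2 (k := 1) (by rw [pow_one]; exact h1)
  obtain ⟨m, rfl⟩ := mem_range_iota h0 (mem_GS.1 hh).1
  have c1 : m * vB = vB * m := by
    apply iota_injective
    rw [map_mul, map_mul]
    exact mul_inv_eq_iff_eq_mul.1 h1
  have c2 : m * wD = wD * m := by
    apply iota_injective
    rw [map_mul, map_mul]
    exact mul_inv_eq_iff_eq_mul.1 h2
  have hm := eq_one_of_comm c1 c2
  have h3 := H _ hsG
  rw [hm, map_one, one_mul, inv_one, mul_one, mul_inv_eq_iff_eq_mul] at h3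
  have h4 := congrArg (fun g : ↥Co0 => g • x0) h3
  simp only [mul_smul, iota_x0, data3.i0] at h4
  have h5 := fixedBy_of (cst_mem pZ3_ok) sS h4.symm
  rw [code_sS, sS_Z3] at h5
  exact absurd h5 (by decide)

theorem card_out_mcl : Nat.card (Cfsg.Out ↥Spor.McL) = 2 :=
  (card_out_congr33 (gsEquiv Spor.leechU)).symm.trans (card_out_of_rig Cfsg.Agent.Lib.Helper11.card_Co0 rigMcL)

end Cfsg.Agent.Lib.Helper33
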