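import Cfsg.Agent.Lib.Helper33.OutTup
import Cfsg.Agent.Lib.Helper33.OutM22
import Cfsg.Agent.Lib.Helper33.OutAbs2

set_option autoImplicit false
set_option maxRecDepth 100000

/-!
Lattice side tools for the stabilisers of two vectors with outer automorphism group of order two.
-/

namespace Cfsg.Agent.Lib.Helper33

open Cfsg MulAction Cfsg.Agent.Lib.Helper9 Cfsg.Agent.Lib.Helper11 Matrix

/-! ### permutation matrices -/

noncomputable def permOK (M c : ℕ) : Bool :=
  allBelow (fun a => allBelow (fun b => Nat.beq (ment M a b) (if a = tabOf c b then 16 else 8)) 24) 24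

theorem coEl_eq_iota {M : ℕ} (hM : IsCoMat (matOf M)) (σ : ↥M23g)
    (h : permOK M (Helper94.code σ.1) = true) : coEl M = iota σ := by
  have key : ∀ p q, matOf M p q = if p = σ.1 q then 8 else 0 := by
    intro p q
    rw [permOK, allBelow_iff] at h
    have := Nat.eq_of_beq_eq_true ((allBelow_iff _ _).1 (h (idx p) (idx_lt p)) (idx q) (idx_lt q))
    show (ment M (idx p) (idx q) : ℤ) - 8 = _
    rw [this, ← idx_apply]
    by_cases hpq : p = σ.1 q
    · rw [if_pos hpq, if_pos (by rw [hpq])]; norm_num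
    · rw [if_neg hpq, if_neg (fun e => hpq (idx_injective e))]; norm_num
  apply Helper9.co0_ext
  intro v
  apply Subtype.ext
  apply smul8_inj
  funext p
  rw [← coEl_spec hM]
  show ∑ q, matOf M p q * (v : GolayPt → ℤ) q = (8 : ℤ) • ((iota σ • v : ↥leechLattice) : GolayPt → ℤ) p
  rw [iota_apply, Finset.sum_eq_single (σ.1.symm p)]
  · rw [key, if_pos (by rw [Equiv.apply_symm_apply])]; rfl
  · intro q _ hq
    rw [key, if_neg (fun e => hq (by rw [e, Equiv.symm_apply_apply])), zero_mul]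
  · intro h; exact absurd (Finset.mem_univ _) h

/-! ### vectors fixed by a coordinate permutation -/

noncomputable def fixedBy (c a : ℕ) : Bool := allBelow (fun i => Nat.beq (dg a (tabOf c i)) (dg a i)) 24

theorem fixedBy_of {a : ℕ} (ha : vec a ∈ leechLattice) (σ : ↥M23g) (h : iota σ • lv a = lv a) :
    fixedBy (Helper94.code σ.1) a = true := by
  rw [fixedBy, allBelow_iff]
  intro i hi
  have := congrFun (congrArg Subtype.val h) (σ.1 (pt i))
  rw [iota_apply, Equiv.symm_apply_apply, lv_coe ha] at this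
  have h2 : (dg a (idx (pt i)) : ℤ) - 8 = (dg a (idx (σ.1 (pt i))) : ℤ) - 8 := this
  rw [idx_apply, idx_pt hi] at h2
  have h3 : dg a (tabOf (Helper94.code σ.1) i) = dg a i := by omega
  rw [h3]
  exact Nat.beq_refl _

noncomputable def scanOK (pb cV cb C5 k : ℕ) : Bool :=
  !(valV k) || force (decV k) (fun a =>
    !(Nat.beq (dotC pV a) cV) || (!(Nat.beq (dotC pb a) cb) ||
      (!(fixedBy Cfsg.Agent.Lib.Helper88.OChains.chDc a) ||
      (Nat.beq a (f384 C5 0) || (Nat.beq a (f384 C5 1) || (Nat.beq a (f384 C5 2) ||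
        (Nat.beq a (f384 C5 3) || Nat.beq a (f384 C5 4))))))))

theorem scan_spec {pb cV cb C5 : ℕ} (hpb : cstOK pb = true)
    (h : allBelow (scanOK pb cV cb C5) 197760 = true) (z : ↥leechLattice) (hz : z ∈ L2)
    (h1 : ldot (lv pV) z = (cV : ℤ) - 10752) (h2 : ldot (lv pb) z = (cb : ℤ) - 10752)
    (h3 : iota wD • z = z) : ∃ j < 5, z = lv (f384 C5 j) := by
  obtain ⟨k, hk, hv, rfl⟩ := enumL2.cover z hz
  have hs := decV_small hk hv
  have hm := decV_mem hk hv
  rw [ldot_lv (cst_small pV_ok) hs (cst_mem pV_ok) hm] at h1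
  rw [ldot_lv (cst_small hpb) hs (cst_mem hpb) hm] at h2
  have e1 : dotC pV (decV k) = cV := by omega
  have e2 : dotC pb (decV k) = cb := by omega
  have e3 := fixedBy_of hm wD h3
  rw [code_wD] at e3
  have := (allBelow_iff _ _).1 h k hk
  simp only [scanOK, force_eq, hv, e1, e2, e3, Nat.beq_refl, Bool.not_true, Bool.false_or, Bool.or_eq_true] at this
  rcases this with h | h | h | h | h
  · exact ⟨0, by norm_num, by rw [← Nat.eq_of_beq_eq_true h]⟩
  · exact ⟨1, by norm_num, by rw [← Nat.eq_of_beq_eq_true h]⟩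
  · exact ⟨2, by norm_num, by rw [← Nat.eq_of_beq_eq_true h]⟩
  · exact ⟨3, by norm_num, by rw [← Nat.eq_of_beq_eq_true h]⟩
  · exact ⟨4, by norm_num, by rw [← Nat.eq_of_beq_eq_true h]⟩

/-! ### the normaliser of the element of order 11 -/

theorem norm_fix_x0 {b : ↥leechLattice} (hb : ldot b (lv pZ3) ≠ ldot b x0) {y : ↥Co0}
    (hV : y • Spor.leechV = Spor.leechV) (hyb : y • b = b) {k : ℕ}
    (hk : y * iota vB * y⁻¹ = iota vB ^ k) : y • x0 = x0 := by
  have s1 := InS_smul hV hk (InS_x0 Spor.leechV)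
  rcases fix3 _ s1.1 s1.2.1 (by rw [s1.2.2, ldot_V_x0]) with h | h
  · exact h
  · exfalso
    apply hb
    rw [← h]
    conv_lhs => rw [← hyb]
    exact ldot_smul y b x0

theorem ldot_U_Z3 : ldot Spor.leechU (lv pZ3) ≠ ldot Spor.leechU x0 := by
  rw [← lv_pU, ← lv_pX0, ldot_cst pU_ok pZ3_ok 10760 (by decide +kernel),
    ldot_cst pU_ok pX0_ok 10784 (by decide +kernel)]
  norm_num

theorem ldot_U1_Z3 : ldot Spor.leechU' (lv pZ3) ≠ ldot Spor.leechU' x0 := by
  rw [← lv_pU1, ← lv_pX0, ldot_cst pU1_ok pZ3_ok 10776 (by decide +kernel),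
    ldot_cst pU1_ok pX0_ok 10784 (by decide +kernel)]
  norm_num

/-! ### the stabiliser of the three vectors -/

theorem mono22 (g : ↥Co0) (hV : g • Spor.leechV = Spor.leechV) (hU : g • Spor.leechU = Spor.leechU)
    (hU' : g • Spor.leechU' = Spor.leechU') :
    ∃ σ : ↥M24, σ.1 none = none ∧ σ.1 (some 0) = some 0 ∧ g = perm24 σ := by
  obtain ⟨σ, hσ, rfl⟩ := mono_of_fix g (by rw [x0_eq_add, co0_smul_add, hU, hU']) hV
  refine ⟨σ, hσ, ?_, rfl⟩
  have := congrFun (congrArg Subtype.val hU) (σ.1 (some 0))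
  rw [perm24_apply, Equiv.symm_apply_apply] at this
  have h2 : Spor.vecU (some 0) = Spor.vecU (σ.1 (some 0)) := this
  unfold Spor.vecU at h2
  rw [if_pos (Or.inr rfl)] at h2
  by_cases hc : σ.1 (some 0) = none ∨ σ.1 (some 0) = some 0
  · rcases hc with hc | hc
    · exfalso
      have := σ.1.injective (hc.trans hσ.symm)
      exact absurd this (by decide)
    · exact hc
  · rw [if_neg hc] at h2
    norm_num at h2

theorem iota_eq_perm24 (σ : ↥M23g) : iota σ = perm24 ⟨σ.1, M23g_le σ.2⟩ := rfl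

theorem stab_tMc_closure : stabilizer ↥Co0 tMc ≤ Subgroup.closure {iota vB, iota wD, iota sS} := by
  intro g hg
  obtain ⟨h1, h2, h3⟩ := (mem_stab_tMc g).1 hg
  obtain ⟨σ, s1, s0, rfl⟩ := mono22 g h1 h2 h3
  set C : Subgroup ↥Co0 := Subgroup.closure {iota vB, iota wD, iota sS} with hC
  have hle : Subgroup.closure
      {(vB : Equiv.Perm GolayPt), (wD : Equiv.Perm GolayPt), (sS : Equiv.Perm GolayPt)} ≤
      (C.comap perm24).map M24.subtype := by
    rw [Subgroup.closure_le]
    rintro x (rfl | rfl | hx)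
    · exact ⟨⟨vB.1, M23g_le vB.2⟩, Subgroup.subset_closure (Or.inl rfl), rfl⟩
    · exact ⟨⟨wD.1, M23g_le wD.2⟩, Subgroup.subset_closure (Or.inr (Or.inl rfl)), rfl⟩
    · rw [Set.mem_singleton_iff] at hx
      subst hx
      exact ⟨⟨sS.1, M23g_le sS.2⟩, Subgroup.subset_closure (Or.inr (Or.inr rfl)), rfl⟩
  obtain ⟨τ, hτ, e⟩ := hle (gen22 (mem_M22g σ.2 s1 s0))
  have : τ = σ := Subtype.ext e
  rw [← this]
  exact hτ

/-- the stabiliser of the pair -/
abbrev GS (b : ↥leechLattice) : Subgroup ↥Co0 := stabilizer ↥Co0 (Spor.leechV, b)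

theorem mem_GS {b : ↥leechLattice} {g : ↥Co0} : g ∈ GS b ↔ g • Spor.leechV = Spor.leechV ∧ g • b = b := by
  rw [mem_stabilizer_iff, Prod.smul_mk, Prod.mk.injEq]

theorem pow_fix {g : ↥Co0} {x : ↥leechLattice} (h : g • x = x) (j : ℕ) : g ^ j • x = x := by
  have : g ∈ stabilizer ↥Co0 x := h
  exact Subgroup.pow_mem _ this j

theorem inv_fix {g : ↥Co0} {x : ↥leechLattice} (h : g • x = x) : g⁻¹ • x = x := by
  rw [inv_smul_eq_iff, h]

/-- the centraliser of the element of order 5 -/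
theorem cent_w_struct (b p0 : ↥leechLattice) (t : ↥Co0)
    (hbp : (b = Spor.leechU' ∧ p0 = Spor.leechU) ∨ (b = Spor.leechU ∧ p0 = Spor.leechU'))
    (tV : t • Spor.leechV = Spor.leechV) (tb : t • b = b) (tw : t * iota wD = iota wD * t)
    (fixw : ∀ z ∈ L2, ldot Spor.leechV z = ldot Spor.leechV p0 → ldot b z = ldot b p0 → iota wD • z = z →
      ∃ j < 5, z = t ^ j • p0)
    (y : ↥Co0) (hV : y • Spor.leechV = Spor.leechV) (hb : y • b = b) (hw : y * iota wD = iota wD * y) :
    ∃ j < 5, ∃ i < 5, y = t ^ j * iota wD ^ i := by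
  have hp0 : p0 ∈ L2 := by
    rcases hbp with ⟨_, rfl⟩ | ⟨_, rfl⟩
    · exact (mem_L2_iff _).2 dUU
    · exact (mem_L2_iff _).2 dU'U'
  have hwp0 : iota wD • p0 = p0 := by
    have h0 : (wD : Equiv.Perm GolayPt).symm (some 0) = some 0 := by
      rw [Equiv.symm_apply_eq]
      have h := Helper94.applyM_code_pt (wD : Equiv.Perm GolayPt) (some 0)
      have e0' : (2 : ℕ) ^ Helper94.enc (some 0 : GolayPt) = 1 := by decide
      have e1 : Helper94.applyM Cfsg.Agent.Lib.Helper88.OChains.chDc 1 = 1 := by decide +kernel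
      rw [code_wD, e0', e1] at h
      have h2 : (2 : ℕ) ^ 0 = 2 ^ Helper94.enc ((wD : Equiv.Perm GolayPt) (some 0)) := h
      have h3 := Nat.pow_right_injective (le_refl 2) h2
      rw [← Helper94.pt_enc ((wD : Equiv.Perm GolayPt) (some 0)), ← h3]
      decide
    have hz : ∀ i, (wD : Equiv.Perm GolayPt).symm i = some 0 ↔ i = some 0 := by
      intro i
      constructor
      · intro h
        have := (wD : Equiv.Perm GolayPt).symm.injective (h.trans h0.symm)
        exact this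
      · rintro rfl; exact h0
    apply Subtype.ext
    funext i
    rw [iota_apply]
    rcases hbp with ⟨_, rfl⟩ | ⟨_, rfl⟩
    · show Spor.vecU _ = Spor.vecU _
      unfold Spor.vecU
      simp only [symm_none, hz]
    · show Spor.vecU' _ = Spor.vecU' _
      unfold Spor.vecU'
      simp only [symm_none, hz]
  obtain ⟨j, hj, e⟩ := fixw (y • p0) (L2_smul y p0 hp0)
    (by conv_lhs => rw [← hV]
        exact ldot_smul y _ _)
    (by conv_lhs => rw [← hb]
        exact ldot_smul y _ _)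
    (by rw [← mul_smul, ← hw, mul_smul, hwp0])
  set y' := (t ^ j)⁻¹ * y with hy'
  have k0 : y' • p0 = p0 := by rw [hy', mul_smul, e, inv_smul_smul]
  have kV : y' • Spor.leechV = Spor.leechV := by rw [hy', mul_smul, hV, inv_fix (pow_fix tV j)]
  have kb : y' • b = b := by rw [hy', mul_smul, hb, inv_fix (pow_fix tb j)]
  have kU : y' • Spor.leechU = Spor.leechU ∧ y' • Spor.leechU' = Spor.leechU' := by
    rcases hbp with ⟨rfl, rfl⟩ | ⟨rfl, rfl⟩
    · exact ⟨k0, kb⟩
    · exact ⟨kb, k0⟩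
  obtain ⟨σ, s1, s0, hσ⟩ := mono22 y' kV kU.1 kU.2
  have hcomm : y' * iota wD = iota wD * y' := by
    have c1 : Commute (t ^ j) (iota wD) := Commute.pow_left tw j
    have c2 : Commute (t ^ j)⁻¹ (iota wD) := c1.inv_left
    have c3 : Commute y (iota wD) := hw
    exact c2.mul_left c3
  have hc2 : σ * ⟨wD.1, M23g_le wD.2⟩ = ⟨wD.1, M23g_le wD.2⟩ * σ := by
    apply perm24_injective
    rw [map_mul, map_mul, ← hσ, ← iota_eq_perm24]
    exact hcomm
  obtain ⟨i, hi, hi'⟩ := cent_wD σ.2 (congrArg Subtype.val hc2) s1 s0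
  refine ⟨j, hj, i, hi, ?_⟩
  have h5 : σ = (⟨wD.1, M23g_le wD.2⟩ : ↥M24) ^ i := Subtype.ext hi'
  have h6 : y' = iota wD ^ i := by rw [hσ, h5, map_pow, ← iota_eq_perm24]
  rw [← h6, hy']
  group

/-- generation -/
theorem gen4 (hCo0 : Nat.card ↥Co0 = 8315553613086720000) (b p0 : ↥leechLattice) (G m : ℕ)
    (gok : gensOK G 4 = true) (e0 : coEl (matAt G 0) = iota vB) (e2 : coEl (matAt G 2) = iota wD)
    (e4 : coEl (matAt G 4) = iota sS) (fixVb : ∀ l < 8, coEl (matAt G l) ∈ GS b)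
    (hbp : (b = Spor.leechU' ∧ p0 = Spor.leechU) ∨ (b = Spor.leechU ∧ p0 = Spor.leechU'))
    (orb : ∀ H : Subgroup ↥Co0, (∀ i < 2 * 4, coEl (matAt G i) ∈ H) →
      ∃ S : Finset ↥leechLattice, S.card = m ∧ ∀ s ∈ S, ∃ g ∈ H, g • s = p0)
    (hN : Nat.card ↥(GS b) = m * 443520) :
    Subgroup.closure {coEl (matAt G 0), coEl (matAt G 2), coEl (matAt G 4), coEl (matAt G 6)} = GS b := by
  classical
  have hfin := finite_co0 hCo0
  set H := Subgroup.closure {coEl (matAt G 0), coEl (matAt G 2), coEl (matAt G 4), coEl (matAt G 6)} with hH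
  have m0 : coEl (matAt G 0) ∈ H := Subgroup.subset_closure (Or.inl rfl)
  have m2 : coEl (matAt G 2) ∈ H := Subgroup.subset_closure (Or.inr (Or.inl rfl))
  have m4 : coEl (matAt G 4) ∈ H := Subgroup.subset_closure (Or.inr (Or.inr (Or.inl rfl)))
  have m6 : coEl (matAt G 6) ∈ H := Subgroup.subset_closure (Or.inr (Or.inr (Or.inr rfl)))
  have hle : H ≤ GS b := by
    rw [hH, Subgroup.closure_le]
    rintro x (rfl | rfl | rfl | hx)
    · exact fixVb 0 (by norm_num)
    · exact fixVb 2 (by norm_num)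
    · exact fixVb 4 (by norm_num)
    · rw [Set.mem_singleton_iff] at hx
      rw [hx]; exact fixVb 6 (by norm_num)
  have hall : ∀ i < 2 * 4, coEl (matAt G i) ∈ H := by
    intro i hi
    have i1 : coEl (matAt G 1) = (coEl (matAt G 0))⁻¹ := coEl_inv (gensOK_pair gok (i := 0) (by norm_num))
    have i3 : coEl (matAt G 3) = (coEl (matAt G 2))⁻¹ := coEl_inv (gensOK_pair gok (i := 1) (by norm_num))
    have i5 : coEl (matAt G 5) = (coEl (matAt G 4))⁻¹ := coEl_inv (gensOK_pair gok (i := 2) (by norm_num))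
    have i7 : coEl (matAt G 7) = (coEl (matAt G 6))⁻¹ := coEl_inv (gensOK_pair gok (i := 3) (by norm_num))
    interval_cases i
    · exact m0
    · rw [i1]; exact H.inv_mem m0
    · exact m2
    · rw [i3]; exact H.inv_mem m2
    · exact m4
    · rw [i5]; exact H.inv_mem m4
    · exact m6
    · rw [i7]; exact H.inv_mem m6
  obtain ⟨S, c1, h1⟩ := orb H hall
  have b1 := card_ge_of_orbit H p0 S h1
  have b3 : stabilizer ↥Co0 tMc ≤ H ⊓ stabilizer ↥Co0 p0 := by
    intro g hg
    refine ⟨?_, ?_⟩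
    · have h2 : Subgroup.closure {iota vB, iota wD, iota sS} ≤ H := by
        rw [Subgroup.closure_le]
        rintro x (rfl | rfl | hx)
        · rw [← e0]; exact m0
        · rw [← e2]; exact m2
        · rw [Set.mem_singleton_iff] at hx
          rw [hx, ← e4]; exact m4
      exact h2 (stab_tMc_closure hg)
    · obtain ⟨_, k2, k3⟩ := (mem_stab_tMc g).1 hg
      rcases hbp with ⟨_, rfl⟩ | ⟨_, rfl⟩
      · exact k2
      · exact k3
  have b4 : 443520 ≤ Nat.card ↥(H ⊓ stabilizer ↥Co0 p0) := by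
    rw [← card_m22b hCo0, ← card_stab_conj tMc_base]
    exact Subgroup.card_le_of_le b3
  apply Subgroup.eq_of_le_of_card_ge hle
  rw [hN]
  rw [c1] at b1
  exact le_trans (Nat.mul_le_mul_left _ b4) b1

end Cfsg.Agent.Lib.Helper33
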