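import Cfsg.Agent.Lib.Helper33.OutRig

set_option autoImplicit false
set_option maxRecDepth 100000

/-!
The main theorem on the stabilisers of two vectors with outer automorphism group of order two.
-/

namespace Cfsg.Agent.Lib.Helper33

open Cfsg MulAction Cfsg.Agent.Lib.Helper9 Cfsg.Agent.Lib.Helper11 Matrix

theorem ev_congr {M : Type*} [Monoid M] {X Y : ℕ → M} {R : List ℕ} (h : ∀ l ∈ R, X l = Y l) : ev X R = ev Y R := by
  induction R with
  | nil => rfl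
  | cons l r ih =>
    rw [ev, ev, h l List.mem_cons_self, ih (fun l' hl' => h l' (List.mem_cons_of_mem _ hl'))]

structure RigData (b p0 : ↥leechLattice) (G : ℕ) (rels : List (List ℕ)) (a1 a2 : ℕ) (n : ↥Co0) : Prop where
  gok : gensOK G 4 = true
  e0 : coEl (matAt G 0) = iota vB
  e2 : coEl (matAt G 2) = iota wD
  e4 : coEl (matAt G 4) = iota sS
  fixVb : ∀ l < 8, coEl (matAt G l) ∈ GS b
  tw : coEl (matAt G 6) * iota wD = iota wD * coEl (matAt G 6)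
  hbp : (b = Spor.leechU' ∧ p0 = Spor.leechU) ∨ (b = Spor.leechU ∧ p0 = Spor.leechU')
  fixw : ∀ z ∈ L2, ldot Spor.leechV z = ldot Spor.leechV p0 → ldot b z = ldot b p0 → iota wD • z = z →
      ∃ j < 5, z = coEl (matAt G 6) ^ j • p0
  gen : Subgroup.closure {coEl (matAt G 0), coEl (matAt G 2), coEl (matAt G 4), coEl (matAt G 6)} = GS b
  c121 : ¬ 11 ^ 2 ∣ Nat.card ↥(GS b)
  rel : ∀ r, ev (fun l => coEl (matAt G l)) (rels.getD r []) = 1 ∧ ∀ l ∈ rels.getD r [], l < 8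
  tup : ∀ Y : ℕ → ↥Co0, (∀ r, ev Y (rels.getD r []) = 1) → ∀ eps i j i2 j2 : ℕ,
    eps < 2 → i < 5 → j < 5 → i2 < 5 → j2 < 5 → Tup (fun l => coEl (matAt G l)) Y eps i j i2 j2 →
    (eps * 25 + i * 5 + j = 0 ∧ i2 * 5 + j2 = 1) ∨ (eps * 25 + i * 5 + j = a1 ∧ i2 * 5 + j2 = a2)
  nN : ∀ g ∈ GS b, n * g * n⁻¹ ∈ GS b ∧ n⁻¹ * g * n ∈ GS b
  nv : n * iota vB * n⁻¹ = iota vB ∨ n * iota vB * n⁻¹ = iota vB ^ 10
  nw : n * iota wD * n⁻¹ = iota wD
  nout : ¬ ∃ h ∈ GS b, ∀ g ∈ GS b, n * g * n⁻¹ = h * g * h⁻¹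

theorem card_out_of_rig (hCo0 : Nat.card ↥Co0 = 8315553613086720000) {b p0 : ↥leechLattice} {G : ℕ}
    {rels : List (List ℕ)} {a1 a2 : ℕ} {n : ↥Co0} (D : RigData b p0 G rels a1 a2 n) :
    Nat.card (Cfsg.Out ↥(GS b)) = 2 := by
  classical
  have hfin := finite_co0 hCo0
  set X : ℕ → ↥Co0 := fun l => coEl (matAt G l) with hX
  let XG : ℕ → ↥(GS b) := fun l => if h : X l ∈ GS b then ⟨X l, h⟩ else 1
  have coeXG : ∀ l < 8, ((XG l : ↥(GS b)) : ↥Co0) = X l := by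
    intro l hl
    show ((if h : X l ∈ GS b then (⟨X l, h⟩ : ↥(GS b)) else 1 : ↥(GS b)) : ↥Co0) = X l
    rw [dif_pos (D.fixVb l hl)]
  have c0 : ((XG 0 : ↥(GS b)) : ↥Co0) = iota vB := by rw [coeXG 0 (by norm_num)]; exact D.e0
  have c2 : ((XG 2 : ↥(GS b)) : ↥Co0) = iota wD := by rw [coeXG 2 (by norm_num)]; exact D.e2
  have c4 : ((XG 4 : ↥(GS b)) : ↥Co0) = iota sS := by rw [coeXG 4 (by norm_num)]; exact D.e4
  have c6 : ((XG 6 : ↥(GS b)) : ↥Co0) = X 6 := coeXG 6 (by norm_num)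
  have x1 : X 1 = (X 0)⁻¹ := coEl_inv (gensOK_pair D.gok (i := 0) (by norm_num))
  have hb3 : ldot b (lv pZ3) ≠ ldot b x0 := by
    rcases D.hbp with ⟨rfl, _⟩ | ⟨rfl, _⟩
    · exact ldot_U1_Z3
    · exact ldot_U_Z3
  -- basic relations
  have hv11 : XG 0 ^ 11 = 1 := Subtype.ext (by rw [Subgroup.coe_pow, c0, Subgroup.coe_one]; exact iota_vB_pow)
  have hv1 : XG 0 ≠ 1 := fun h => iota_vB_ne (by rw [← c0, h]; rfl)
  have hw5 : XG 2 ^ 5 = 1 :=
    Subtype.ext (by rw [Subgroup.coe_pow, c2, Subgroup.coe_one, ← map_pow, wD_pow, map_one])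
  have hw1 : XG 2 ≠ 1 := fun h => wD_ne (iota_injective (by rw [← c2, h, map_one]; rfl))
  have hwv : XG 2 * XG 0 * (XG 2)⁻¹ = XG 0 ^ 3 := Subtype.ext (by
    rw [Subgroup.coe_mul, Subgroup.coe_mul, Subgroup.coe_inv, Subgroup.coe_pow, c0, c2, ← map_inv, ← map_mul,
      ← map_mul, wD_vB, map_pow])
  have hsw : XG 4 * XG 2 * (XG 4)⁻¹ = XG 2 ^ 2 := Subtype.ext (by
    rw [Subgroup.coe_mul, Subgroup.coe_mul, Subgroup.coe_inv, Subgroup.coe_pow, c4, c2, ← map_inv, ← map_mul,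
      ← map_mul, sS_wD, map_pow])
  have htw : XG 6 * XG 2 = XG 2 * XG 6 := Subtype.ext (by
    rw [Subgroup.coe_mul, Subgroup.coe_mul, c6, c2]; exact D.tw)
  -- generation
  have hgen : Subgroup.closure ({XG 0, XG 2, XG 4, XG 6} : Set ↥(GS b)) = ⊤ := by
    apply Subgroup.map_injective (GS b).subtype_injective
    rw [MonoidHom.map_closure, ← MonoidHom.range_eq_map, Subgroup.range_subtype]
    refine Eq.trans ?_ D.gen
    congr 1
    simp only [Set.image_insert_eq, Set.image_singleton, Subgroup.subtype_apply]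
    rw [coeXG 0 (by norm_num), coeXG 2 (by norm_num), coeXG 4 (by norm_num), coeXG 6 (by norm_num)]
  have huniq : ∀ β β' : MulAut ↥(GS b), β (XG 0) = β' (XG 0) → β (XG 2) = β' (XG 2) → β (XG 4) = β' (XG 4) →
      β (XG 6) = β' (XG 6) → β = β' := by
    intro β β' h0 h2 h4 h6
    ext1 x
    have hx : x ∈ Subgroup.closure ({XG 0, XG 2, XG 4, XG 6} : Set ↥(GS b)) := by rw [hgen]; trivial
    induction hx using Subgroup.closure_induction with
    | mem x hx =>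
      rcases hx with rfl | rfl | rfl | hx
      · exact h0
      · exact h2
      · exact h4
      · rw [Set.mem_singleton_iff] at hx
        rw [hx]; exact h6
    | one => rw [map_one, map_one]
    | mul x y _ _ hx hy => rw [map_mul, map_mul, hx, hy]
    | inv x _ hx => rw [map_inv, map_inv, hx]
  -- the subgroup K
  have hleK : stabilizer ↥Co0 tMc ≤ GS b := by
    intro g hg
    obtain ⟨k1, k2, k3⟩ := (mem_stab_tMc g).1 hg
    rcases D.hbp with ⟨rfl, _⟩ | ⟨rfl, _⟩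
    · exact mem_GS.2 ⟨k1, k3⟩
    · exact mem_GS.2 ⟨k1, k2⟩
  set K : Subgroup ↥(GS b) := (stabilizer ↥Co0 tMc).subgroupOf (GS b) with hKdef
  have hKcard : Nat.card K = 443520 := by
    rw [Nat.card_congr (Subgroup.subgroupOfEquivOfLe hleK).toEquiv, card_stab_conj tMc_base, card_m22b hCo0]
  have hN0 : ∀ y : ↥(GS b), (∃ k : ℕ, y * XG 0 * y⁻¹ = XG 0 ^ k) → (y : ↥Co0) • x0 = x0 := by
    rintro y ⟨k, hk⟩
    have hk' : (y : ↥Co0) * iota vB * (y : ↥Co0)⁻¹ = iota vB ^ k := by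
      have := congrArg Subtype.val hk
      rw [Subgroup.coe_mul, Subgroup.coe_mul, Subgroup.coe_inv, Subgroup.coe_pow, c0] at this
      exact this
    exact norm_fix_x0 hb3 (mem_GS.1 y.2).1 (mem_GS.1 y.2).2 hk'
  have aux : ∀ yy : ↥Co0, yy • Spor.leechV = Spor.leechV → yy • b = b → yy • x0 = x0 →
      yy ∈ stabilizer ↥Co0 tMc := by
    intro yy kV kb h0
    rw [mem_stab_tMc]
    rcases D.hbp with ⟨hb, _⟩ | ⟨hb, _⟩
    · rw [hb] at kb
      refine ⟨kV, ?_, kb⟩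
      have e : Spor.leechU = x0 - Spor.leechU' := by rw [x0_eq_add]; abel
      rw [e, co0_smul_sub, h0, kb]
    · rw [hb] at kb
      refine ⟨kV, kb, ?_⟩
      have e : Spor.leechU' = x0 - Spor.leechU := by rw [x0_eq_add]; abel
      rw [e, co0_smul_sub, h0, kb]
  have hN : ∀ y : ↥(GS b), (∃ k : ℕ, y * XG 0 * y⁻¹ = XG 0 ^ k) → y ∈ K := by
    intro y hy
    rw [hKdef, Subgroup.mem_subgroupOf]
    exact aux _ (mem_GS.1 y.2).1 (mem_GS.1 y.2).2 (hN0 y hy)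
  -- the outer automorphism
  let γ : MulAut ↥(GS b) :=
    { toFun := fun g => ⟨n * g.1 * n⁻¹, (D.nN g.1 g.2).1⟩
      invFun := fun g => ⟨n⁻¹ * g.1 * n, (D.nN g.1 g.2).2⟩
      left_inv := by
        intro g
        apply Subtype.ext
        show n⁻¹ * (n * g.1 * n⁻¹) * n = g.1
        group
      right_inv := by
        intro g
        apply Subtype.ext
        show n * (n⁻¹ * g.1 * n) * n⁻¹ = g.1
        group
      map_mul' := by
        intro x y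
        apply Subtype.ext
        show n * (x.1 * y.1) * n⁻¹ = (n * x.1 * n⁻¹) * (n * y.1 * n⁻¹)
        group }
  have hγa : ∀ g : ↥(GS b), ((γ g : ↥(GS b)) : ↥Co0) = n * g.1 * n⁻¹ := fun _ => rfl
  have hγ : γ ∉ Cfsg.Inn ↥(GS b) := by
    rintro ⟨h, hh⟩
    apply D.nout
    refine ⟨h.1, h.2, fun g hg => ?_⟩
    have := congrArg (fun φ : MulAut ↥(GS b) => ((φ ⟨g, hg⟩ : ↥(GS b)) : ↥Co0)) hh
    exact this.symm
  -- the parameters of a normalised automorphism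
  have hrelG : ∀ r, ev XG (rels.getD r []) = 1 := by
    intro r
    apply Subtype.ext
    have := ev_map (GS b).subtype XG (rels.getD r [])
    rw [Subgroup.subtype_apply] at this
    rw [this, Subgroup.coe_one, ← (D.rel r).1]
    apply ev_congr
    intro l hl
    exact coeXG l ((D.rel r).2 l hl)
  have key : ∀ β : MulAut ↥(GS b), (β (XG 0) = XG 0 ∨ β (XG 0) = XG 0 ^ 10) → β (XG 2) = XG 2 →
      ∃ eps i j i2 j2 : ℕ, eps < 2 ∧ i < 5 ∧ j < 5 ∧ i2 < 5 ∧ j2 < 5 ∧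
        Tup X (fun l => ((β (XG l) : ↥(GS b)) : ↥Co0)) eps i j i2 j2 ∧
        ((eps * 25 + i * 5 + j = 0 ∧ i2 * 5 + j2 = 1) ∨ (eps * 25 + i * 5 + j = a1 ∧ i2 * 5 + j2 = a2)) := by
    intro β h0 h2
    -- the third generator
    have r1 : β (XG 4) * XG 2 * (β (XG 4))⁻¹ = XG 2 ^ 2 := by
      have := congrArg β hsw
      rwa [map_mul, map_mul, map_inv, map_pow, h2] at this
    obtain ⟨cc, hcc⟩ : ∃ cc : ↥(GS b), β (XG 4) = XG 4 * cc := ⟨(XG 4)⁻¹ * β (XG 4), by group⟩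
    have r2 : cc * XG 2 = XG 2 * cc := by
      rw [hcc] at r1
      have e3 : cc * XG 2 * cc⁻¹ = XG 2 := by
        have h1 : XG 4 * (cc * XG 2 * cc⁻¹) * (XG 4)⁻¹ = XG 4 * XG 2 * (XG 4)⁻¹ := by
          rw [hsw, ← r1]; group
        exact mul_left_cancel (mul_right_cancel h1)
      rw [← mul_inv_eq_iff_eq_mul]; exact e3
    have tmem := mem_GS.1 (D.fixVb 6 (by norm_num))
    obtain ⟨j, hj, i, hi, e4⟩ := cent_w_struct b p0 (X 6) D.hbp tmem.1 tmem.2 D.tw D.fixw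
      (cc : ↥Co0) (mem_GS.1 cc.2).1 (mem_GS.1 cc.2).2 (by
        have := congrArg Subtype.val r2
        rw [Subgroup.coe_mul, Subgroup.coe_mul, c2] at this
        exact this)
    have r3 : β (XG 6) * XG 2 = XG 2 * β (XG 6) := by
      have := congrArg β htw
      rwa [map_mul, map_mul, h2] at this
    obtain ⟨j2, hj2, i2, hi2, e6⟩ := cent_w_struct b p0 (X 6) D.hbp tmem.1 tmem.2 D.tw D.fixw
      ((β (XG 6) : ↥(GS b)) : ↥Co0) (mem_GS.1 (β (XG 6)).2).1 (mem_GS.1 (β (XG 6)).2).2 (by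
        have := congrArg Subtype.val r3
        rw [Subgroup.coe_mul, Subgroup.coe_mul, c2] at this
        exact this)
    have hx2 : X 2 = iota wD := D.e2
    have hY : ∀ r, ev (fun l => ((β (XG l) : ↥(GS b)) : ↥Co0)) (rels.getD r []) = 1 := by
      intro r
      have h1 := ev_map ((GS b).subtype.comp β.toMonoidHom) XG (rels.getD r [])
      rw [hrelG r, map_one] at h1
      exact h1.symm
    have f4 : ((β (XG 4) : ↥(GS b)) : ↥Co0) = X 4 * X 6 ^ j * X 2 ^ i := by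
      rw [hcc, Subgroup.coe_mul, coeXG 4 (by norm_num), e4, hx2, mul_assoc]
    have f6 : ((β (XG 6) : ↥(GS b)) : ↥Co0) = X 6 ^ j2 * X 2 ^ i2 := by rw [hx2]; exact e6
    have f2 : ((β (XG 2) : ↥(GS b)) : ↥Co0) = X 2 := by rw [h2]; exact coeXG 2 (by norm_num)
    rcases h0 with h0 | h0
    · have hT : Tup X (fun l => ((β (XG l) : ↥(GS b)) : ↥Co0)) 0 i j i2 j2 :=
        ⟨by rw [if_pos rfl]; show ((β (XG 0) : ↥(GS b)) : ↥Co0) = X 0; rw [h0]; exact coeXG 0 (by norm_num),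
          f2, f4, f6⟩
      exact ⟨0, i, j, i2, j2, by norm_num, hi, hj, hi2, hj2, hT,
        D.tup _ hY 0 i j i2 j2 (by norm_num) hi hj hi2 hj2 hT⟩
    · have hT : Tup X (fun l => ((β (XG l) : ↥(GS b)) : ↥Co0)) 1 i j i2 j2 :=
        ⟨by
          rw [if_neg (by norm_num)]
          show ((β (XG 0) : ↥(GS b)) : ↥Co0) = X 1
          rw [h0, Subgroup.coe_pow, coeXG 0 (by norm_num), x1, eq_inv_iff_mul_eq_one, ← pow_succ]
          have : X 0 = iota vB := D.e0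
          rw [this]; exact iota_vB_pow,
          f2, f4, f6⟩
      exact ⟨1, i, j, i2, j2, by norm_num, hi, hj, hi2, hj2, hT,
        D.tup _ hY 1 i j i2 j2 (by norm_num) hi hj hi2 hj2 hT⟩
  have same : ∀ β β' : MulAut ↥(GS b), ∀ eps i j i2 j2 : ℕ,
      Tup X (fun l => ((β (XG l) : ↥(GS b)) : ↥Co0)) eps i j i2 j2 →
      Tup X (fun l => ((β' (XG l) : ↥(GS b)) : ↥Co0)) eps i j i2 j2 → β = β' := by
    intro β β' eps i j i2 j2 h h'
    exact huniq β β' (Subtype.ext (h.1.trans h'.1.symm)) (Subtype.ext (h.2.1.trans h'.2.1.symm))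
      (Subtype.ext (h.2.2.1.trans h'.2.2.1.symm)) (Subtype.ext (h.2.2.2.trans h'.2.2.2.symm))
  have hone : Tup X (fun l => (((1 : MulAut ↥(GS b)) (XG l) : ↥(GS b)) : ↥Co0)) 0 0 0 0 1 := by
    refine ⟨?_, ?_, ?_, ?_⟩
    · rw [if_pos rfl]; exact coeXG 0 (by norm_num)
    · exact coeXG 2 (by norm_num)
    · rw [pow_zero, pow_zero, mul_one, mul_one]; exact coeXG 4 (by norm_num)
    · rw [pow_zero, pow_one, mul_one]; exact coeXG 6 (by norm_num)
  -- `γ` is normalised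
  have hγ0 : γ (XG 0) = XG 0 ∨ γ (XG 0) = XG 0 ^ 10 := by
    rcases D.nv with h | h
    · left; apply Subtype.ext; rw [hγa]
      show n * ((XG 0 : ↥(GS b)) : ↥Co0) * n⁻¹ = _
      rw [c0, h]
    · right; apply Subtype.ext; rw [hγa, Subgroup.coe_pow]
      show n * ((XG 0 : ↥(GS b)) : ↥Co0) * n⁻¹ = _
      rw [c0, h]
  have hγ2 : γ (XG 2) = XG 2 := by
    apply Subtype.ext; rw [hγa]
    show n * ((XG 2 : ↥(GS b)) : ↥Co0) * n⁻¹ = _
    rw [c2, D.nw]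
  have hγ1 : γ ≠ 1 := fun h => hγ (by rw [h]; exact one_mem _)
  obtain ⟨ge, gi, gj, gi2, gj2, g1, g2, g3, g4, g5, gT, gc⟩ := key γ hγ0 hγ2
  have gc' : ge * 25 + gi * 5 + gj = a1 ∧ gi2 * 5 + gj2 = a2 := by
    rcases gc with ⟨h1, h2⟩ | h
    · exfalso
      apply hγ1
      have : ge = 0 ∧ gi = 0 ∧ gj = 0 ∧ gi2 = 0 ∧ gj2 = 1 := by omega
      obtain ⟨rfl, rfl, rfl, rfl, rfl⟩ := this
      exact same γ 1 _ _ _ _ _ gT hone
    · exact h
  apply card_out_two_of γ hγ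
  intro α
  obtain ⟨g, hg0, hg2⟩ := reduce_aut (XG 0) (XG 2) hv11 hv1 D.c121 hwv hw5 hw1 K
    (by rw [hKcard]; norm_num) hN α
  refine ⟨g, ?_⟩
  obtain ⟨e, i, j, i2, j2, k1, k2, k3, k4, k5, kT, kc⟩ := key _ hg0 hg2
  rcases kc with ⟨h1, h2⟩ | ⟨h1, h2⟩
  · left
    have : e = 0 ∧ i = 0 ∧ j = 0 ∧ i2 = 0 ∧ j2 = 1 := by omega
    obtain ⟨rfl, rfl, rfl, rfl, rfl⟩ := this
    exact same _ 1 _ _ _ _ _ kT hone
  · right
    have : e = ge ∧ i = gi ∧ j = gj ∧ i2 = gi2 ∧ j2 = gj2 := by omega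
    obtain ⟨rfl, rfl, rfl, rfl, rfl⟩ := this
    exact same _ γ _ _ _ _ _ kT gT

end Cfsg.Agent.Lib.Helper33
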