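import Cfsg.Agent.Lib.Helper33.OutWord

set_option autoImplicit false
set_option maxRecDepth 100000

/-!
The images of four generators under an automorphism: exclusion of the wrong candidates by relations.
-/

namespace Cfsg.Agent.Lib.Helper33

open Cfsg MulAction Cfsg.Agent.Lib.Helper9 Cfsg.Agent.Lib.Helper11 Matrix

theorem pw_mem {g x y : ℕ} (h : y ∈ pw g x) : y = g ∨ y = g + 1 := by
  unfold pw at h
  split_ifs at h <;> simp at h <;> omega

/-- the words for the candidates -/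
def sgm (eps i j i2 j2 l : ℕ) : List ℕ :=
  if l = 0 then (if eps = 0 then [0] else [1]) else if l = 2 then [2]
  else if l = 4 then 4 :: (pw 6 j ++ pw 2 i) else pw 6 j2 ++ pw 2 i2

theorem sgm_lt {eps i j i2 j2 l y : ℕ} (h : y ∈ sgm eps i j i2 j2 l) : y < 2 * 4 := by
  unfold sgm at h
  split_ifs at h
  · simp at h; omega
  · simp at h; omega
  · simp at h; omega
  · rw [List.mem_cons, List.mem_append] at h
    rcases h with h | h | h
    · omega
    · have := pw_mem h; omega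
    · have := pw_mem h; omega
  · rw [List.mem_append] at h
    rcases h with h | h
    · have := pw_mem h; omega
    · have := pw_mem h; omega

/-- the images `Y` of the generators are given by the parameters -/
def Tup {M : Type*} [Group M] (X Y : ℕ → M) (eps i j i2 j2 : ℕ) : Prop :=
  Y 0 = (if eps = 0 then X 0 else X 1) ∧ Y 2 = X 2 ∧ Y 4 = X 4 * X 6 ^ j * X 2 ^ i ∧ Y 6 = X 6 ^ j2 * X 2 ^ i2

theorem Tup.ev_sgm {M : Type*} [Group M] {X Y : ℕ → M} {eps i j i2 j2 : ℕ} (h : Tup X Y eps i j i2 j2)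
    (h2 : X 2 ^ 5 = 1) (h3 : X 3 = (X 2)⁻¹) (h6 : X 6 ^ 5 = 1) (h7 : X 7 = (X 6)⁻¹)
    (hi : i < 5) (hj : j < 5) (hi2 : i2 < 5) (hj2 : j2 < 5) {l : ℕ} (hl : l = 0 ∨ l = 2 ∨ l = 4 ∨ l = 6) :
    Y l = ev X (sgm eps i j i2 j2 l) := by
  obtain ⟨a0, a2, a4, a6⟩ := h
  rcases hl with rfl | rfl | rfl | rfl
  · rw [a0]
    unfold sgm
    rw [if_pos rfl]
    split_ifs <;> simp [ev]
  · rw [a2]; simp [sgm, ev]
  · rw [a4]
    have : sgm eps i j i2 j2 4 = 4 :: (pw 6 j ++ pw 2 i) := by simp [sgm]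
    rw [this, ev, ev_append, ev_pw X 6 h6 h7 hj, ev_pw X 2 h2 h3 hi, mul_assoc]
  · rw [a6]
    have : sgm eps i j i2 j2 6 = pw 6 j2 ++ pw 2 i2 := by simp [sgm]
    rw [this, ev_append, ev_pw X 6 h6 h7 hj2, ev_pw X 2 h2 h3 hi2]

/-- field `k` of a packed array with 8-bit fields -/
def f8 (A k : ℕ) : ℕ := Nat.land (Nat.shiftRight A (Nat.mul 8 k)) 255

/-- letters of the first three generators -/
def let3 (R : List ℕ) : Bool := R.all fun l => Nat.beq l 0 || (Nat.beq l 2 || Nat.beq l 4)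
def let4 (R : List ℕ) : Bool := R.all fun l => Nat.beq l 0 || (Nat.beq l 2 || (Nat.beq l 4 || Nat.beq l 6))

theorem let3_spec {R : List ℕ} (h : let3 R = true) : ∀ l ∈ R, l = 0 ∨ l = 2 ∨ l = 4 := by
  intro l hl
  have := (List.all_eq_true.1 h) l hl
  simp only [Bool.or_eq_true, Nat.beq_eq] at this
  exact this

theorem let4_spec {R : List ℕ} (h : let4 R = true) : ∀ l ∈ R, l = 0 ∨ l = 2 ∨ l = 4 ∨ l = 6 := by
  intro l hl
  have := (List.all_eq_true.1 h) l hl
  simp only [Bool.or_eq_true, Nat.beq_eq] at this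
  exact this

/-- first stage: the candidates for the third generator -/
noncomputable def st1 (G : ℕ) (rels : List (List ℕ)) (T1 n : ℕ) : Bool :=
  force (f8 T1 n) (fun c => Nat.beq c 255 ||
    (let3 (rels.getD (Nat.shiftRight c 5) []) &&
      neChk G ((rels.getD (Nat.shiftRight c 5) []).flatMap (sgm (n / 25) (n / 5 % 5) (n % 5) 0 0)) (Nat.land c 31)))

/-- second stage: the candidates for the fourth generator -/
noncomputable def st2 (G : ℕ) (rels : List (List ℕ)) (T1 Q T2 m : ℕ) : Bool :=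
  !(Nat.beq (f8 T1 (m / 25)) 255) ||
  force (f8 T2 (25 * f8 Q (m / 25) + m % 25)) (fun c => Nat.beq c 255 ||
    (let4 (rels.getD (Nat.shiftRight c 5) []) &&
      neChk G ((rels.getD (Nat.shiftRight c 5) []).flatMap
        (sgm (m / 25 / 25) (m / 25 / 5 % 5) (m / 25 % 5) (m % 25 / 5) (m % 5))) (Nat.land c 31)))

/-- the surviving candidates -/
def finOK (T1 Q T2 a1 a2 m : ℕ) : Bool :=
  !(Nat.beq (f8 T1 (m / 25)) 255) || (!(Nat.beq (f8 T2 (25 * f8 Q (m / 25) + m % 25)) 255) ||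
    ((Nat.beq (m / 25) 0 && Nat.beq (m % 25) 1) || (Nat.beq (m / 25) a1 && Nat.beq (m % 25) a2)))

theorem tup_of_chk {G : ℕ} (hG : gensOK G 4 = true) (rels : List (List ℕ)) (T1 Q T2 a1 a2 : ℕ)
    (h2 : coEl (matAt G 2) ^ 5 = 1) (h6 : coEl (matAt G 6) ^ 5 = 1)
    (s1 : allBelow (st1 G rels T1) 50 = true) (s2 : allBelow (st2 G rels T1 Q T2) 1250 = true)
    (fin : allBelow (finOK T1 Q T2 a1 a2) 1250 = true)
    (Y : ℕ → ↥Co0) (hY : ∀ r, ev Y (rels.getD r []) = 1) (eps i j i2 j2 : ℕ)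
    (he : eps < 2) (hi : i < 5) (hj : j < 5) (hi2 : i2 < 5) (hj2 : j2 < 5)
    (hT : Tup (fun l => coEl (matAt G l)) Y eps i j i2 j2) :
    (eps * 25 + i * 5 + j = 0 ∧ i2 * 5 + j2 = 1) ∨ (eps * 25 + i * 5 + j = a1 ∧ i2 * 5 + j2 = a2) := by
  have h3 : coEl (matAt G 3) = (coEl (matAt G 2))⁻¹ := coEl_inv (gensOK_pair hG (i := 1) (by norm_num))
  have h7 : coEl (matAt G 7) = (coEl (matAt G 6))⁻¹ := coEl_inv (gensOK_pair hG (i := 3) (by norm_num))
  rw [allBelow_iff] at s1 s2 fin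
  set n1 := eps * 25 + i * 5 + j with hn1
  set n2 := i2 * 5 + j2 with hn2
  have e1 : n1 / 25 = eps := by omega
  have e2 : n1 / 5 % 5 = i := by omega
  have e3 : n1 % 5 = j := by omega
  -- first stage
  have t1 : f8 T1 n1 = 255 := by
    have := s1 n1 (by omega)
    simp only [st1, force_eq, Bool.or_eq_true, Bool.and_eq_true] at this
    rcases this with h | ⟨ha, hb⟩
    · exact Nat.eq_of_beq_eq_true h
    · exfalso
      rw [e1, e2, e3] at hb
      apply ne_of_chk hG (fun l hl => by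
        rw [List.mem_flatMap] at hl
        obtain ⟨_, _, hl⟩ := hl
        exact sgm_lt hl) hb
      rw [← ev_flatMap (fun l => coEl (matAt G l)) Y, hY]
      intro l hl
      have hl3 := let3_spec ha l hl
      have hl4 : l = 0 ∨ l = 2 ∨ l = 4 ∨ l = 6 := by
        rcases hl3 with h | h | h
        · exact Or.inl h
        · exact Or.inr (Or.inl h)
        · exact Or.inr (Or.inr (Or.inl h))
      have key := hT.ev_sgm h2 h3 h6 h7 hi hj hi2 hj2 hl4
      rw [key]
      have : sgm eps i j i2 j2 l = sgm eps i j 0 0 l := by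
        unfold sgm
        rcases hl3 with rfl | rfl | rfl <;> simp
      rw [this]
  set m := n1 * 25 + n2 with hm
  have f1 : m / 25 = n1 := by omega
  have f2 : m % 25 = n2 := by omega
  have f3 : m % 25 / 5 = i2 := by omega
  have f4 : m % 5 = j2 := by omega
  have hm1250 : m < 1250 := by omega
  have t2 : f8 T2 (25 * f8 Q n1 + n2) = 255 := by
    have := s2 m hm1250
    simp only [st2, force_eq, Bool.or_eq_true, Bool.and_eq_true, Bool.not_eq_true'] at this
    rw [f3, f4, f1, f2, e1, e2, e3] at this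
    rcases this with h | h | ⟨ha, hb⟩
    · rw [t1] at h
      simp at h
    · exact Nat.eq_of_beq_eq_true h
    · exfalso
      apply ne_of_chk hG (fun l hl => by
        rw [List.mem_flatMap] at hl
        obtain ⟨_, _, hl⟩ := hl
        exact sgm_lt hl) hb
      rw [← ev_flatMap (fun l => coEl (matAt G l)) Y, hY]
      intro l hl
      exact hT.ev_sgm h2 h3 h6 h7 hi hj hi2 hj2 (let4_spec ha l hl)
  have := fin m hm1250
  simp only [finOK, Bool.or_eq_true, Bool.and_eq_true, Bool.not_eq_true'] at this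
  rw [f1, f2, t1, t2] at this
  rcases this with h | h | ⟨h, h'⟩ | ⟨h, h'⟩
  · simp at h
  · simp at h
  · exact Or.inl ⟨Nat.eq_of_beq_eq_true h, Nat.eq_of_beq_eq_true h'⟩
  · exact Or.inr ⟨Nat.eq_of_beq_eq_true h, Nat.eq_of_beq_eq_true h'⟩

end Cfsg.Agent.Lib.Helper33
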