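import Cfsg.Agent.Lib.Helper33.OutCert

set_option autoImplicit false
set_option maxRecDepth 100000

/-!
Words in packed matrices: certificates for relations and for the failure of relations.
-/

namespace Cfsg.Agent.Lib.Helper33

open Cfsg MulAction Cfsg.Agent.Lib.Helper9 Cfsg.Agent.Lib.Helper11 Matrix

/-- evaluation of a word -/
def ev {M : Type*} [Monoid M] (X : ℕ → M) : List ℕ → M
  | [] => 1
  | l :: r => X l * ev X r

theorem ev_append {M : Type*} [Monoid M] (X : ℕ → M) (a b : List ℕ) : ev X (a ++ b) = ev X a * ev X b := by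
  induction a with
  | nil => simp [ev]
  | cons l r ih => rw [List.cons_append, ev, ev, ih, mul_assoc]

theorem ev_map {M N : Type*} [Monoid M] [Monoid N] (f : M →* N) (X : ℕ → M) (W : List ℕ) :
    f (ev X W) = ev (fun l => f (X l)) W := by
  induction W with
  | nil => simp [ev]
  | cons l r ih => rw [ev, ev, map_mul, ih]

theorem ev_flatMap {M : Type*} [Monoid M] (X Y : ℕ → M) (σ : ℕ → List ℕ) (R : List ℕ)
    (h : ∀ l ∈ R, Y l = ev X (σ l)) : ev Y R = ev X (R.flatMap σ) := by
  induction R with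
  | nil => simp [ev]
  | cons l r ih =>
    rw [List.flatMap_cons, ev_append, ev, h l List.mem_cons_self,
      ih (fun l' hl' => h l' (List.mem_cons_of_mem _ hl'))]

/-- a word for the power `x < 5` of a generator of order 5 -/
def pw (g x : ℕ) : List ℕ :=
  if x = 0 then [] else if x = 1 then [g] else if x = 2 then [g, g] else if x = 3 then [g + 1, g + 1] else [g + 1]

theorem ev_pw {M : Type*} [Group M] (X : ℕ → M) (g : ℕ) (h5 : X g ^ 5 = 1) (hi : X (g + 1) = (X g)⁻¹) {x : ℕ}
    (hx : x < 5) : ev X (pw g x) = X g ^ x := by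
  have h4 : (X g)⁻¹ = X g ^ 4 := by
    rw [inv_eq_iff_mul_eq_one, ← pow_succ', h5]
  interval_cases x
  · simp [pw, ev]
  · simp [pw, ev]
  · simp [pw, ev, pow_two]
  · show X (g + 1) * (X (g + 1) * 1) = X g ^ 3
    rw [hi, mul_one, h4, ← pow_add]
    calc X g ^ (4 + 4) = X g ^ 5 * X g ^ 3 := by rw [← pow_add]
      _ = X g ^ 3 := by rw [h5, one_mul]
  · show X (g + 1) * 1 = X g ^ 4
    rw [hi, mul_one, h4]

/-! ### images of packed vectors -/

theorem coEl_fwd {M a b : ℕ} (hM : matOK M = true) (hco : IsCoMat (matOf M)) (ha : Small a) (hb : Small b)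
    (h : mvOK M a b = true) (haL : vec a ∈ leechLattice) :
    vec b ∈ leechLattice ∧ coEl M • lv a = lv b := by
  have e := coEl_spec hco (lv a)
  rw [lv_coe haL, mv_vec' hM ha hb h] at e
  have e2 := smul8_inj e
  have hbL : vec b ∈ leechLattice := by rw [e2]; exact (coEl M • lv a).2
  exact ⟨hbL, Subtype.ext (by rw [lv_coe hbL, e2])⟩

/-- the candidate for the image of the packed vector `a` -/
noncomputable def mvApp (M a : ℕ) : ℕ :=
  force (mvS M a) (fun s =>
    Nat.sub (Nat.div (Nat.sub (Nat.add s mvC1) (Nat.mul (Nat.shiftRight s 384) mvC2)) 8) (mcol M 24))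

/-- apply the letters of a list one after the other to a packed vector, and test the result -/
noncomputable def runK (G : ℕ) (k : ℕ → Bool) : List ℕ → ℕ → Bool
  | [], z => k z
  | l :: ls, z => force (matAt G l) (fun M => force (mvApp M z) (fun b =>
      mvOK M z b && (vecOK b && runK G k ls b)))

theorem runK_cons (G : ℕ) (k : ℕ → Bool) (l : ℕ) (ls : List ℕ) (z : ℕ) :
    runK G k (l :: ls) z = (mvOK (matAt G l) z (mvApp (matAt G l) z) && (vecOK (mvApp (matAt G l) z) &&
      runK G k ls (mvApp (matAt G l) z))) := by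
  rw [runK, force_eq, force_eq]

theorem runK_nil (G : ℕ) (k : ℕ → Bool) (z : ℕ) : runK G k [] z = k z := by rw [runK]

theorem runK_spec {G np : ℕ} (hG : gensOK G np = true) (k : ℕ → Bool) :
    ∀ (L : List ℕ) (z : ℕ), (∀ l ∈ L, l < 2 * np) → Small z → vec z ∈ leechLattice → runK G k L z = true →
      ∃ z', k z' = true ∧ Small z' ∧ vec z' ∈ leechLattice ∧
        ev (fun l => coEl (matAt G l)) L.reverse • lv z = lv z' := by
  intro L
  induction L with
  | nil =>
    intro z _ hs hz h
    rw [runK_nil] at h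
    refine ⟨z, h, hs, hz, ?_⟩
    rw [List.reverse_nil]
    exact one_smul _ _
  | cons l ls ih =>
    intro z hl hs hz h
    rw [runK_cons, Bool.and_eq_true, Bool.and_eq_true] at h
    obtain ⟨h1, h2, h3⟩ := h
    generalize mvApp (matAt G l) z = b at h1 h2 h3
    have hl0 := hl l List.mem_cons_self
    obtain ⟨hb, e⟩ := coEl_fwd (gensOK_spec hG l hl0).1 (gensOK_spec hG l hl0).2 hs (vecOK_spec h2) h1 hz
    obtain ⟨z', k1, k2, k3, k4⟩ := ih _ (fun l' hl' => hl l' (List.mem_cons_of_mem _ hl')) (vecOK_spec h2) hb h3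
    refine ⟨z', k1, k2, k3, ?_⟩
    rw [List.reverse_cons, ev_append, mul_smul]
    have e1 : ev (fun l => coEl (matAt G l)) [l] = coEl (matAt G l) := mul_one _
    rw [e1, e, k4]

theorem vec_e8v {k : ℕ} (hk : k < 24) : vec (e8v k) = ((uv (pt k) : ↥leechLattice) : GolayPt → ℤ) := by
  funext p
  rw [uv_val]
  show (dg (e8v k) (idx p) : ℤ) - 8 = _
  rw [e8v_dg k hk _ (idx_lt p)]
  by_cases h : idx p = k
  · have : p = pt k := by rw [← h, pt_idx]
    rw [if_pos h, this, Pi.single_eq_same]; norm_num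
  · have : p ≠ pt k := fun e => h (by rw [e, idx_pt hk])
    rw [if_neg h, Pi.single_eq_of_ne this]; norm_num

theorem e8v_mem {k : ℕ} (hk : k < 24) : vec (e8v k) ∈ leechLattice := by
  rw [vec_e8v hk]; exact (uv (pt k)).2

theorem lv_e8v {k : ℕ} (hk : k < 24) : lv (e8v k) = uv (pt k) :=
  Subtype.ext (by rw [lv_coe (e8v_mem hk), vec_e8v hk])

theorem ldot_uv (p : GolayPt) (x : ↥leechLattice) : ldot (uv p) x = 8 * x.1 p := by
  unfold ldot dotInt
  rw [uv_val, Finset.sum_eq_single p]
  · rw [Pi.single_eq_same]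
  · intro q _ hq
    rw [Pi.single_eq_of_ne hq, zero_mul]
  · intro h; exact absurd (Finset.mem_univ p) h

theorem eq_one_of_e8 (g : ↥Co0) (h : ∀ k < 24, g • lv (e8v k) = lv (e8v k)) : g = 1 := by
  apply Helper9.co0_ext
  intro v
  rw [one_smul]
  apply Subtype.ext
  funext p
  have h1 := h (idx p) (idx_lt p)
  rw [lv_e8v (idx_lt p), pt_idx] at h1
  have h2 := ldot_smul g (uv p) v
  rw [h1, ldot_uv, ldot_uv] at h2
  omega

/-- certificate for a relation -/
noncomputable def relChk (G : ℕ) (R : List ℕ) : Bool :=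
  allBelow (fun k => runK G (fun z => Nat.beq z (e8v k)) R.reverse (e8v k)) 24

theorem rel_of_chk {G np : ℕ} (hG : gensOK G np = true) {R : List ℕ} (hR : ∀ l ∈ R, l < 2 * np)
    (h : relChk G R = true) : ev (fun l => coEl (matAt G l)) R = 1 := by
  rw [relChk, allBelow_iff] at h
  apply eq_one_of_e8
  intro k hk
  obtain ⟨z', k1, _, _, k4⟩ := runK_spec hG _ R.reverse (e8v k) (fun l hl => hR l (List.mem_reverse.1 hl))
    (vecOK_spec (e8v_ok k hk)) (e8v_mem hk) (h k hk)
  rw [List.reverse_reverse] at k4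
  rw [k4, Nat.eq_of_beq_eq_true k1]

/-- certificate for the failure of a relation -/
noncomputable def neChk (G : ℕ) (W : List ℕ) (k : ℕ) : Bool :=
  Nat.blt k 24 && runK G (fun z => !(Nat.beq z (e8v k))) W.reverse (e8v k)

theorem ne_of_chk {G np : ℕ} (hG : gensOK G np = true) {W : List ℕ} (hW : ∀ l ∈ W, l < 2 * np) {k : ℕ}
    (h : neChk G W k = true) : ev (fun l => coEl (matAt G l)) W ≠ 1 := by
  rw [neChk, Bool.and_eq_true] at h
  have hk : k < 24 := blt_iff.1 h.1
  obtain ⟨z', k1, k2, k3, k4⟩ := runK_spec hG _ W.reverse (e8v k) (fun l hl => hW l (List.mem_reverse.1 hl))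
    (vecOK_spec (e8v_ok k hk)) (e8v_mem hk) h.2
  rw [List.reverse_reverse] at k4
  intro h1
  rw [h1, one_smul] at k4
  have := lv_inj (vecOK_spec (e8v_ok k hk)) k2 (e8v_mem hk) k3 k4
  rw [← this] at k1
  simp at k1

end Cfsg.Agent.Lib.Helper33
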