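import Cfsg.Agent.Lib.Helper33.SetFam

set_option autoImplicit false

namespace Cfsg.Agent.Lib.Helper33

/-- digit `k` in base `65536` -/
def dg (A k : ℕ) : ℕ := Nat.land (Nat.shiftRight A (Nat.mul 16 k)) 0xFFFF

theorem dg_eq (A k : ℕ) : dg A k = A / 65536 ^ k % 65536 := by
  show (A >>> (16 * k)) &&& 0xFFFF = _
  rw [Nat.shiftRight_eq_div_pow, show (0xFFFF : ℕ) = 2 ^ 16 - 1 from rfl, Nat.and_two_pow_sub_one_eq_mod, pow_mul]
  rfl

/-- the number with digits `f 0, …, f (n-1)` in base `65536` -/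
def mk (f : ℕ → ℕ) (n : ℕ) : ℕ := ∑ i ∈ Finset.range n, f i * 65536 ^ i

theorem mk_succ (f : ℕ → ℕ) (n : ℕ) : mk f (n + 1) = mk f n + f n * 65536 ^ n :=
  Finset.sum_range_succ _ _

theorem mk_zero (f : ℕ → ℕ) : mk f 0 = 0 := rfl

theorem mk_lt {f : ℕ → ℕ} {n : ℕ} (h : ∀ i < n, f i < 65536) : mk f n < 65536 ^ n := by
  induction n with
  | zero => simp [mk]
  | succ n ih =>
    rw [mk_succ, pow_succ]
    have h1 := ih (fun i hi => h i (Nat.lt_succ_of_lt hi))
    have h2 := h n (Nat.lt_succ_self n)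
    have h3 : f n * 65536 ^ n ≤ 65535 * 65536 ^ n := Nat.mul_le_mul_right _ (by omega)
    nlinarith

theorem dg_mk {f : ℕ → ℕ} {n : ℕ} (h : ∀ i < n, f i < 65536) {k : ℕ} (hk : k < n) : dg (mk f n) k = f k := by
  induction n with
  | zero => omega
  | succ n ih =>
    have h1 : mk f n < 65536 ^ n := mk_lt (fun i hi => h i (Nat.lt_succ_of_lt hi))
    rcases Nat.lt_succ_iff_lt_or_eq.1 hk with hk' | rfl
    · rw [← ih (fun i hi => h i (Nat.lt_succ_of_lt hi)) hk', dg_eq, dg_eq, mk_succ]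
      obtain ⟨d, rfl⟩ : ∃ d, n = k + 1 + d := ⟨n - (k + 1), by omega⟩
      have e : f (k + 1 + d) * 65536 ^ (k + 1 + d) = 65536 ^ k * (65536 * (f (k + 1 + d) * 65536 ^ d)) := by
        ring
      rw [e, Nat.add_mul_div_left _ _ (by positivity), Nat.add_mul_mod_self_left]
    · rw [dg_eq, mk_succ, Nat.add_mul_div_right _ _ (by positivity), Nat.div_eq_of_lt h1, zero_add,
        Nat.mod_eq_of_lt (h k (Nat.lt_succ_self k))]

theorem mk_dg {a n : ℕ} (h : a < 65536 ^ n) : mk (dg a) n = a := by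
  induction n generalizing a with
  | zero => simp at h; simp [mk, h]
  | succ n ih =>
    rw [mk_succ]
    have h1 : a % 65536 ^ n < 65536 ^ n := Nat.mod_lt _ (by positivity)
    have h2 : mk (dg a) n = mk (dg (a % 65536 ^ n)) n := by
      apply Finset.sum_congr rfl
      intro i hi
      rw [Finset.mem_range] at hi
      congr 1
      rw [dg_eq, dg_eq]
      obtain ⟨d, rfl⟩ : ∃ d, n = i + 1 + d := ⟨n - (i + 1), by omega⟩
      have e : (65536 : ℕ) ^ (i + 1 + d) = 65536 ^ i * (65536 * 65536 ^ d) := by ring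
      rw [e, Nat.mod_mul_right_div_self, Nat.mod_mul_right_mod]
    rw [h2, ih h1, dg_eq]
    have h3 : a / 65536 ^ n < 65536 := by
      rw [Nat.div_lt_iff_lt_mul (by positivity)]
      rw [pow_succ] at h
      linarith
    rw [Nat.mod_eq_of_lt h3]
    exact Nat.mod_add_div' a _

theorem mk_add (f g : ℕ → ℕ) (n : ℕ) : mk f n + mk g n = mk (fun i => f i + g i) n := by
  unfold mk
  rw [← Finset.sum_add_distrib]
  apply Finset.sum_congr rfl
  intro i _
  ring

theorem mul_mk (c : ℕ) (f : ℕ → ℕ) (n : ℕ) : c * mk f n = mk (fun i => c * f i) n := by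
  unfold mk
  rw [Finset.mul_sum]
  apply Finset.sum_congr rfl
  intro i _
  ring

theorem sum_mk {ι : Type*} (s : Finset ι) (f : ι → ℕ → ℕ) (n : ℕ) :
    ∑ j ∈ s, mk (f j) n = mk (fun i => ∑ j ∈ s, f j i) n := by
  unfold mk
  rw [Finset.sum_comm]
  apply Finset.sum_congr rfl
  intro i _
  rw [Finset.sum_mul]

theorem mk_congr {f g : ℕ → ℕ} {n : ℕ} (h : ∀ i < n, f i = g i) : mk f n = mk g n :=
  Finset.sum_congr rfl (fun i hi => by rw [h i (Finset.mem_range.1 hi)])

theorem mk_inj {f g : ℕ → ℕ} {n : ℕ} (hf : ∀ i < n, f i < 65536) (hg : ∀ i < n, g i < 65536)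
    (h : mk f n = mk g n) : ∀ i < n, f i = g i := by
  intro i hi
  rw [← dg_mk hf hi, h, dg_mk hg hi]

theorem mk_div {f : ℕ → ℕ} {n : ℕ} (h : ∀ i < n, f i < 65536) : mk f (n + 1) / 65536 ^ n = f n := by
  rw [mk_succ, Nat.add_mul_div_right _ _ (by positivity), Nat.div_eq_of_lt (mk_lt h), zero_add]

end Cfsg.Agent.Lib.Helper33
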