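import Cfsg.Agent.Lib.Helper33.Forest2

set_option autoImplicit false

namespace Cfsg.Agent.Lib.Helper33

open Cfsg
open scoped Pointwise

/-- kernel-friendly sum of `f k` for `k < n` -/
noncomputable def sumBelow (f : ℕ → ℕ) (n : ℕ) : ℕ := Nat.rec 0 (fun k ih => Nat.add (f k) ih) n

theorem sumBelow_eq (f : ℕ → ℕ) (n : ℕ) : sumBelow f n = ∑ k ∈ Finset.range n, f k := by
  induction n with
  | zero => rfl
  | succ n ih =>
    rw [Finset.sum_range_succ, ← ih, add_comm (sumBelow f n)]
    rfl

/-- the family of `m` sets stored at position `k` of a table of masks -/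
def objM (tab m k : ℕ) : Finset (Finset GolayPt) :=
  (Finset.range m).image (fun i => unmask (fld24 tab (Nat.add (Nat.mul m k) i)))

theorem mem_objM {tab m k : ℕ} {t : Finset GolayPt} :
    t ∈ objM tab m k ↔ ∃ i < m, t = unmask (fld24 tab (Nat.add (Nat.mul m k) i)) := by
  simp only [objM, Finset.mem_image, Finset.mem_range]
  constructor
  · rintro ⟨i, hi, rfl⟩; exact ⟨i, hi, rfl⟩
  · rintro ⟨i, hi, rfl⟩; exact ⟨i, hi, rfl⟩

/-- sum of the squares of the intersection sizes of the members of two families -/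
def relSq (S S' : Finset (Finset GolayPt)) : ℕ := ∑ t ∈ S, ∑ u ∈ S', ((t ∩ u).card) ^ 2

theorem relSq_smul (g : Equiv.Perm GolayPt) (S S' : Finset (Finset GolayPt)) :
    relSq (g • S) (g • S') = relSq S S' := by
  unfold relSq
  have h1 : g • S = S.image (fun t => g • t) := rfl
  have h2 : g • S' = S'.image (fun t => g • t) := rfl
  rw [h1, h2, Finset.sum_image (fun a _ b _ h => MulAction.injective g h)]
  apply Finset.sum_congr rfl
  intro t _
  rw [Finset.sum_image (fun a _ b _ h => MulAction.injective g h)]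
  apply Finset.sum_congr rfl
  intro u _
  rw [card_inter_smul]

theorem relSq_objM {tab m k k' : ℕ}
    (h : ∀ i < m, ∀ j < m, fld24 tab (Nat.add (Nat.mul m k) i) = fld24 tab (Nat.add (Nat.mul m k) j) → i = j)
    (h' : ∀ i < m, ∀ j < m, fld24 tab (Nat.add (Nat.mul m k') i) = fld24 tab (Nat.add (Nat.mul m k') j) → i = j) :
    relSq (objM tab m k) (objM tab m k') =
      sumBelow (fun i => sumBelow (fun j => Nat.pow (popc (Nat.land (fld24 tab (Nat.add (Nat.mul m k) i))
        (fld24 tab (Nat.add (Nat.mul m k') j)))) 2) m) m := by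
  unfold relSq objM
  rw [Finset.sum_image, sumBelow_eq]
  · apply Finset.sum_congr rfl
    intro i _
    rw [Finset.sum_image, sumBelow_eq]
    · apply Finset.sum_congr rfl
      intro j _
      rw [card_inter_unmask _ _ (fld24_lt _ _)]
      rfl
    · intro a ha b hb hab
      exact h' a (Finset.mem_range.1 ha) b (Finset.mem_range.1 hb) (unmask_inj (fld24_lt _ _) (fld24_lt _ _) hab)
  · intro a ha b hb hab
    exact h a (Finset.mem_range.1 ha) b (Finset.mem_range.1 hb) (unmask_inj (fld24_lt _ _) (fld24_lt _ _) hab)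

theorem card_objM {tab m k : ℕ}
    (h : ∀ i < m, ∀ j < m, fld24 tab (Nat.add (Nat.mul m k) i) = fld24 tab (Nat.add (Nat.mul m k) j) → i = j) :
    (objM tab m k).card = m := by
  unfold objM
  rw [Finset.card_image_of_injOn, Finset.card_range]
  intro a ha b hb hab
  exact h a (Finset.mem_range.1 ha) b (Finset.mem_range.1 hb) (unmask_inj (fld24_lt _ _) (fld24_lt _ _) hab)

/-- two octads with at least five common points are equal -/
theorem octad_eq_of_inter {o o' : Finset GolayPt} (ho : o ∈ octads) (ho' : o' ∈ octads)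
    (h : 5 ≤ (o ∩ o').card) : o = o' := by
  have hJ := oct_rank.relJ' {0, 2, 4, 8} oct_relJ ho ho'
  simp only [Finset.mem_insert, Finset.mem_singleton] at hJ
  have h8 : (o ∩ o').card = 8 := by omega
  have h1 : o ∩ o' = o := Finset.eq_of_subset_of_card_le Finset.inter_subset_left (by rw [h8, ho.2])
  have h2 : o ∩ o' = o' := Finset.eq_of_subset_of_card_le Finset.inter_subset_right (by rw [h8, ho'.2])
  rw [← h1, h2]

/-! ### sextets -/

theorem sextet_disjoint {S : Finset (Finset GolayPt)} (hS : S ∈ sextets) {t u : Finset GolayPt}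
    (ht : t ∈ S) (hu : u ∈ S) (h : t ≠ u) : Disjoint t u := by
  rw [← Finset.card_union_eq_card_add_card, hS.2.1 t ht, hS.2.1 u hu]
  exact (hS.2.2 t ht u hu h).2

theorem sextet_cover {S : Finset (Finset GolayPt)} (hS : S ∈ sextets) (p : GolayPt) : ∃ t ∈ S, p ∈ t := by
  have h1 : (S.biUnion id).card = 24 := by
    rw [Finset.card_biUnion (t := id) (fun t ht u hu h => sextet_disjoint hS ht hu h)]
    have h0 : ∀ u ∈ S, (id u : Finset GolayPt).card = 4 := fun t ht => hS.2.1 t ht
    rw [Finset.sum_congr rfl h0, Finset.sum_const, hS.1]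
    rfl
  have h2 : S.biUnion id = Finset.univ := by
    apply Finset.eq_univ_of_card
    rw [h1]; rfl
  have h3 : p ∈ S.biUnion id := by rw [h2]; exact Finset.mem_univ p
  obtain ⟨t, ht, hp⟩ := Finset.mem_biUnion.1 h3
  exact ⟨t, ht, hp⟩

theorem sextet_subset {S S' : Finset (Finset GolayPt)} (hS : S ∈ sextets) (hS' : S' ∈ sextets)
    {t : Finset GolayPt} (ht : t ∈ S) (ht' : t ∈ S') : S ⊆ S' := by
  intro u hu
  by_cases hut : u = t
  · rw [hut]; exact ht'
  have hne : u.Nonempty := by rw [← Finset.card_pos, hS.2.1 u hu]; norm_num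
  obtain ⟨p, hp⟩ := hne
  obtain ⟨u', hu', hp'⟩ := sextet_cover hS' p
  have hd : Disjoint u t := sextet_disjoint hS hu ht hut
  have hpt : p ∉ t := Finset.disjoint_left.1 hd hp
  have hu't : u' ≠ t := by rintro rfl; exact hpt hp'
  have hd' : Disjoint u' t := sextet_disjoint hS' hu' ht' hu't
  have ho := hS.2.2 u hu t ht hut
  have ho' := hS'.2.2 u' hu' t ht' hu't
  have h5 : 5 ≤ ((u ∪ t) ∩ (u' ∪ t)).card := by
    have hsub : insert p t ⊆ (u ∪ t) ∩ (u' ∪ t) := by
      intro q hq
      rcases Finset.mem_insert.1 hq with rfl | hq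
      · exact Finset.mem_inter.2 ⟨Finset.mem_union_left _ hp, Finset.mem_union_left _ hp'⟩
      · exact Finset.mem_inter.2 ⟨Finset.mem_union_right _ hq, Finset.mem_union_right _ hq⟩
    calc 5 = (insert p t).card := by rw [Finset.card_insert_of_notMem hpt, hS.2.1 t ht]
      _ ≤ _ := Finset.card_le_card hsub
  have heq := octad_eq_of_inter ho ho' h5
  have : u = u' := by
    have e1 : (u ∪ t) \ t = u := by
      rw [Finset.union_sdiff_right]; exact Finset.sdiff_eq_self_of_disjoint hd
    have e2 : (u' ∪ t) \ t = u' := by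
      rw [Finset.union_sdiff_right]; exact Finset.sdiff_eq_self_of_disjoint hd'
    rw [← e1, heq, e2]
  rw [this]; exact hu'

theorem sextet_unique {S S' : Finset (Finset GolayPt)} (hS : S ∈ sextets) (hS' : S' ∈ sextets)
    {t : Finset GolayPt} (ht : t ∈ S) (ht' : t ∈ S') : S = S' :=
  Finset.Subset.antisymm (sextet_subset hS hS' ht ht') (sextet_subset hS' hS ht' ht)

theorem smul_mem_sextets {g : Equiv.Perm GolayPt} (hg : g ∈ M24) {S : Finset (Finset GolayPt)}
    (hS : S ∈ sextets) : g • S ∈ sextets := by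
  refine ⟨by rw [Finset.card_smul_finset]; exact hS.1, ?_, ?_⟩
  · intro t ht
    obtain ⟨t', ht', rfl⟩ := Finset.mem_smul_finset.1 ht
    rw [Finset.card_smul_finset]; exact hS.2.1 t' ht'
  · intro t ht u hu hne
    obtain ⟨t', ht', rfl⟩ := Finset.mem_smul_finset.1 ht
    obtain ⟨u', hu', rfl⟩ := Finset.mem_smul_finset.1 hu
    rw [← Finset.smul_finset_union]
    exact smul_mem_octads hg (hS.2.2 t' ht' u' hu' (fun h => hne (by rw [h])))

end Cfsg.Agent.Lib.Helper33
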