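import Mathlib

set_option autoImplicit false

namespace Cfsg.Agent.Lib.Helper33

open MulAction

section grp
variable {G : Type*} [Group G]

/-- `|N : N ∩ H|` divides `|G : H|` for `N` normal -/
theorem relIndex_dvd_index_of_normal' [Finite G] (H N : Subgroup G) [N.Normal] :
    H.relIndex N ∣ H.index := by
  have h1 : H.relIndex (H ⊔ N) ∣ H.index := Subgroup.relIndex_dvd_index_of_le le_sup_left
  have e1 := Subgroup.relIndex_mul_relIndex (⊥ : Subgroup G) (H ⊓ N) N bot_le inf_le_right
  have e2 := Subgroup.relIndex_mul_relIndex (⊥ : Subgroup G) (H ⊓ N) H bot_le inf_le_left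
  have e3 := Subgroup.relIndex_mul_relIndex (⊥ : Subgroup G) N (H ⊔ N) bot_le le_sup_right
  have e4 := Subgroup.relIndex_mul_relIndex (⊥ : Subgroup G) H (H ⊔ N) bot_le le_sup_left
  rw [Subgroup.inf_relIndex_right] at e1
  rw [Subgroup.inf_relIndex_left] at e2
  rw [Subgroup.relIndex_sup_right] at e3
  have hH : (⊥ : Subgroup G).relIndex H ≠ 0 := by
    rw [Subgroup.relIndex_bot_left]; exact Nat.card_pos.ne'
  have key : H.relIndex (H ⊔ N) = H.relIndex N := by
    have : (⊥ : Subgroup G).relIndex H * H.relIndex (H ⊔ N) =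
        (⊥ : Subgroup G).relIndex H * H.relIndex N := by
      rw [e4, ← e3, ← e1, ← e2]; ring
    exact Nat.eq_of_mul_eq_mul_left (Nat.pos_of_ne_zero hH) this
  rwa [key] at h1

/-- a simple subgroup is contained in a normal subgroup or meets it trivially -/
theorem simple_sub_dichotomy [Finite G] (N H : Subgroup G) [hN : N.Normal] (hH : IsSimpleGroup H) :
    H ≤ N ∨ (N ⊓ H = ⊥ ∧ Nat.card N ∣ H.index) := by
  have hn : (N.subgroupOf H).Normal := hN.subgroupOf H
  rcases hH.eq_bot_or_eq_top_of_normal _ hn with h | h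
  · right
    have hd : N ⊓ H = ⊥ := by
      rw [Subgroup.subgroupOf_eq_bot] at h; exact h.eq_bot
    refine ⟨hd, ?_⟩
    have := relIndex_dvd_index_of_normal' H N
    rw [← Subgroup.inf_relIndex_right, inf_comm, hd, Subgroup.relIndex_bot_left] at this
    exact this
  · left; exact Subgroup.subgroupOf_eq_top.1 h

/-- a normal subgroup of order 100 contains a normal subgroup of order 25 of the whole group -/
theorem normal_25_of_100 [Finite G] (N : Subgroup G) [hN : N.Normal] (h : Nat.card N = 100) :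
    ∃ P : Subgroup G, P.Normal ∧ Nat.card P = 25 := by
  have : Fact (Nat.Prime 5) := ⟨by norm_num⟩
  obtain ⟨P⟩ : Nonempty (Sylow 5 N) := inferInstance
  have hP : Nat.card P = 25 := by
    rw [P.card_eq_multiplicity, h]
    have : (100 : ℕ).factorization 5 = 2 := by
      have e : (100 : ℕ) = 5 ^ 2 * 4 := by norm_num
      rw [e, Nat.factorization_mul (by norm_num) (by norm_num), Nat.Prime.factorization_pow (by norm_num)]
      simp
      rw [Nat.factorization_eq_zero_of_not_dvd (by norm_num)]
    rw [this]; norm_num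
  have hidx : (P : Subgroup N).index = 4 := by
    have := (P : Subgroup N).card_mul_index
    rw [h] at this
    have hP' : Nat.card (P : Subgroup N) = 25 := hP
    rw [hP'] at this
    omega
  have h1 := card_sylow_modEq_one 5 N
  have h2 := P.card_dvd_index
  rw [hidx] at h2
  have h3 : Nat.card (Sylow 5 N) = 1 := by
    have hle : Nat.card (Sylow 5 N) ≤ 4 := Nat.le_of_dvd (by norm_num) h2
    have hmod : Nat.card (Sylow 5 N) % 5 = 1 := h1
    omega
  have : Subsingleton (Sylow 5 N) := (Nat.card_eq_one_iff_unique.1 h3).1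
  have : (P : Subgroup N).Characteristic := Sylow.characteristic_of_subsingleton P
  refine ⟨(P : Subgroup N).map N.subtype, ConjAct.normal_of_characteristic_of_normal, ?_⟩
  rw [Subgroup.card_map_of_injective N.subtype_injective]
  exact hP

end grp

section act
variable {G : Type*} [Group G] {X : Type*} [MulAction G X]

theorem ncard_orbit_sub (N : Subgroup G) (x : X) :
    (orbit N x).ncard = (stabilizer G x).relIndex N := by
  rw [← index_stabilizer]
  rfl

theorem ncard_orbit_normal_dvd [Finite G] (N : Subgroup G) [N.Normal] (x : X) :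
    (orbit N x).ncard ∣ (orbit G x).ncard := by
  rw [ncard_orbit_sub, ← index_stabilizer]
  exact relIndex_dvd_index_of_normal' _ _

theorem card_eq_orbit_mul (N : Subgroup G) (x : X) :
    Nat.card N = Nat.card ↥(N ⊓ stabilizer G x) * (orbit N x).ncard := by
  rw [ncard_orbit_sub]
  have e1 := Subgroup.relIndex_mul_relIndex (⊥ : Subgroup G) (stabilizer G x ⊓ N) N bot_le inf_le_right
  rw [Subgroup.inf_relIndex_right, Subgroup.relIndex_bot_left, Subgroup.relIndex_bot_left] at e1
  rw [← e1, inf_comm]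

theorem card_eq_orbit_mul' (x : X) :
    Nat.card G = Nat.card ↥(stabilizer G x) * (orbit G x).ncard := by
  rw [← index_stabilizer, Subgroup.card_mul_index]

theorem orbit_sub_subset (N : Subgroup G) (x : X) : orbit N x ⊆ orbit G x := by
  rintro _ ⟨n, rfl⟩
  exact ⟨n.1, rfl⟩

theorem smul_mem_orbit_normal (N : Subgroup G) [hN : N.Normal] {x y : X} {h : G} (hh : h • x = x)
    (hy : y ∈ orbit N x) : h • y ∈ orbit N x := by
  obtain ⟨n, rfl⟩ := hy
  refine ⟨⟨h * n * h⁻¹, hN.conj_mem n n.2 h⟩, ?_⟩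
  show (h * n * h⁻¹) • x = h • ((n : G) • x)
  have : h⁻¹ • x = x := by rw [inv_smul_eq_iff, hh]
  rw [mul_smul, mul_smul, this]

theorem ncard_orbit_normal_smul (N : Subgroup G) [hN : N.Normal] (x : X) (g : G) :
    (orbit N (g • x)).ncard = (orbit N x).ncard := by
  have : orbit N (g • x) = (fun y => g • y) '' orbit N x := by
    ext y
    constructor
    · rintro ⟨n, rfl⟩
      refine ⟨(g⁻¹ * n * g) • x, ⟨⟨g⁻¹ * n * g, ?_⟩, rfl⟩, ?_⟩
      · have := hN.conj_mem n n.2 g⁻¹
        rwa [inv_inv] at this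
      · show g • ((g⁻¹ * n * g) • x) = (n : G) • (g • x)
        rw [← mul_smul, ← mul_smul]
        congr 1
        group
    · rintro ⟨_, ⟨n, rfl⟩, rfl⟩
      refine ⟨⟨g * n * g⁻¹, hN.conj_mem n n.2 g⟩, ?_⟩
      show (g * n * g⁻¹) • (g • x) = g • ((n : G) • x)
      rw [← mul_smul, ← mul_smul]
      congr 1
      group
  rw [this, Set.ncard_image_of_injective _ (MulAction.injective g)]

theorem ncard_fibers {Y : Type*} (S : Set Y) (hS : S.Finite) (f : Y → ℤ) (T : Finset ℤ) :
    {y | y ∈ S ∧ f y ∈ T}.ncard = ∑ τ ∈ T, {y | y ∈ S ∧ f y = τ}.ncard := by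
  classical
  induction T using Finset.induction_on with
  | empty => simp
  | insert a T ha ih =>
    rw [Finset.sum_insert ha, ← ih]
    have e : {y | y ∈ S ∧ f y ∈ insert a T} = {y | y ∈ S ∧ f y = a} ∪ {y | y ∈ S ∧ f y ∈ T} := by
      ext y
      simp only [Finset.mem_insert, Set.mem_ofPred_eq, Set.mem_union]
      tauto
    rw [e, Set.ncard_union_eq ?_ (hS.subset (fun y hy => hy.1)) (hS.subset (fun y hy => hy.1))]
    rw [Set.disjoint_left]
    rintro y ⟨_, h1⟩ ⟨_, h2⟩
    exact ha (h1 ▸ h2)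

/-- the orbit of a normal subgroup is a union of suborbits, of size dividing the degree -/
theorem orbit_normal_cases [Finite G] (N : Subgroup G) [N.Normal] (x : X) (f : X → ℤ)
    (vals : Finset ℤ) (c : ℤ → ℕ) (n : ℕ)
    (hn : (orbit G x).ncard = n)
    (hvals : ∀ y ∈ orbit G x, f y ∈ vals)
    (htrans : ∀ y ∈ orbit G x, ∀ y' ∈ orbit G x, f y = f y' → ∃ h : G, h • x = x ∧ h • y = y')
    (hcount : ∀ τ ∈ vals, {y | y ∈ orbit G x ∧ f y = τ}.ncard = c τ) :
    ∃ T ∈ vals.powerset, f x ∈ T ∧ (∑ τ ∈ T, c τ) ∣ n ∧ (orbit N x).ncard = ∑ τ ∈ T, c τ ∧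
      orbit N x = {y | y ∈ orbit G x ∧ f y ∈ T} := by
  classical
  have hfin : (orbit G x).Finite := Set.finite_range _
  let T := vals.filter (fun τ => ∃ y ∈ orbit N x, f y = τ)
  have hT : T ⊆ vals := Finset.filter_subset _ _
  have hO : orbit N x = {y | y ∈ orbit G x ∧ f y ∈ T} := by
    ext y
    constructor
    · intro hy
      have hy' := orbit_sub_subset N x hy
      exact ⟨hy', Finset.mem_filter.2 ⟨hvals y hy', y, hy, rfl⟩⟩
    · rintro ⟨hy, hyT⟩
      obtain ⟨_, y', hy', e⟩ := Finset.mem_filter.1 hyT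
      obtain ⟨h, hx, hh⟩ := htrans y' (orbit_sub_subset N x hy') y hy e
      rw [← hh]
      exact smul_mem_orbit_normal N hx hy'
  have hc : (orbit N x).ncard = ∑ τ ∈ T, c τ := by
    rw [hO, ncard_fibers _ hfin]
    exact Finset.sum_congr rfl (fun τ hτ => hcount τ (hT hτ))
  refine ⟨T, Finset.mem_powerset.2 hT, ?_, ?_, hc, hO⟩
  · exact Finset.mem_filter.2 ⟨hvals x (mem_orbit_self x), x, mem_orbit_self x, rfl⟩
  · rw [← hc, ← hn]
    exact ncard_orbit_normal_dvd N x

/-- simplicity from a simple point stabiliser -/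
theorem simple_of_primitive [Finite G] (x : X)
    (hs : IsSimpleGroup (stabilizer G x))
    (hprim : ∀ N : Subgroup G, N.Normal → orbit N x = {x} ∨ orbit N x = orbit G x)
    (hmove : ∃ h g : G, h • x = x ∧ h • (g • x) ≠ g • x)
    (hreg : ∀ N : Subgroup G, N.Normal → N ⊓ stabilizer G x = ⊥ →
      Nat.card N = (orbit G x).ncard → False) :
    IsSimpleGroup G := by
  have : Nontrivial G := by
    obtain ⟨a, b, hab⟩ := hs.toNontrivial
    exact ⟨a, b, fun h => hab (Subtype.ext h)⟩
  refine ⟨fun N hN => ?_⟩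
  have hle : orbit N x = {x} → N ≤ stabilizer G x := by
    intro h n hn
    have : (⟨n, hn⟩ : N) • x ∈ orbit N x := ⟨_, rfl⟩
    rw [h] at this
    exact this
  rcases simple_sub_dichotomy N (stabilizer G x) hs with h1 | ⟨h1, _⟩
  · rcases hprim N hN with h2 | h2
    · exfalso
      obtain ⟨h, g, hx, hne⟩ := hmove
      apply hne
      have h3 : g⁻¹ * h * g ∈ N := by
        have := hN.conj_mem h (h1 hx) g⁻¹
        rwa [inv_inv] at this
      have h4 : (g⁻¹ * h * g) • x = x := hle h2 h3
      rw [mul_smul, mul_smul, inv_smul_eq_iff] at h4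
      exact h4
    · right
      rw [eq_top_iff]
      intro g _
      have : g • x ∈ orbit N x := by rw [h2]; exact ⟨g, rfl⟩
      obtain ⟨n, hn⟩ := this
      have hn' : (n : G) • x = g • x := hn
      have h3 : (n : G)⁻¹ * g ∈ stabilizer G x := by
        rw [mem_stabilizer_iff, mul_smul, ← hn', inv_smul_smul]
      have := N.mul_mem n.2 (h1 h3)
      rwa [mul_inv_cancel_left] at this
  · rcases hprim N hN with h2 | h2
    · left
      rw [← h1]
      exact (inf_eq_left.2 (hle h2)).symm
    · exfalso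
      apply hreg N hN h1
      rw [card_eq_orbit_mul N x, h1, Subgroup.card_bot, one_mul, h2]

end act

end Cfsg.Agent.Lib.Helper33
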