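import Cfsg.Agent.Lib.Helper33.SimpAbs
import Cfsg.Agent.Lib.Helper33.CoRank

set_option autoImplicit false

namespace Cfsg.Agent.Lib.Helper33

open Cfsg MulAction

section
variable {A : Type*} [MulAction ↥Co0 A]

theorem OrbCls.card_stab {C : A → Set ↥leechLattice} {a₀ : A} {m : ℕ} (D : OrbCls ↥Co0 C a₀ m) {a : A}
    (ha : ∃ g : ↥Co0, g • a = a₀) {y : ↥leechLattice} (hy : y ∈ C a) :
    Nat.card ↥(stabilizer ↥Co0 a) = Nat.card ↥(stabilizer ↥Co0 (a, y)) * m := by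
  rw [card_eq_orbit_mul (stabilizer ↥Co0 a) y, stab_prod, D.orbit_eq ha hy, D.count' ha]

theorem simple_stab_conj {a b : A} (h : ∃ g : ↥Co0, g • a = b) (hs : IsSimpleGroup ↥(stabilizer ↥Co0 b)) :
    IsSimpleGroup ↥(stabilizer ↥Co0 a) := by
  obtain ⟨g, hg⟩ := h
  exact (stabilizerEquivStabilizer hg.symm).isSimpleGroup_congr.2 hs

theorem card_stab_conj {a b : A} (h : ∃ g : ↥Co0, g • a = b) :
    Nat.card ↥(stabilizer ↥Co0 a) = Nat.card ↥(stabilizer ↥Co0 b) := by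
  obtain ⟨g, hg⟩ := h
  exact Nat.card_congr (stabilizerEquivStabilizer hg.symm).toEquiv

/-- the stabiliser of `x` in the stabiliser of `a` -/
def stabStabEquiv (K : Subgroup ↥Co0) (a : A) (hK : K = stabilizer ↥Co0 a) (x : ↥leechLattice) :
    ↥(stabilizer ↥K x) ≃* ↥(stabilizer ↥Co0 (a, x)) where
  toFun g := ⟨g.1.1, by
    have h1 : g.1.1 • a = a := by
      have h0 : ∀ k : ↥Co0, k ∈ K → k • a = a := by
        intro k hk
        rw [hK] at hk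
        exact hk
      exact h0 _ g.1.2
    have h2 : g.1.1 • x = x := g.2
    rw [mem_stabilizer_iff, Prod.smul_mk, h1, h2]⟩
  invFun g := ⟨⟨g.1, by
    have := g.2
    rw [mem_stabilizer_iff, Prod.smul_mk, Prod.mk.injEq] at this
    rw [hK]
    exact this.1⟩, by
    have := g.2
    rw [mem_stabilizer_iff, Prod.smul_mk, Prod.mk.injEq] at this
    exact this.2⟩
  left_inv _ := rfl
  right_inv _ := rfl
  map_mul' _ _ := rfl

theorem prim_of_classes [Finite ↥Co0] (C : A → Set ↥leechLattice) (a₀ : A) (x₀ : ↥leechLattice) (n : ℕ)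
    (D : OrbCls ↥Co0 C a₀ n) (hL2 : ∀ a, C a ⊆ L2) (hx₀ : x₀ ∈ C a₀) (vals : Finset ℤ) (c : ℤ → ℕ)
    (hc32 : c 32 = 1)
    (hcls : ∀ τ ∈ vals, τ ≠ 32 →
      OrbCls ↥Co0 (fun p : A × ↥leechLattice => {y | y ∈ C p.1 ∧ ldot p.2 y = τ}) (a₀, x₀) (c τ))
    (hsum : ∑ τ ∈ vals, c τ = n)
    {a : A} (ha : ∃ g : ↥Co0, g • a = a₀) {x : ↥leechLattice} (hx : x ∈ C a)
    (K : Subgroup ↥Co0) (hK : K = stabilizer ↥Co0 a) (N : Subgroup ↥K) [N.Normal] :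
    ∃ T ∈ vals.powerset, (32 : ℤ) ∈ T ∧ (∑ τ ∈ T, c τ) ∣ n ∧ (orbit N x).ncard = ∑ τ ∈ T, c τ ∧
      orbit N x = {y | y ∈ C a ∧ ldot x y ∈ T} := by
  subst hK
  have horb : orbit ↥(stabilizer ↥Co0 a) x = C a := D.orbit_eq ha hx
  have hax : ∃ g : ↥Co0, g • (a, x) = (a₀, x₀) := D.ext ha hx hx₀
  have hcount : ∀ τ ∈ vals, {y | y ∈ C a ∧ ldot x y = τ}.ncard = c τ := by
    intro τ hτ
    by_cases h : τ = 32
    · subst h; rw [ncard_fiber32 hx (hL2 a), hc32]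
    · exact (hcls τ hτ h).count' hax
  have hfin : (C a).Finite := by rw [← horb]; exact Set.finite_range _
  have hvals : ∀ y ∈ C a, ldot x y ∈ vals :=
    fiber_cover (C a) hfin (fun y => ldot x y) vals (by
      rw [Finset.sum_congr rfl hcount, hsum, D.count' ha])
  have key := orbit_normal_cases N x (fun y => ldot x y) vals c n (by rw [horb]; exact D.count' ha)
    (by rw [horb]; exact hvals) (by
      rw [horb]
      intro y hy y' hy' e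
      by_cases h : ldot x y = 32
      · have e1 := eq_of_ldot_32 (hL2 a hx) (hL2 a hy) h
        have e2 := eq_of_ldot_32 (hL2 a hx) (hL2 a hy') (e ▸ h)
        exact ⟨1, one_smul _ _, by rw [one_smul, e1, e2]⟩
      · obtain ⟨g, hg, hg'⟩ := (hcls _ (hvals y hy) h).trans' hax (y := y) (z := y') ⟨hy, rfl⟩ ⟨hy', e.symm⟩
        rw [Prod.smul_mk, Prod.mk.injEq] at hg
        exact ⟨⟨g, hg.1⟩, hg.2, hg'⟩) (by rw [horb]; exact hcount)
  rw [horb] at key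
  have h32 : ldot x x = 32 := (mem_L2_iff x).1 (hL2 a hx)
  simp only [h32] at key
  exact key

theorem prim_concl [Finite ↥Co0] (C : A → Set ↥leechLattice) (a₀ : A) (x₀ : ↥leechLattice) (n : ℕ)
    (D : OrbCls ↥Co0 C a₀ n) (hL2 : ∀ a, C a ⊆ L2) (hx₀ : x₀ ∈ C a₀) (vals : Finset ℤ) (c : ℤ → ℕ)
    (hc32 : c 32 = 1)
    (hcls : ∀ τ ∈ vals, τ ≠ 32 →
      OrbCls ↥Co0 (fun p : A × ↥leechLattice => {y | y ∈ C p.1 ∧ ldot p.2 y = τ}) (a₀, x₀) (c τ))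
    (hsum : ∑ τ ∈ vals, c τ = n)
    (harith : ∀ T ∈ vals.powerset, (32 : ℤ) ∈ T → (∑ τ ∈ T, c τ) ∣ n → T = {32} ∨ T = vals)
    {a : A} (ha : ∃ g : ↥Co0, g • a = a₀) {x : ↥leechLattice} (hx : x ∈ C a)
    (K : Subgroup ↥Co0) (hK : K = stabilizer ↥Co0 a) (N : Subgroup ↥K) [N.Normal] :
    orbit N x = {x} ∨ orbit N x = orbit ↥K x := by
  obtain ⟨T, hT, h32, hdvd, hcard, _⟩ := prim_of_classes C a₀ x₀ n D hL2 hx₀ vals c hc32 hcls hsum ha hx K hK N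
  rcases harith T hT h32 hdvd with h | h
  · left
    rw [h, Finset.sum_singleton, hc32] at hcard
    obtain ⟨z, hz⟩ := Set.ncard_eq_one.1 hcard
    have : x ∈ orbit N x := mem_orbit_self x
    rw [hz] at this
    rw [hz, Set.mem_singleton_iff.1 this]
  · right
    apply Set.eq_of_subset_of_ncard_le (orbit_sub_subset N x) _ (Set.finite_range _)
    rw [hcard, h, hsum]
    subst hK
    rw [D.orbit_eq ha hx, D.count' ha]

theorem move_of_class (C : A → Set ↥leechLattice) (a₀ : A) (x₀ : ↥leechLattice) (n : ℕ)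
    (D : OrbCls ↥Co0 C a₀ n) (hx₀ : x₀ ∈ C a₀) (τ : ℤ) (m : ℕ) (hm : 2 ≤ m)
    (D' : OrbCls ↥Co0 (fun p : A × ↥leechLattice => {y | y ∈ C p.1 ∧ ldot p.2 y = τ}) (a₀, x₀) m)
    {a : A} (ha : ∃ g : ↥Co0, g • a = a₀) {x : ↥leechLattice} (hx : x ∈ C a)
    (K : Subgroup ↥Co0) (hK : K = stabilizer ↥Co0 a) :
    ∃ h g : ↥K, h • x = x ∧ h • (g • x) ≠ g • x := by
  subst hK
  have hax : ∃ g : ↥Co0, g • (a, x) = (a₀, x₀) := D.ext ha hx hx₀
  have hc := D'.count' hax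
  have h1 : 1 < {y | y ∈ C a ∧ ldot x y = τ}.ncard := by
    have : {y | y ∈ C a ∧ ldot x y = τ}.ncard = m := hc
    omega
  obtain ⟨y, y', hy, hy', hne⟩ := (Set.one_lt_ncard_iff (Set.finite_of_ncard_ne_zero (by omega))).1 h1
  obtain ⟨g0, hg0, hg1⟩ := D'.trans' hax (y := y) (z := y') hy hy'
  rw [Prod.smul_mk, Prod.mk.injEq] at hg0
  have hyo : y ∈ orbit ↥(stabilizer ↥Co0 a) x := by rw [D.orbit_eq ha hx]; exact hy.1
  obtain ⟨g, hg⟩ := hyo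
  refine ⟨⟨g0, hg0.1⟩, g, hg0.2, ?_⟩
  have hg' : g • x = y := hg
  rw [hg']
  show g0 • y ≠ y
  rw [hg1]
  exact hne.symm

theorem cls3_conv {τ₀ τ₁ τ : ℤ} {b : (↥leechLattice × ↥leechLattice) × ↥leechLattice} {m : ℕ}
    (D : OrbCls ↥Co0 (C3 τ₀ τ₁ τ) b m) :
    OrbCls ↥Co0 (fun p : (↥leechLattice × ↥leechLattice) × ↥leechLattice =>
      {y | y ∈ C2 τ₀ τ₁ p.1 ∧ ldot p.2 y = τ}) b m := by
  have : (fun p : (↥leechLattice × ↥leechLattice) × ↥leechLattice =>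
      {y | y ∈ C2 τ₀ τ₁ p.1 ∧ ldot p.2 y = τ}) = C3 τ₀ τ₁ τ := by
    funext p
    exact fiberC3 τ₀ τ₁ τ p.1 p.2
  rw [this]; exact D

theorem cls2_conv {τ₀ τ : ℤ} {b : ↥leechLattice × ↥leechLattice} {m : ℕ}
    (D : OrbCls ↥Co0 (C2 τ₀ τ) b m) :
    OrbCls ↥Co0 (fun p : ↥leechLattice × ↥leechLattice =>
      {y | y ∈ C1 τ₀ p.1 ∧ ldot p.2 y = τ}) b m := by
  have : (fun p : ↥leechLattice × ↥leechLattice =>
      {y | y ∈ C1 τ₀ p.1 ∧ ldot p.2 y = τ}) = C2 τ₀ τ := by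
    funext p
    exact fiberC2 τ₀ τ p.1 p.2
  rw [this]; exact D

end

end Cfsg.Agent.Lib.Helper33
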