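import Mathlib

/-! Enumerated closures, graph of an isomorphism, Sylow subgroups of known order. -/

set_option autoImplicit false

namespace Cfsg.Agent.Lib.Helper33.Syl

theorem closure_eq_range {G : Type*} [Group G] {n r : ℕ} (L : Fin n → G) (a : Fin r → G)
    (τ : Fin n → Fin r → Fin n) (i0 : Fin n) (w : Fin n → List (Fin r))
    (h0 : L i0 = 1) (ha : ∀ k, a k * a k = 1) (ht : ∀ i k, L i * a k = L (τ i k))
    (hw : ∀ i, (w i).foldl τ i0 = i) :
    ((Subgroup.closure (Set.range a) : Subgroup G) : Set G) = Set.range L := by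
  apply Set.Subset.antisymm
  · intro x hx
    induction hx using Subgroup.closure_induction_right with
    | one => exact ⟨i0, h0⟩
    | mul_right x y _ hy ih =>
      obtain ⟨i, rfl⟩ := ih
      obtain ⟨k, rfl⟩ := hy
      exact ⟨τ i k, (ht i k).symm⟩
    | mul_inv_cancel x y _ hy ih =>
      obtain ⟨i, rfl⟩ := ih
      obtain ⟨k, rfl⟩ := hy
      have : (a k)⁻¹ = a k := inv_eq_of_mul_eq_one_left (ha k)
      rw [this]
      exact ⟨τ i k, (ht i k).symm⟩
  · rintro _ ⟨i, rfl⟩
    have key : ∀ (l : List (Fin r)) (j : Fin n), L j ∈ Subgroup.closure (Set.range a) →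
        L (l.foldl τ j) ∈ Subgroup.closure (Set.range a) := by
      intro l
      induction l with
      | nil => intro j hj; exact hj
      | cons k l ih =>
        intro j hj
        rw [List.foldl_cons]
        apply ih
        rw [← ht]
        exact Subgroup.mul_mem _ hj (Subgroup.subset_closure ⟨k, rfl⟩)
    have := key (w i) i0 (by rw [h0]; exact Subgroup.one_mem _)
    rwa [hw] at this

theorem graph_iso {G1 G2 : Type*} [Group G1] [Group G2] {n r : ℕ} (L1 : Fin n → G1)
    (L2 : Fin n → G2) (a : Fin r → G1) (b : Fin r → G2)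
    (τ : Fin n → Fin r → Fin n) (i0 : Fin n) (w : Fin n → List (Fin r))
    (h01 : L1 i0 = 1) (h02 : L2 i0 = 1) (ha : ∀ k, a k * a k = 1) (hb : ∀ k, b k * b k = 1)
    (ht1 : ∀ i k, L1 i * a k = L1 (τ i k)) (ht2 : ∀ i k, L2 i * b k = L2 (τ i k))
    (hw : ∀ i, (w i).foldl τ i0 = i) (inj1 : Function.Injective L1)
    (inj2 : Function.Injective L2) :
    ∃ (H1 : Subgroup G1) (H2 : Subgroup G2), Nat.card H1 = n ∧ Nat.card H2 = n ∧
      Nonempty (H1 ≃* H2) := by
  let D : Subgroup (G1 × G2) := Subgroup.closure (Set.range fun k => (a k, b k))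
  have hD : (D : Set (G1 × G2)) = Set.range (fun i => (L1 i, L2 i)) :=
    closure_eq_range (fun i => (L1 i, L2 i)) (fun k => (a k, b k)) τ i0 w
      (by simp [h01, h02]) (fun k => by simp [ha, hb])
      (fun i k => by simp [ht1, ht2]) hw
  have hinjL : Function.Injective (fun i => (L1 i, L2 i)) := fun i j h => inj1 (congrArg Prod.fst h)
  have hcD : Nat.card D = n := by
    have h1 : Nat.card D = Nat.card (Set.range (fun i => (L1 i, L2 i))) :=
      Nat.card_congr (Equiv.setCongr hD)
    rw [h1, Nat.card_range_of_injective hinjL, Nat.card_fin]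
  let f1 : D →* G1 := (MonoidHom.fst G1 G2).comp D.subtype
  let f2 : D →* G2 := (MonoidHom.snd G1 G2).comp D.subtype
  have hmem : ∀ x : D, ∃ i, (x : G1 × G2) = (L1 i, L2 i) := by
    intro x
    have : (x : G1 × G2) ∈ (D : Set (G1 × G2)) := x.2
    rw [hD] at this
    obtain ⟨i, hi⟩ := this
    exact ⟨i, hi.symm⟩
  have hf1 : Function.Injective f1 := by
    intro x y hxy
    obtain ⟨i, hi⟩ := hmem x
    obtain ⟨j, hj⟩ := hmem y
    have h1 : (x : G1 × G2).1 = (y : G1 × G2).1 := hxy
    rw [hi, hj] at h1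
    have := inj1 h1
    apply Subtype.ext
    rw [hi, hj, this]
  have hf2 : Function.Injective f2 := by
    intro x y hxy
    obtain ⟨i, hi⟩ := hmem x
    obtain ⟨j, hj⟩ := hmem y
    have h1 : (x : G1 × G2).2 = (y : G1 × G2).2 := hxy
    rw [hi, hj] at h1
    have := inj2 h1
    apply Subtype.ext
    rw [hi, hj, this]
  refine ⟨f1.range, f2.range, ?_, ?_, ⟨(f1.ofInjective hf1).symm.trans (f2.ofInjective hf2)⟩⟩
  · rw [← Nat.card_congr (f1.ofInjective hf1).toEquiv, hcD]
  · rw [← Nat.card_congr (f2.ofInjective hf2).toEquiv, hcD]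

theorem sylow_equiv {G : Type*} [Group G] [Finite G] (p k : ℕ) [Fact p.Prime] (H : Subgroup G)
    (hH : Nat.card H = p ^ k) (hG : ¬ p ^ (k + 1) ∣ Nat.card G) (P : Sylow p G) :
    Nonempty (↥(P : Subgroup G) ≃* H) := by
  have hpg : IsPGroup p H := IsPGroup.of_card hH
  obtain ⟨Q, hQ⟩ := hpg.exists_le_sylow
  have hcQ := Sylow.card_eq_multiplicity Q
  have hv : (Nat.card G).factorization p ≤ k := by
    by_contra hlt
    have hlt := not_le.mp hlt
    apply hG
    exact (pow_dvd_pow p hlt).trans (Nat.ordProj_dvd _ _)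
  have hle : Nat.card (Q : Subgroup G) ≤ Nat.card H := by
    rw [hcQ, hH]
    exact Nat.pow_le_pow_right (Fact.out : p.Prime).pos hv
  have heq : H = (Q : Subgroup G) := Subgroup.eq_of_le_of_card_ge hQ hle
  exact ⟨(Sylow.equiv P Q).trans (MulEquiv.subgroupCongr heq.symm)⟩

end Cfsg.Agent.Lib.Helper33.Syl
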