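import Cfsg.Agent.Lib.Helper33.SylA
import Cfsg.Agent.Lib.Helper43.PSpRank
import Cfsg.Agent.S0245

set_option autoImplicit false
set_option linter.unusedSectionVars false
set_option maxRecDepth 100000
open Cfsg

namespace Cfsg.Agent.Lib.Helper33.Syl.A

abbrev J4 := Fin 2 ⊕ Fin 2
def jx : J4 → ℕ := Sum.elim (fun i => i.val) (fun i => 2 + i.val)

def cL : List ℕ := [14408200, 572292, 17555544, 15959034, 9959817, 5157057, 10807509, 1657747, 6024621, 3249883, 3315502, 710049, 3322072, 1240761, 6221478, 6241188, 9605493, 31904208, 5689308, 5709018, 4822443, 30307698, 32022316, 17673652, 28711431, 9940107, 16070572, 30419236, 14362281, 5176767, 5354694, 10669752, 1457328, 906906, 10275339, 28757350, 10137582, 5886864, 926616, 1437618, 5492451, 14473819, 28822969, 17601463, 16004953, 1729936, 1103004, 14480389, 28829539, 30353617, 31950127, 1723366, 10491906, 10472196,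 9743250, 4960200, 11004366, 11024076, 30425806, 16077142, 3203964, 1611828, 32015746, 17667082]

def tauL : List ℕ := [1, 2, 3, 0, 4, 5, 6, 0, 7, 8, 9, 0, 10, 1, 11, 12, 13, 1, 2, 14, 15, 16, 17, 2, 3, 18, 19, 20, 3, 21, 4, 22, 23, 24, 25, 4, 5, 26, 27, 28, 5, 29, 22, 6, 30, 26, 31, 6, 7, 32, 33, 34, 7, 35, 23, 8, 36, 27, 37, 8, 9, 38, 39, 40, 35, 9, 14, 10, 41, 18, 42, 10, 11, 43, 44, 45, 11, 46, 15, 12, 47, 19, 48, 12, 13, 49, 50, 51, 46, 13, 43, 52, 14, 49, 15, 53, 41, 16, 54, 47, 55, 16, 17, 56, 57, 46, 21, 17, 44, 57, 18, 50, 19, 56, 42, 20, 55, 48, 54, 20, 21, 53, 52, 32, 58, 22, 38, 23, 59, 30, 24, 60, 36, 61, 24, 25, 62, 63, 35, 29, 25, 33, 63, 26, 39, 27, 62, 31, 28, 61, 37, 60, 28, 29, 59, 58, 62, 30, 40, 59, 40, 31, 60, 39, 32, 61, 33, 38, 58, 34, 37, 63, 36, 34, 56, 41, 51, 53, 51, 42, 54, 50, 43, 55, 44, 49, 52, 45, 48, 57, 47, 45]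

def wL : List (List ℕ) := [[], [0], [1], [2], [0, 1], [0, 2], [1, 0], [1, 2], [2, 0], [2, 1], [0, 1, 0], [0, 1, 2], [0, 2, 0], [0, 2, 1], [1, 0, 1], [1, 0, 2], [1, 2, 0], [1, 2, 1], [2, 0, 1], [2, 0, 2], [2, 1, 0], [2, 1, 2], [0, 1, 0, 1], [0, 1, 0, 2], [0, 1, 2, 0], [0, 1, 2, 1], [0, 2, 0, 1], [0, 2, 0, 2], [0, 2, 1, 0], [0, 2, 1, 2], [1, 0, 1, 2], [1, 0, 2, 1], [1, 2, 0, 1], [1, 2, 0, 2], [1, 2, 1, 0], [1, 2, 1, 2], [2, 0, 1, 2], [2, 0, 2, 1], [2, 1, 0, 1], [2, 1, 0, 2], [2, 1, 2, 0], [0, 1, 0, 1, 2], [0, 1, 0, 2, 1], [0, 1, 2, 0, 1], [0, 1, 2, 0, 2], [0, 1, 2, 1, 0], [0, 1, 2, 1, 2], [0, 2, 0, 1, 2], [0, 2, 0, 2, 1], [0, 2, 1, 0, 1], [0, 2, 1, 0, 2], [0, 2, 1, 2, 0], [1, 0, 1, 2, 1], [1, 0, 2, 1, 2], [1, 2, 0, 1, 2], [1, 2, 0, 2, 1], [1, 2, 1, 0, 1], [1, 2, 1, 0, 2], [0, 1, 0, 1, 2, 1], [0, 1, 0, 2, 1, 2], [0, 1, 2, 0, 1, 2], [0, 1, 2, 0, 2, 1], [0, 1, 2, 1,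 0, 1], [0, 1, 2, 1, 0, 2]]

def Mx (i : Fin 64) : Matrix J4 J4 (ZMod 3) :=
  fun r c => ((cL.getD i.val 0 / 3 ^ (4 * jx r + jx c) % 3 : ℕ) : ZMod 3)
def τ (i : Fin 64) (k : Fin 3) : Fin 64 := Fin.ofNat 64 (tauL.getD (3 * i.val + k.val) 0)
def w (i : Fin 64) : List (Fin 3) := (wL.getD i.val []).map (Fin.ofNat 3)

theorem hw : ∀ i, (w i).foldl τ 0 = i := by decide +kernel
theorem hτ : ∀ k, τ (τ 0 k) k = 0 := by decide +kernel
theorem hmem : ∀ i, Mx i * Matrix.J (Fin 2) (ZMod 3) * (Mx i).transpose = Matrix.J (Fin 2) (ZMod 3) := by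
  decide +kernel
theorem hone : Mx 0 = 1 := by decide +kernel
theorem hT : ∀ i k, Mx i * Mx (τ 0 k) = Mx (τ i k) ∨ Mx i * Mx (τ 0 k) = - Mx (τ i k) := by
  decide +kernel
theorem hI : ∀ i j, (Mx i = Mx j ∨ Mx j = - Mx i) → i = j := by decide +kernel

def b0 : Fin 3 → Equiv.Perm (Fin 8)
  | 0 => Equiv.swap 0 1 * Equiv.swap 2 3 * Equiv.swap 4 7 * Equiv.swap 5 6
  | 1 => Equiv.swap 0 7 * Equiv.swap 1 6 * Equiv.swap 2 4 * Equiv.swap 3 5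
  | 2 => Equiv.swap 0 5 * Equiv.swap 1 4 * Equiv.swap 2 7 * Equiv.swap 3 6

theorem hb0 : ∀ k, b0 k ∈ alternatingGroup (Fin 8) := by
  intro k
  rw [Equiv.Perm.mem_alternatingGroup]
  fin_cases k <;> decide +kernel

def b (k : Fin 3) : ↥(alternatingGroup (Fin 8)) := ⟨b0 k, hb0 k⟩
def L20 (i : Fin 64) : Equiv.Perm (Fin 8) := ((w i).map b0).prod
def L2 (i : Fin 64) : ↥(alternatingGroup (Fin 8)) := ((w i).map b).prod

theorem L2_coe (i : Fin 64) : ((L2 i : ↥(alternatingGroup (Fin 8))) : Equiv.Perm (Fin 8)) = L20 i := by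
  have : ∀ l : List (Fin 3), (((l.map b).prod : ↥(alternatingGroup (Fin 8))) : Equiv.Perm (Fin 8))
      = (l.map b0).prod := by
    intro l
    induction l with
    | nil => rfl
    | cons k l ih => simp only [List.map_cons, List.prod_cons, Subgroup.coe_mul, ih]; rfl
  exact this _

theorem hb' : ∀ k, b0 k * b0 k = 1 := by decide +kernel
theorem h02' : L20 0 = 1 := by decide +kernel
theorem ht2' : ∀ i k, L20 i * b0 k = L20 (τ i k) := by decide +kernel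
theorem inj2' : ∀ i j, L20 i = L20 j → i = j := by decide +kernel

end Cfsg.Agent.Lib.Helper33.Syl.A
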